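import Cfsg.Agent.DS.Gen.Split
import Cfsg.Agent.DS.Cl.Grp
import Cfsg.Agent.H197.Ab.TorLift
import Cfsg.Agent.H129.TorusChar
import Cfsg.Agent.H752.EP.Torus
import Cfsg.Agent.S1092
import Cfsg.Agent.S1093
import Cfsg.Agent.Prune
set_option linter.all false

section
prune_inst 0x7f00000000000000000000000000000000000000000000000000000000000000000000000000000000000000000000000000000000000000000000000000000000000000000000000000000000000000003fffffffffffffffffffffffffffbeffbdffffffff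

-- part: DS/NT/StepA
section
set_option linter.all false
open scoped Cfsg.Agent.FastGrp

/-!
# Non-toral local subgroups, Step A (helper98)

`ps_fit`: if all the normal `r`-subgroups of `X` inside `D` are abelian and centralized by `Y⁽ᵃ⁾` for the solvable
subgroups `Y`, then `PS (1 + a) X`.  `stepA`: the form for almost simple groups.
-/

set_option autoImplicit false

namespace Cfsg.Agent.DS.NT

open Cfsg.Agent.H936 Cfsg.Agent.DS.Red Cfsg.Agent.DS.Gen Cfsg.Agent.DS.Cl Subgroup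
open scoped commutatorElement IsMulCommutative

/-- the elementary abelian `r`-subgroups of `X` have rank at most `n` -/
def RankLe (X : Type*) [Group X] (r n : ℕ) : Prop :=
  ∀ A : Subgroup X, (∀ x ∈ A, ∀ y ∈ A, x * y = y * x) → (∀ x ∈ A, x ^ r = 1) → Nat.card A ≤ r ^ n

theorem RankLe.of_inj {X Z : Type*} [Group X] [Group Z] {r n : ℕ} (f : Z →* X) (hf : Function.Injective f)
    (h : RankLe X r n) : RankLe Z r n := by
  intro A hc hp
  rw [Nat.card_congr (A.equivMapOfInjective f hf).toEquiv]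
  refine h _ ?_ ?_
  · rintro _ ⟨x, hx, rfl⟩ _ ⟨y, hy, rfl⟩
    rw [← map_mul, hc x hx y hy, map_mul]
  · rintro _ ⟨x, hx, rfl⟩
    rw [← map_pow, hp x hx, map_one]

/-- A central extension of `U ^ k` has `r`-rank at least `k`. -/
theorem le_of_rankLe {N U : Type*} [Group N] [Finite N] [Group U] [Finite U] (hU : PS 0 U) {k r n : ℕ} (hr : r.Prime)
    (hd : r ∣ Nat.card U) (f : N →* (Fin k → U)) (hf : Function.Surjective f)
    (hker : ∀ z, f z = 1 → ∀ x, x * z = z * x) (h : RankLe N r n) : k ≤ n := by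
  classical
  have : Fact r.Prime := ⟨hr⟩
  obtain ⟨u, hu⟩ := exists_prime_orderOf_dvd_card' r hd
  let L : Fin k → Subgroup N := fun i => (MonoidHom.mulSingle (fun _ : Fin k => U) i).range.comap f
  have h1 : ∀ i j, i ≠ j → ⁅L i, L j⁆ ≤ center N := by
    intro i j hij
    rw [commutator_le]
    rintro x ⟨a, ha⟩ y ⟨b, hb⟩
    rw [mem_center_iff]
    refine hker _ ?_
    rw [map_commutatorElement, ← ha, ← hb, commutatorElement_eq_one_iff_mul_comm]
    exact (Pi.mulSingle_commute (f := fun _ : Fin k => U) hij a b).eq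
  have h2 : ∀ i j, i ≠ j → ⁅⁅L i, L i⁆, L j⁆ = ⊥ := by
    intro i j hij
    refine commutator_commutator_eq_bot_of_rotate ?_ ?_
    · rw [commutator_eq_bot_iff_le_centralizer]
      exact (h1 i j hij).trans (center_le_centralizer _)
    · rw [commutator_eq_bot_iff_le_centralizer]
      exact (h1 j i hij.symm).trans (center_le_centralizer _)
  have h3 : ∀ i, ∃ x ∈ ⁅L i, L i⁆, f x = Pi.mulSingle i u := by
    intro i
    have h4 : (⁅L i, L i⁆).map f = (MonoidHom.mulSingle (fun _ : Fin k => U) i).range := by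
      rw [Subgroup.map_commutator, map_comap_eq_self_of_surjective hf, MonoidHom.range_eq_map,
        ← Subgroup.map_commutator, show (⁅⊤, ⊤⁆ : Subgroup U) = ⊤ from hU]
    have h5 : Pi.mulSingle i u ∈ (⁅L i, L i⁆).map f := by rw [h4]; exact ⟨u, rfl⟩
    exact h5
  choose x hx hfx using h3
  have hcomm : ∀ a ∈ Set.range x, ∀ b ∈ Set.range x, a * b = b * a := by
    rintro _ ⟨i, rfl⟩ _ ⟨j, rfl⟩
    by_cases hij : i = j
    · rw [hij]
    · have h4 := commutator_eq_bot_iff_le_centralizer.1 (h2 i j hij) (hx i)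
      exact (mem_centralizer_iff.1 h4 _ (commutator_le_self _ (hx j))).symm
  let B := closure (Set.range x)
  have : IsMulCommutative B := isMulCommutative_closure hcomm
  let g : B →* (Fin k → U) := f.comp B.subtype
  let P : B →* B := powMonoidHom r
  have h4 : P.range ≤ g.ker := by
    rintro _ ⟨b, rfl⟩
    have h5 : ∀ b ∈ B, ∀ i, f b i ∈ zpowers u := by
      intro b hb
      induction hb using closure_induction with
      | mem y hy =>
        obtain ⟨j, rfl⟩ := hy
        intro i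
        rw [hfx]
        by_cases hij : i = j
        · subst hij
          rw [Pi.mulSingle_eq_same]
          exact mem_zpowers u
        · rw [Pi.mulSingle_eq_of_ne hij]
          exact one_mem _
      | one => intro i; rw [map_one]; exact one_mem _
      | mul a b _ _ ha hb => intro i; rw [map_mul]; exact mul_mem (ha i) (hb i)
      | inv a _ ha => intro i; rw [map_inv]; exact inv_mem (ha i)
    rw [MonoidHom.mem_ker]
    change g (b ^ r) = 1
    rw [map_pow]
    funext i
    obtain ⟨m, hm⟩ := h5 b b.2 i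
    change (f b i) ^ r = 1
    rw [← hm, ← zpow_natCast, ← zpow_mul, mul_comm, zpow_mul, zpow_natCast, ← hu, pow_orderOf_eq_one, one_zpow]
  have h5 : r ^ k ≤ Nat.card g.range := by
    have h6 : Nat.card (Fin k → zpowers u) = r ^ k := by
      rw [Nat.card_fun, Nat.card_zpowers, hu, Nat.card_eq_fintype_card, Fintype.card_fin]
    rw [← h6]
    refine Nat.card_le_card_of_injective (fun v => ⟨fun i => v i, ?_⟩) ?_
    · refine pi_mem_of_mulSingle_mem _ fun i => ?_
      obtain ⟨m, hm⟩ := (v i).2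
      refine ⟨⟨x i, subset_closure ⟨i, rfl⟩⟩ ^ m, ?_⟩
      rw [map_zpow]
      change f (x i) ^ m = _
      rw [hfx, ← hm]
      exact (map_zpow (MonoidHom.mulSingle (fun _ : Fin k => U) i) u m).symm
    · intro v w hvw
      funext i
      exact Subtype.ext (congrFun (congrArg Subtype.val hvw) i)
  have h6 : Nat.card g.range ≤ Nat.card P.ker := by
    rw [← index_ker, ← index_range]
    exact index_antitone h4
  have h7 := h (P.ker.map B.subtype) (by
    rintro _ ⟨a, -, rfl⟩ _ ⟨b, -, rfl⟩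
    exact congrArg Subtype.val (mul_comm a b)) (by
    rintro _ ⟨a, ha, rfl⟩
    exact congrArg Subtype.val (show a ^ r = 1 from ha))
  rw [← Nat.card_congr (P.ker.equivMapOfInjective _ B.subtype_injective).toEquiv] at h7
  exact (Nat.pow_le_pow_iff_right hr.one_lt).1 (h5.trans (h6.trans h7))

/-- `PS` from the solvable subgroups, modulo a perfect subgroup. -/
theorem ps_of_sol {k : ℕ} {X : Type*} [Group X] [Finite X] {M : Subgroup X} (hM : M ≤ ⁅M, M⁆)
    (h : ∀ Y : Subgroup X, Group.IsSolvable Y → dS Y k ≤ M) : PS k X := by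
  obtain ⟨m, hm⟩ := exists_ps X
  have hR : Group.IsSolvable (X ⧸ derivedSeries X m) := by
    refine ⟨⟨m, ?_⟩⟩
    rw [← map_derivedSeries_of_surj (QuotientGroup.mk'_surjective (derivedSeries X m)) m, Subgroup.map_eq_bot_iff,
      QuotientGroup.ker_mk']
  obtain ⟨Y, hY, hsup⟩ := exists_solvable_supplement (derivedSeries X m) hR
  have h1 : ∀ j, derivedSeries X j ≤ derivedSeries X m ⊔ dS Y j := by
    intro j
    induction j with
    | zero => rw [dS_zero, hsup]; exact le_top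
    | succ j ih =>
      rw [derivedSeries_succ, dS_succ]
      exact (commutator_mono ih ih).trans (commutator_sup_normal _ _)
  have h2 : ∀ j, M ≤ derivedSeries X j := by
    intro j
    induction j with
    | zero => exact le_top
    | succ j ih => exact hM.trans (commutator_mono ih ih)
  refine le_antisymm (derivedSeries_antitone X (Nat.le_succ _)) ((h1 k).trans (sup_le ?_ ((h Y hY).trans (h2 _))))
  rw [← hm.eq (le_max_left m (k + 1))]
  exact derivedSeries_antitone X (le_max_right m (k + 1))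

/-- The socle of `D`, when `D` contains no non-trivial abelian normal subgroup of `X`. -/
theorem exists_core (big : Big) {X : Type} [Group X] [Finite X] (D : Subgroup X) [D.Normal] {c : ℕ}
    (hab : ∀ A : Subgroup X, A.Normal → A ≤ D → (∀ x ∈ A, ∀ y ∈ A, x * y = y * x) → A = ⊥)
    (hk : ∀ (U : Type) [Group U] [Finite U] [IsSimpleGroup U], ¬ IsMulCommutative U →
      ∀ (k : ℕ) (f : (Fin k → U) →* D), Function.Injective f → SD c (Equiv.Perm (Fin k))) :
    ∃ M : Subgroup X, M ≤ ⁅M, M⁆ ∧ ∀ Y : Subgroup X, Group.IsSolvable Y → dS Y (c + 3) ⊓ D ≤ M := by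
  classical
  have hstr : ∀ N : {N // MinIn D N}, ∃ (T : Subgroup X) (m : ℕ), IsSimpleGroup T ∧ ¬ IsMulCommutative T ∧
      Nonempty (N.1 ≃* (Fin m → T)) := by
    rintro ⟨N, hN⟩
    have := hN.1
    obtain ⟨T, m, -, hT, -, ⟨e⟩⟩ := Cfsg.Agent.Lib.MinNormal.exists_mulEquiv_pi N hN.2.2.1 hN.2.2.2
    refine ⟨T, m, hT, fun h => hN.2.2.1 (hab N hN.1 hN.2.1 fun x hx y hy => ?_), ⟨e⟩⟩
    have h1 : (⟨x, hx⟩ : N) * ⟨y, hy⟩ = ⟨y, hy⟩ * ⟨x, hx⟩ := by
      apply e.injective
      rw [map_mul, map_mul]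
      funext i
      exact h.is_comm.comm _ _
    exact congrArg Subtype.val h1
  choose T m hT hTa he using hstr
  let e : ∀ N : {N // MinIn D N}, N.1 ≃* (Fin (m N) → T N) := fun N => (he N).some
  have hle : ∀ N : {N // MinIn D N}, (⊤ : Subgroup X) ≤ normalizer (N.1 : Set X) := fun N => by
    have := N.2.1
    rw [normalizer_eq_top]
  let cN : ∀ N : {N // MinIn D N}, X →* MulAut (Fin (m N) → T N) := fun N =>
    (Red.cj (e N) ⊤ (hle N)).comp (Subgroup.topEquiv (G := X)).symm.toMonoidHom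
  let σ : X →* ∀ N : {N // MinIn D N}, Equiv.Perm (Fin (m N)) :=
    MonoidHom.pi fun N => (AutPow.perm (hTa N)).comp (cN N)
  have hσ : ∀ x, σ x = 1 ↔ ∀ N, AutPow.perm (hTa N) (cN N x) = 1 := fun x => funext_iff
  have hSD : SD c (∀ N : {N // MinIn D N}, Equiv.Perm (Fin (m N))) := by
    refine SD.pi fun N => ?_
    refine hk (T N) (hTa N) (m N) ((inclusion N.2.2.1).comp (e N).symm.toMonoidHom) ?_
    exact (inclusion_injective N.2.2.1).comp (e N).symm.injective
  have hfin : {N : Subgroup X | MinIn D N}.Finite := Set.toFinite _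
  let M : Subgroup X := hfin.toFinset.sup id
  have hNM : ∀ N, MinIn D N → N ≤ M := fun N hN =>
    Finset.le_sup (f := id) ((Set.Finite.mem_toFinset hfin).2 hN)
  have hMle : ∀ Y : Subgroup X, (∀ N, MinIn D N → N ≤ Y) → M ≤ Y := fun Y hY =>
    Finset.sup_le fun N hN => hY N ((Set.Finite.mem_toFinset hfin).1 hN)
  have hMperf : M ≤ ⁅M, M⁆ := by
    refine hMle _ fun N hN => ?_
    have := hT ⟨N, hN⟩
    have h1 : PS 0 N := PS.of_equiv (e ⟨N, hN⟩).symm (PS.pi fun _ => ps_zero_of_simple (hTa ⟨N, hN⟩))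
    rw [← commutator_self_of_ps_zero h1]
    exact commutator_mono (hNM N hN) (hNM N hN)
  refine ⟨M, hMperf, fun Y hY x0 hx0 => ?_⟩
  have hYc : dS Y c ≤ σ.ker := by
    rw [← Subgroup.map_eq_bot_iff, dS_map, ← Cl.map_derivedSeries_eq,
      hSD _ (Group.isSolvable_of_surjective (σ.subgroupMap_surjective Y)), Subgroup.map_bot]
  have hx1 : x0 ∈ dS σ.ker 3 := dS_mono hYc 3 (by rw [dS_add]; exact hx0.1)
  rw [← Cl.map_derivedSeries_eq] at hx1
  obtain ⟨x, hx3, rfl⟩ := hx1
  have hxD : (x : X) ∈ D := hx0.2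
  have h1 : ∀ N, MinIn D N → ∃ n ∈ N, n⁻¹ * (x : X) ∈ centralizer (N : Set X) := by
    intro N hN
    have := hT ⟨N, hN⟩
    obtain ⟨y, hy⟩ := AutPow.map_derivedSeries_le_conj (hTa ⟨N, hN⟩) (big.sch _ (hTa ⟨N, hN⟩))
      ((cN ⟨N, hN⟩).comp σ.ker.subtype) (fun k => (hσ k).1 k.2 ⟨N, hN⟩) hx3
    obtain ⟨n, rfl⟩ := (e ⟨N, hN⟩).surjective y
    exact ⟨n, n.2, cj_eq_conj_iff (e ⟨N, hN⟩) ⊤ (hle ⟨N, hN⟩) ⟨x, mem_top _⟩ n hy⟩
  obtain ⟨y, hy, hyx⟩ := exists_mem_sup (x : X) h1 hfin.toFinset fun N hN => (Set.Finite.mem_toFinset hfin).1 hN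
  let Z : Subgroup X := D ⊓ ⨅ N : {N // MinIn D N}, centralizer (N.1 : Set X)
  have hZn : Z.Normal := by
    have h2 : (⨅ N : {N // MinIn D N}, centralizer (N.1 : Set X)).Normal :=
      Subgroup.normal_iInf_normal fun N => by
        have := N.2.1
        infer_instance
    infer_instance
  have hZ : Z = ⊥ := by
    by_contra h0
    obtain ⟨N, hNZ, hN⟩ := exists_minIn (D := D) hZn inf_le_left h0
    refine hN.2.2.1 (hab N hN.1 hN.2.1 fun u hu v hv => ?_)
    have h2 : v ∈ centralizer (N : Set X) := (mem_iInf.1 (hNZ hv).2) ⟨N, hN⟩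
    exact mem_centralizer_iff.1 h2 u hu
  have h2 : y⁻¹ * (x : X) ∈ Z := by
    refine ⟨D.mul_mem (D.inv_mem (hMle D (fun N hN => hN.2.1) hy)) hxD, mem_iInf.2 fun N => ?_⟩
    exact hyx N.1 ((Set.Finite.mem_toFinset hfin).2 N.2)
  rw [hZ, mem_bot, inv_mul_eq_one] at h2
  change (x : X) ∈ M
  rw [← h2]
  exact hy

theorem le_of_sylow {X : Type*} [Group X] [Finite X] {A K : Subgroup X} [A.Normal] (hA : Group.IsNilpotent A)
    (h : ∀ r : ℕ, r.Prime → ∀ R : Subgroup X, R.Normal → R ≤ A → IsPGroup r R → R ≤ K) : A ≤ K := by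
  rw [← subgroupOf_eq_top, ← index_eq_one, Nat.eq_one_iff_not_exists_prime_dvd]
  intro r hr hd
  have : Fact r.Prime := ⟨hr⟩
  let P : Sylow r A := default
  have hPn : (P : Subgroup A).Normal := inferInstance
  have hPc : (P : Subgroup A).Characteristic := P.characteristic_of_normal hPn
  have h1 := h r hr ((P : Subgroup A).map A.subtype) inferInstance (map_subtype_le _) (P.isPGroup'.map _)
  rw [map_le_iff_le_comap] at h1
  exact P.not_dvd_index (hd.trans (index_dvd_of_le h1))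

theorem comm_of_nilpotent {X : Type*} [Group X] [Finite X] {A : Subgroup X} [A.Normal] (hA : Group.IsNilpotent A)
    (h : ∀ r : ℕ, r.Prime → ∀ R : Subgroup X, R.Normal → R ≤ A → IsPGroup r R → ∀ x ∈ R, ∀ y ∈ R, x * y = y * x) :
    ∀ x ∈ A, ∀ y ∈ A, x * y = y * x := by
  have h1 : A ≤ centralizer (A : Set X) := by
    refine le_of_sylow hA fun r hr R hRn hRA hR => ?_
    rw [le_centralizer_iff]
    refine le_of_sylow hA fun r' hr' R' hRn' hRA' hR' x hx => ?_
    rw [mem_centralizer_iff]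
    intro y hy
    by_cases hrr : r = r'
    · subst hrr
      exact h r hr (R ⊔ R') inferInstance (sup_le hRA hRA') (hR.to_sup_of_normal_right hR') y (mem_sup_left hy) x
        (mem_sup_right hx)
    · have : Fact r.Prime := ⟨hr⟩
      have : Fact r'.Prime := ⟨hr'⟩
      exact (commute_of_normal_of_disjoint R R' hRn hRn' (IsPGroup.disjoint_of_ne r r' hrr R R' hR hR') y x hy hx).eq
  exact fun x hx y hy => mem_centralizer_iff.1 (h1 hy) x hx

/-- **Abelian Fitting subgroup.** -/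
theorem ps_fit (big : Big) {X : Type} [Group X] [Finite X] (D : Subgroup X) [D.Normal] {a c : ℕ} (hc : c + 3 ≤ a)
    (hD : ∀ Y : Subgroup X, Group.IsSolvable Y → dS Y a ≤ D)
    (hR : ∀ r : ℕ, r.Prime → ∀ R : Subgroup X, R.Normal → R ≤ D → IsPGroup r R →
      (∀ x ∈ R, ∀ y ∈ R, x * y = y * x) ∧
        ∀ Y : Subgroup X, Group.IsSolvable Y → dS Y a ≤ centralizer (R : Set X))
    (hk : ∀ (U : Type) [Group U] [Finite U] [IsSimpleGroup U], ¬ IsMulCommutative U →
      ∀ (k : ℕ) (N : Subgroup X), N ≤ D → ∀ f : N →* (Fin k → U), Function.Surjective f →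
        (∀ z, f z = 1 → ∀ x, x * z = z * x) → SD c (Equiv.Perm (Fin k))) : PS (1 + a) X := by
  obtain ⟨F, ⟨hFn, hFD, hFc⟩, hmax⟩ := WellFounded.has_min (wellFounded_gt (α := Subgroup X))
    {F | F.Normal ∧ F ≤ D ∧ ∀ x ∈ F, ∀ y ∈ F, x * y = y * x}
    ⟨⊥, inferInstance, bot_le, fun x hx y _ => by rw [mem_bot.1 hx, one_mul, mul_one]⟩
  have hFi : IsMulCommutative F := ⟨⟨fun x y => Subtype.ext (hFc x x.2 y y.2)⟩⟩
  let π := QuotientGroup.mk' F
  have hπ : Function.Surjective π := QuotientGroup.mk'_surjective F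
  have hker : π.ker = F := QuotientGroup.ker_mk' F
  let C : Subgroup X := D ⊓ centralizer (F : Set X)
  have hFC : F ≤ C := fun x hx => ⟨hFD hx, mem_centralizer_iff.2 fun y hy => hFc y hy x hx⟩
  have hCn : (C.map π).Normal := (inferInstance : C.Normal).map π hπ
  have hcom : ∀ A : Subgroup (X ⧸ F), A ≤ C.map π → A.comap π ≤ C := fun A hA =>
    (comap_mono hA).trans (by rw [comap_map_eq, hker, sup_eq_left.2 hFC])
  obtain ⟨M, hM, hMY⟩ := exists_core big (C.map π) (c := c) (fun A hAn hA hAc => by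
    have hAC := hcom A hA
    have hnil : Group.IsNilpotent (A.comap π) := by
      have : IsMulCommutative A := ⟨⟨fun x y => Subtype.ext (hAc x x.2 y y.2)⟩⟩
      refine Subgroup.isNilpotent_of_ker_le_center (π.subgroupComap A) fun z hz => ?_
      have hz' : (z : X) ∈ F := hker.le (congrArg Subtype.val (MonoidHom.mem_ker.1 hz))
      rw [mem_center_iff]
      exact fun g => Subtype.ext (mem_centralizer_iff.1 (hAC g.2).2 z hz').symm
    have h1 := comm_of_nilpotent hnil fun r hr R hRn hRA hRp =>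
      (hR r hr R hRn (hRA.trans (hAC.trans inf_le_left)) hRp).1
    have h2 : F ≤ A.comap π := hker.ge.trans (ker_le_comap π A)
    have h3 : F = A.comap π :=
      eq_of_le_of_not_lt h2 (hmax _ ⟨inferInstance, hAC.trans inf_le_left, h1⟩)
    rw [← map_comap_eq_self_of_surjective hπ A, ← h3, Subgroup.map_eq_bot_iff, hker]) (fun U _ _ _ hU k f hf => by
    let f' : (Fin k → U) →* X ⧸ F := (C.map π).subtype.comp f
    have hf' : Function.Injective f' := (C.map π).subtype_injective.comp hf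
    have hNC : f'.range.comap π ≤ C := hcom _ (by rintro _ ⟨v, rfl⟩; exact (f v).2)
    refine hk U hU k (f'.range.comap π) (hNC.trans inf_le_left)
      ((MonoidHom.ofInjective hf').symm.toMonoidHom.comp (π.subgroupComap _))
      ((MonoidHom.ofInjective hf').symm.surjective.comp (π.subgroupComap_surjective_of_surjective _ hπ)) fun z hz x => ?_
    have hz' : (z : X) ∈ F :=
      hker.le (congrArg Subtype.val ((MonoidHom.ofInjective hf').symm.map_eq_one_iff.1 hz))
    exact Subtype.ext (mem_centralizer_iff.1 (hNC x.2).2 z hz').symm)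
  refine PS.of_normal F (ps_of_comm hFc) (ps_of_sol hM fun Y hY => ?_)
  have hY' : Group.IsSolvable (Y.comap π) := by
    refine Group.isSolvable_of_ker_le_range ((F.subgroupOf (Y.comap π)).subtype) (π.subgroupComap Y) fun z hz => ?_
    rw [range_subtype, mem_subgroupOf]
    exact hker.le (congrArg Subtype.val (MonoidHom.mem_ker.1 hz))
  refine le_trans (le_inf (dS_anti Y hc) ?_) (hMY Y hY)
  rw [← map_comap_eq_self_of_surjective hπ Y, ← dS_map]
  refine map_mono (le_inf (hD _ hY') ?_)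
  rw [le_centralizer_iff]
  refine le_of_sylow inferInstance fun r hr R hRn hRF hRp => ?_
  rw [le_centralizer_iff]
  exact (hR r hr R hRn (hRF.trans hFD) hRp).2 _ hY'

theorem exists_prime_ne {U : Type*} [Group U] [Finite U] [IsSimpleGroup U] (hU : ¬ IsMulCommutative U) (p : ℕ) :
    ∃ r : ℕ, r.Prime ∧ r ≠ p ∧ r ∣ Nat.card U := by
  by_contra hc
  push Not at hc
  obtain ⟨q, hq, hd⟩ := Nat.exists_prime_and_dvd (n := Nat.card U) Finite.one_lt_card.ne'
  have : Fact q.Prime := ⟨hq⟩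
  have h1 : IsPGroup q U := by
    rw [IsPGroup.iff_card]
    refine ⟨_, Nat.eq_prime_pow_of_unique_prime_dvd Nat.card_pos.ne' fun {d} hd' hdd => ?_⟩
    by_contra hne
    by_cases hp : d = p
    · exact hc q hq (fun h => hne (hp.trans h.symm)) hd
    · exact hc d hd' hp hdd
  have h2 : Group.IsNilpotent U := h1.isNilpotent
  exact hU ⟨⟨IsSimpleGroup.comm_iff_isSolvable.2 inferInstance⟩⟩

end Cfsg.Agent.DS.NT
end

-- part: DS/Ex/Rank
section
set_option linter.all false
open scoped Cfsg.Agent.FastGrp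

/-!
# DS: the `s`-ranks of the exceptional groups, `s` not the characteristic (helper55)

* `rank_alg`, `rank_chev`, `rank_gen` : the `s`-rank is at most `l + e` if `s ^ (e + 1)` does not divide `|W|`;
* `rk_G2`, ..., `rk_E8`, `rk_GL` : the instances;
* `boxExcRank : BoxExcRank`.
-/

set_option autoImplicit false
set_option linter.unusedSectionVars false

namespace Cfsg.Agent.DS.Rank

open Cfsg Cfsg.Lie Cfsg.Agent.DS.NT Cfsg.Agent.H936
open Cfsg.Agent.ChevalleyStructure Cfsg.Agent.ChevalleyStructure.Elts Cfsg.Agent.ChevalleyStructure.CoxeterGeom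
  Cfsg.Agent.ChevalleyStructure.CoxeterGeomTypes Cfsg.Agent.ChevalleyStructure.NPerm
open Cfsg.Agent.Tits.Roots Cfsg.Agent.Tits.Core Cfsg.Agent.Nodes.Reps Cfsg.Agent.Nodes.BNOf Cfsg.Agent.Nodes.Bruhat
  Cfsg.Agent.Nodes.RGDChev Cfsg.Agent.H129.TorusChar Cfsg.Agent.BpExc Cfsg.Agent.BpExc.TorAll Cfsg.Agent.GpExc.Field
  Cfsg.Agent.KFacts.RgdField Cfsg.Agent.KFacts.RgdChevCoord

universe u

theorem roots_le {k : Type*} [Field k] {s : ℕ} (hs : 0 < s) :
    Finite {c : k // c ^ s = 1} ∧ Nat.card {c : k // c ^ s = 1} ≤ s := by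
  classical
  have h1 : ∀ c : k, c ∈ Polynomial.nthRootsFinset s (1 : k) ↔ c ^ s = 1 := fun c =>
    Polynomial.mem_nthRootsFinset hs 1
  have e : {c : k // c ^ s = 1} ≃ ↥(Polynomial.nthRootsFinset s (1 : k)) :=
    Equiv.subtypeEquivRight fun c => (h1 c).symm
  refine ⟨Finite.of_equiv _ e.symm, ?_⟩
  rw [Nat.card_congr e, Nat.card_eq_fintype_card, Fintype.card_coe]
  exact (Multiset.toFinset_card_le _).trans (Polynomial.card_nthRoots s 1)

theorem rankLe_mono {X : Type*} [Group X] {s m n : ℕ} (hs : 0 < s) (h : RankLe X s m) (hmn : m ≤ n) : RankLe X s n :=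
  fun A h1 h2 => (h A h1 h2).trans (Nat.pow_le_pow_right hs hmn)

theorem card_pow_of_exp {X : Type*} [Group X] [Finite X] {s : ℕ} (hs : s.Prime) (h : ∀ x : X, x ^ s = 1) :
    ∃ n, Nat.card X = s ^ n := by
  have : Fact s.Prime := ⟨hs⟩
  exact IsPGroup.iff_card.1 fun x => ⟨1, by rw [pow_one]; exact h x⟩

section chev

variable {D : ChevalleyDatum} {l : ℕ} {M : CoxeterMatrix (Fin l)} (hp : IsType D l M)

include hp in
/-- toral subgroups of exponent `s` -/
theorem card_toral_le {k : Type u} [Field k] {s : ℕ} (hs : 0 < s) (B : Subgroup ↥(D.group k)) (y : ↥(D.group k))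
    (hB : ∀ x ∈ B, y * x * y⁻¹ ∈ TT D k) (hpow : ∀ x ∈ B, x ^ s = 1) : Nat.card B ≤ s ^ l := by
  obtain ⟨hfin, hle⟩ := roots_le (k := k) hs
  have h1 : ∀ (x : B) (i : Fin l), cX hp (y * (x : ↥(D.group k)) * y⁻¹) (sr i) ^ s = 1 := by
    intro x i
    rw [← cX_pow hp (hB x x.2), conj_pow, hpow x x.2, mul_one, mul_inv_cancel, cX_one]
  have h2 : Nat.card B ≤ Nat.card (Fin l → {c : k // c ^ s = 1}) := by
    refine Nat.card_le_card_of_injective (fun x i => ⟨_, h1 x i⟩) fun x x' h => ?_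
    have h3 := cX_inj hp (hB x x.2) (hB x' x'.2) fun i => congrArg Subtype.val (congrFun h i)
    exact Subtype.ext (by simpa using h3)
  rw [Nat.card_fun, Nat.card_eq_fintype_card (α := Fin l), Fintype.card_fin] at h2
  exact h2.trans (Nat.pow_le_pow_left hle l)

include hp in
theorem rank_alg {k : Type u} [Field k] [IsAlgClosed k] {p : ℕ} [Fact p.Prime] [CharP k p] (hk : HAlg p k) {s e : ℕ}
    (hs : s.Prime) (hsp : s ≠ p) (hW : ¬ s ^ (e + 1) ∣ Nat.card M.Group) : RankLe ↥(D.group k) s (l + e) := by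
  intro A hc hpow
  by_cases hfin : Finite A
  · obtain ⟨n, hn⟩ := card_pow_of_exp (X := A) hs fun x => Subtype.ext (hpow x x.2)
    have hnp : ¬ p ∣ Nat.card A := by
      rw [hn]
      intro h
      exact hsp ((Nat.prime_dvd_prime_iff_eq Fact.out hs).1 ((Fact.out : p.Prime).dvd_of_dvd_pow h)).symm
    obtain ⟨B₀, y, m, hle, hT, hcard, hm⟩ := H197.Ab.TorLift.exists_toral_k hp p hk A hc hnp
    have h1 := card_toral_le hp hs.pos B₀ y hT fun x hx => hpow x (hle hx)
    have h2 : m ∣ s ^ n := by rw [← hn, hcard]; exact Dvd.intro_left _ rfl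
    obtain ⟨j, -, rfl⟩ := (Nat.dvd_prime_pow hs).1 h2
    have h3 : j ≤ e := by
      by_contra h
      exact hW ((pow_dvd_pow s (by omega)).trans hm)
    rw [hcard, pow_add]
    exact Nat.mul_le_mul h1 (Nat.pow_le_pow_right hs.pos h3)
  · have : Infinite A := not_finite_iff_infinite.1 hfin
    rw [Nat.card_eq_zero_of_infinite]
    exact Nat.zero_le _

include hp in
theorem rank_chev {K : Type u} [Field K] [Finite K] {p : ℕ} [CharP K p] {s e : ℕ}
    (hs : s.Prime) (hsp : s ≠ p) (hW : ¬ s ^ (e + 1) ∣ Nat.card M.Group) : RankLe ↥(D.group K) s (l + e) := by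
  have : Fact p.Prime := ⟨CharP.char_is_prime K p⟩
  let _ : Algebra (ZMod p) K := ZMod.algebra K p
  have : Algebra.IsAlgebraic (ZMod p) K := Algebra.IsAlgebraic.of_finite _ _
  have : Algebra.IsAlgebraic (ZMod p) (AlgebraicClosure K) := Algebra.IsAlgebraic.trans _ K _
  exact RankLe.of_inj (emb hp.inList (algebraMap K (AlgebraicClosure K))) (emb_injective _ _)
    (rank_alg hp (hAlg_of_isAlgebraic p _) hs hsp hW)

theorem gen_le (hD : InList D) {F : Type*} [Field F] (S : Set (List (ℕ × F))) : D.genSubgroup F S ≤ D.group F := by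
  unfold ChevalleyDatum.genSubgroup
  rw [Subgroup.closure_le]
  rintro g ⟨w, -, hg⟩
  rw [(eq_wordG_iff hD g w).2 hg]
  exact wordG_mem_group hD w

theorem rank_gen (hD : InList D) {K : Type u} [Field K] {s n : ℕ} (h : RankLe ↥(D.group K) s n)
    (S : Set (List (ℕ × K))) : RankLe ↥(D.genSubgroup K S) s n :=
  RankLe.of_inj (Subgroup.inclusion (gen_le hD S)) (Subgroup.inclusion_injective _) h

end chev

theorem not_pow_dvd {N e s : ℕ} (hs : s.Prime) (L : List ℕ) (hL : ∀ a ∈ L, a.Prime) (j : ℕ) (hN : N ∣ L.prod ^ j)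
    (h : ∀ a ∈ L, a = s → ¬ a ^ (e + 1) ∣ N) : ¬ s ^ (e + 1) ∣ N := by
  intro h1
  have h2 : s ∣ L.prod := hs.dvd_of_dvd_pow (((dvd_pow_self s (Nat.succ_ne_zero e)).trans h1).trans hN)
  obtain ⟨a, ha, hd⟩ := (Nat.prime_iff.1 hs).dvd_prod_iff.1 h2
  have h3 := ((Nat.prime_dvd_prime_iff_eq hs (hL a ha)).1 hd).symm
  exact h a ha h3 (by rwa [h3])

theorem not_pow_dvd' {N e s : ℕ} (hs : s.Prime) (L : List ℕ) (hL : ∀ a ∈ L, a.Prime) (j : ℕ) (hN : N ∣ L.prod ^ j)
    (h : ∀ a ∈ L, ¬ a ^ (e + 1) ∣ N) : ¬ s ^ (e + 1) ∣ N :=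
  not_pow_dvd hs L hL j hN fun a ha _ => h a ha

theorem pr_list : ∀ a ∈ [2, 3, 5, 7], Nat.Prime a := by
  intro a ha
  simp only [List.mem_cons, List.not_mem_nil, or_false] at ha
  rcases ha with rfl | rfl | rfl | rfl <;> norm_num

theorem tG2 : IsType chevG2 2 CoxeterMatrix.G₂ := by simp [IsType, typeList]
theorem tD4 : IsType chevD4 4 coxeterD4 := by simp [IsType, typeList]
theorem tF4 : IsType chevF4 4 CoxeterMatrix.F₄ := by simp [IsType, typeList]
theorem tE6 : IsType chevE6 6 CoxeterMatrix.E₆ := by simp [IsType, typeList]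
theorem tE7 : IsType chevE7 7 CoxeterMatrix.E₇ := by simp [IsType, typeList]
theorem tE8 : IsType chevE8 8 CoxeterMatrix.E₈ := by simp [IsType, typeList]

theorem wG2 : Nat.card CoxeterMatrix.G₂.Group = 12 := S1092.result (⟨2, CoxeterMatrix.G₂⟩, 12) (by simp)
theorem wD4 : Nat.card coxeterD4.Group = 192 := S1092.result (⟨4, coxeterD4⟩, 192) (by simp)
theorem wF4 : Nat.card CoxeterMatrix.F₄.Group = 1152 := S1092.result (⟨4, CoxeterMatrix.F₄⟩, 1152) (by simp)
theorem wE6 : Nat.card CoxeterMatrix.E₆.Group = 51840 := S1093.result (⟨6, CoxeterMatrix.E₆⟩, 51840) (by simp)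
theorem wE7 : Nat.card CoxeterMatrix.E₇.Group = 2903040 := S1093.result (⟨7, CoxeterMatrix.E₇⟩, 2903040) (by simp)
theorem wE8 : Nat.card CoxeterMatrix.E₈.Group = 696729600 := S1093.result (⟨8, CoxeterMatrix.E₈⟩, 696729600) (by simp)

section inst

variable {K : Type u} [Field K] [Finite K] {p : ℕ} [CharP K p] {s : ℕ} (hs : s.Prime) (hsp : s ≠ p)

include hs hsp

theorem rk_G2 : RankLe ↥(chevG2.group K) s 4 :=
  rank_chev tG2 (e := 2) hs hsp (by rw [wG2]; exact not_pow_dvd' hs _ pr_list 14 (by decide) (by decide))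

theorem rk_D4 : RankLe ↥(chevD4.group K) s 10 :=
  rank_chev tD4 (e := 6) hs hsp (by rw [wD4]; exact not_pow_dvd' hs _ pr_list 14 (by decide) (by decide))

theorem rk_F4 : RankLe ↥(chevF4.group K) s 11 :=
  rank_chev tF4 (e := 7) hs hsp (by rw [wF4]; exact not_pow_dvd' hs _ pr_list 14 (by decide) (by decide))

theorem rk_E6 : RankLe ↥(chevE6.group K) s 13 :=
  rank_chev tE6 (e := 7) hs hsp (by rw [wE6]; exact not_pow_dvd' hs _ pr_list 14 (by decide) (by decide))

theorem rk_E7 : RankLe ↥(chevE7.group K) s 17 :=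
  rank_chev tE7 (e := 10) hs hsp (by rw [wE7]; exact not_pow_dvd' hs _ pr_list 14 (by decide) (by decide))

theorem rk_E8 : RankLe ↥(chevE8.group K) s 22 :=
  rank_chev tE8 (e := 14) hs hsp (by rw [wE8]; exact not_pow_dvd' hs _ pr_list 14 (by decide) (by decide))

theorem rk_2E6 (q : ℕ) : RankLe ↥(twistedE6 K q) s 13 := rank_gen tE6.inList (rk_E6 hs hsp) _

theorem rk_3D4 (q : ℕ) : RankLe ↥(twistedD4 K q) s 10 := rank_gen tD4.inList (rk_D4 hs hsp) _

theorem rk_2F4 (q : ℕ) : RankLe ↥(twistedF4 K q) s 11 := rank_gen tF4.inList (rk_F4 hs hsp) _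

theorem rk_2G2 (q : ℕ) : RankLe ↥(twistedG2 K q) s 4 := rank_gen tG2.inList (rk_G2 hs hsp) _

theorem rk_GL (n : ℕ) : RankLe (GL (Fin (n + 1)) K) s (n + 1) := by
  intro A hc hpow
  have hsK : (s : K) ≠ 0 := by
    intro h
    rw [CharP.cast_eq_zero_iff K p] at h
    exact hsp ((Nat.prime_dvd_prime_iff_eq (CharP.char_is_prime K p) hs).1 h).symm
  let Z : Subgroup A := (Subgroup.center (GL (Fin (n + 1)) K)).subgroupOf A
  have hZ : ∀ x : A, x ∈ Z ↔ ∃ c : K, ((x : GL (Fin (n + 1)) K) : Matrix (Fin (n + 1)) (Fin (n + 1)) K) =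
      Matrix.scalar (Fin (n + 1)) c := by
    intro x
    rw [Subgroup.mem_subgroupOf, Matrix.GeneralLinearGroup.mem_center_iff_val_mem_range_scalar]
    exact ⟨fun ⟨c, hc⟩ => ⟨c, hc.symm⟩, fun ⟨c, hc⟩ => ⟨c, hc.symm⟩⟩
  obtain ⟨-, h1⟩ := H752.EP.torus_index hs hsK A.subtype (fun x y => hc x x.2 y y.2)
    (fun x => ⟨1, by
      rw [← Units.val_pow_eq_pow_val, show A.subtype x ^ s = 1 from hpow x x.2, map_one, Units.val_one]⟩)
    Z fun x hx => (hZ x).2 hx
  obtain ⟨hfin, hle⟩ := roots_le (k := K) hs.pos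
  have h2 : ∀ x : Z, (((x : A) : GL (Fin (n + 1)) K) : Matrix (Fin (n + 1)) (Fin (n + 1)) K) 0 0 ^ s = 1 := by
    intro x
    obtain ⟨c, hc⟩ := (hZ x).1 x.2
    have h3 : (((x : A) : GL (Fin (n + 1)) K) : Matrix (Fin (n + 1)) (Fin (n + 1)) K) ^ s = 1 := by
      rw [← Units.val_pow_eq_pow_val, hpow _ (x : A).2, Units.val_one]
    rw [hc, ← map_pow] at h3
    have h4 := congrFun (congrFun h3 0) 0
    rw [hc]
    simpa using h4
  have h3 : Nat.card Z ≤ s := by
    refine le_trans (Nat.card_le_card_of_injective (β := {c : K // c ^ s = 1}) (fun x => ⟨_, h2 x⟩) ?_) hle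
    intro x x' h
    obtain ⟨c, hc⟩ := (hZ x).1 x.2
    obtain ⟨c', hc'⟩ := (hZ x').1 x'.2
    have h4 := congrArg Subtype.val h
    simp only [hc, hc', Matrix.scalar_apply, Matrix.diagonal_apply_eq] at h4
    exact Subtype.ext (Subtype.ext (Units.ext (by rw [hc, hc', h4])))
  rw [← Z.index_mul_card, pow_succ]
  exact Nat.mul_le_mul h1 h3

theorem rk_Sz (e : ℕ) : RankLe ↥(Lie.Sz K e) s 4 :=
  RankLe.of_inj (Lie.Sz K e).subtype (Subgroup.subtype_injective _) (rk_GL hs hsp 3)

end inst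

theorem le_of_rk {T X : Type*} [Group T] [Group X] (g : T →* X) (hg : Function.Injective g) {p n : ℕ}
    (h : ∀ s : ℕ, s.Prime → s ≠ p → RankLe X s n) {U : Type*} [Group U] [Finite U] [IsSimpleGroup U]
    (hU : ¬ IsMulCommutative U) {k : ℕ} (f : (Fin k → U) →* T) (hf : Function.Injective f) : k ≤ n := by
  obtain ⟨s, hs, hsp, hd⟩ := exists_prime_ne hU p
  have h1 : PS 0 U := by
    rcases (inferInstance : (commutator U).Normal).eq_bot_or_eq_top with h2 | h2
    · exact absurd ((commutator_eq_bot_iff U).1 h2) hU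
    · exact h2
  exact le_of_rankLe h1 hs hd (MonoidHom.id _) Function.surjective_id
    (fun z hz x => by rw [show z = 1 from hz, mul_one, one_mul])
    (RankLe.of_inj (g.comp f) (hg.comp hf) (h s hs hsp))

/-- **The number of isomorphic components in the exceptional groups.** -/
theorem boxExcRank : BoxExcRank := by
  intro _ T _ _ hT U _ _ _ hU k f hf
  rcases hT with ⟨K, _, _, -, ⟨e⟩⟩ | ⟨K, _, _, ⟨e⟩⟩ | ⟨K, _, _, ⟨e⟩⟩ | ⟨K, _, _, ⟨e⟩⟩ | ⟨K, _, _, ⟨e⟩⟩ |
    ⟨K, _, _, q, -, -, ⟨e⟩⟩ | ⟨K, _, _, q, -, -, ⟨e⟩⟩ | ⟨K, _, _, q, -, -, ⟨e⟩⟩ | ⟨K, _, _, q, -, -, ⟨e⟩⟩ |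
    ⟨K, _, _, q, -, -, ⟨e⟩⟩ | ⟨⟨e⟩⟩
  · obtain ⟨p, _⟩ := CharP.exists K
    exact (le_of_rk e.toMonoidHom e.injective (p := p) (fun s hs hsp => rk_G2 hs hsp) hU f hf).trans (by norm_num)
  · obtain ⟨p, _⟩ := CharP.exists K
    exact (le_of_rk e.toMonoidHom e.injective (p := p) (fun s hs hsp => rk_F4 hs hsp) hU f hf).trans (by norm_num)
  · obtain ⟨p, _⟩ := CharP.exists K
    exact (le_of_rk e.toMonoidHom e.injective (p := p) (fun s hs hsp => rk_E6 hs hsp) hU f hf).trans (by norm_num)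
  · obtain ⟨p, _⟩ := CharP.exists K
    exact (le_of_rk e.toMonoidHom e.injective (p := p) (fun s hs hsp => rk_E7 hs hsp) hU f hf).trans (by norm_num)
  · obtain ⟨p, _⟩ := CharP.exists K
    exact (le_of_rk e.toMonoidHom e.injective (p := p) (fun s hs hsp => rk_E8 hs hsp) hU f hf).trans (by norm_num)
  · obtain ⟨p, _⟩ := CharP.exists K
    exact (le_of_rk e.toMonoidHom e.injective (p := p) (fun s hs hsp => rk_2E6 hs hsp _) hU f hf).trans (by norm_num)
  · obtain ⟨p, _⟩ := CharP.exists K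
    exact (le_of_rk e.toMonoidHom e.injective (p := p) (fun s hs hsp => rk_3D4 hs hsp _) hU f hf).trans (by norm_num)
  · obtain ⟨p, _⟩ := CharP.exists K
    exact (le_of_rk e.toMonoidHom e.injective (p := p) (fun s hs hsp => rk_Sz hs hsp _) hU f hf).trans (by norm_num)
  · obtain ⟨p, _⟩ := CharP.exists K
    exact (le_of_rk e.toMonoidHom e.injective (p := p) (fun s hs hsp => rk_2G2 hs hsp _) hU f hf).trans (by norm_num)
  · obtain ⟨p, _⟩ := CharP.exists K
    exact (le_of_rk e.toMonoidHom e.injective (p := p) (fun s hs hsp => rk_2F4 hs hsp _) hU f hf).trans (by norm_num)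
  · have : Fact (Nat.Prime 2) := ⟨Nat.prime_two⟩
    exact (le_of_rk ((commutator ↥(twistedF4 (ZMod 2) 1)).subtype.comp e.toMonoidHom)
      ((Subgroup.subtype_injective _).comp e.injective) (p := 2) (fun s hs hsp => rk_2F4 hs hsp _) hU f hf).trans
      (by norm_num)

end Cfsg.Agent.DS.Rank
end
end
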