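import Cfsg.Agent.DS.Nt.Defs_m3
import Cfsg.Agent.H296.FFourFix
import Cfsg.Agent.H79.Steinberg
import Cfsg.Agent.H69.OutGF
import Cfsg.Agent.Prune
set_option linter.all false
prune_inst 0x7ffefffbeff8bddfffff7ffffedfdffffdf9fffffffffffbfffcf5ffbfdfeb0efdf7fbbdfffb57ff3ff67fbe3ffa7bd7fffffbbfeffffcfffffdfff47fffffdffdf7bf9971ff8dbedfbd2fffebf0ffce7f3fffffffffffffffffffffffffffbeffffffffffff
open scoped Cfsg.Agent.FastGrp

/-!
# S5881: extension of the automorphisms of the untwisted exceptional groups to the algebraic group (helper56)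

* `mdata_untw2` : the model with explicit Frobenius automorphism and embedding;
* `hasExt_untw` : `HasExt` from an automorphism `γ` of the algebraic group inducing the graph automorphisms;
* `boxExtE7`, `boxExtE8`, `boxExtF4`.
-/

set_option autoImplicit false
set_option linter.unusedSectionVars false

namespace Cfsg.Agent.DS.Ex.Untw

open CoxeterSystem Cfsg Cfsg.Lie Cfsg.Lie.ChevalleyDatum
open Cfsg.Agent.ChevalleyStructure Cfsg.Agent.ChevalleyStructure.Elts Cfsg.Agent.ChevalleyStructure.CoxeterGeom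
  Cfsg.Agent.ChevalleyStructure.CoxeterGeomTypes Cfsg.Agent.ChevalleyStructure.NPerm
open Cfsg.Agent.Tits.Roots Cfsg.Agent.Tits.Core Cfsg.Agent.Nodes Cfsg.Agent.Nodes.Reps Cfsg.Agent.Nodes.BNOf
  Cfsg.Agent.Nodes.OppDec
  Cfsg.Agent.Nodes.RGDChev Cfsg.Agent.Nodes.Bruhat Cfsg.Agent.Nodes.NormalForm
open Cfsg.Agent.KFacts.RgdField Cfsg.Agent.KFacts.RgdChevCoord
open Cfsg.Agent.BpExc Cfsg.Agent.BpExc.FamField Cfsg.Agent.BpExc.TorCent Cfsg.Agent.BpExc.TorChev Cfsg.Agent.BpExc.Tow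
  Cfsg.Agent.BpExc.TowChev Cfsg.Agent.BpExc.Fr Cfsg.Agent.BpExc.Pair Cfsg.Agent.BpExc.LangFr Cfsg.Agent.GpExc.Field
  Cfsg.Agent.BpExc.FamExt Cfsg.Agent.BpExc.FamUntw Cfsg.Agent.BpExc.FamInst
open Cfsg.Agent.H469.Exc Cfsg.Agent.H469.Exc.SigFr
open Cfsg.Agent.ChevalleyStructure.SignedSymm Cfsg.Agent.ChevalleyStructure.GraphSymm
open Cfsg.Agent.LangThm (mem_XX_vec)
open Cfsg.Agent.H316.U6

variable {D : ChevalleyDatum} {l : ℕ} {M : CoxeterMatrix (Fin l)} {r : ℕ} [hr : Fact r.Prime]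

theorem mdata_untw2 (hp : IsType D l M) (F : Type) [Field F] [Fintype F] [CharP F r] {d : ℕ}
    {B : Fin l → Fin l → ℤ} (hB : H129.TorusChar.InvC D l d B) (hd : d ≠ 0) (hd1 : d = 1 ∨ d.Prime) :
    ∃ m : MData hp r (Fintype.card F) ↥(D.group F), m.dd = Nat.gcd d (Fintype.card F - 1) ∧
      ∃ (f : F →+* KK r) (n : ℕ), m.σ = phi D (KK r) r n ∧ m.ι = emb hp.inList f := by
  obtain ⟨f⟩ := RowsUntw.exists_emb r F
  obtain ⟨n, hn0, hn⟩ := exists_card (F := F) r
  have hk := locFin r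
  have hfin := RowsUntw.finite_phi (D := D) (k := AlgebraicClosure (ZMod r)) (r := r) hn0
  have hq : Fintype.card F = r ^ n := by rw [← hn, Nat.card_eq_fintype_card]
  let φ : AlgebraicClosure (ZMod r) →+* AlgebraicClosure (ZMod r) :=
    ((frb (AlgebraicClosure (ZMod r)) r n : AlgebraicClosure (ZMod r) ≃+* AlgebraicClosure (ZMod r)) :
      AlgebraicClosure (ZMod r) →+* AlgebraicClosure (ZMod r))
  have hφ : ∀ t, φ t = t ^ Fintype.card F := by
    intro t
    rw [hq]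
    exact frb_apply _ r n t
  have hσφ : ∀ y : ↥(D.group (AlgebraicClosure (ZMod r))),
      ((phi D (AlgebraicClosure (ZMod r)) r n y : ↥(D.group (AlgebraicClosure (ZMod r)))) :
        GL D.Idx (AlgebraicClosure (ZMod r))) = glMap D φ (y : GL D.Idx (AlgebraicClosure (ZMod r))) := by
    intro y
    apply Units.ext
    rfl
  have hfix : ∀ a, phi D (AlgebraicClosure (ZMod r)) r n (emb hp.inList f a) = emb hp.inList f a :=
    fun a => Emb.emb_fix hp.inList hφ hσφ a
  have hxs : ∀ s t, phi D (AlgebraicClosure (ZMod r)) r n (xs hp.inList s t) =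
      xs hp.inList s (t ^ Fintype.card F) := by
    intro s t
    apply Subtype.ext
    rw [hσφ]
    apply Units.ext
    rw [coe_xs, coe_xs, coe_xG]
    rw [← hφ t]
    exact Cfsg.Agent.ChevStructure.FieldMap.x_map D φ s t
  have hnorm : ∀ y, phi D (AlgebraicClosure (ZMod r)) r n y = y → ∀ x, ∃ x', emb hp.inList f x' =
      y * emb hp.inList f x * y⁻¹ := by
    intro y hy x
    obtain ⟨b, hb⟩ := Emb.conj_mem_range hp.inList (f := f) hφ hσφ hy (n := emb hp.inList f x) ⟨x, rfl⟩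
    exact ⟨b, hb⟩
  have hpow : ∀ y, phi D (AlgebraicClosure (ZMod r)) r n y = y →
      y ^ Nat.gcd d (Fintype.card F - 1) ∈ (emb hp.inList f).range := by
    intro y hy
    have hy' : H129.TorusUntw.phi D (KK r) r n y = y := by
      apply Subtype.ext
      rw [H129.TorusUntw.coe_phi]
      refine Eq.trans ?_ (congrArg Subtype.val hy)
      rw [hσφ]
      congr 1
      congr 1
      ext t
      rw [hφ, hq, iterateFrobenius_def]
    have h1 := fix_pow_range hp f hq hB hd hy'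
    have h2 : Nat.gcd d (Fintype.card F - 1) = d ∨ Nat.gcd d (Fintype.card F - 1) = 1 := by
      rcases hd1 with h3 | h3
      · right; rw [h3, Nat.gcd_one_left]
      · rcases (Nat.dvd_prime h3).1 (Nat.gcd_dvd_left d (Fintype.card F - 1)) with h4 | h4
        · exact Or.inr h4
        · exact Or.inl h4
    rcases h2 with h2 | h2
    · rw [h2]; exact h1
    · rw [h2, pow_one]
      exact H129.TorusUntw.fix_range hp M.toCoxeterSystem f hq hB hd
        (exists_root_of_coprime hd (Nat.Coprime.symm h2)) hy'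
  refine ⟨{
    σ := phi D (AlgebraicClosure (ZMod r)) r n
    π := Equiv.refl _
    dd := Nat.gcd d (Fintype.card F - 1)
    norm := hnorm
    pow_dd := hpow
    g := AddEquiv.refl _
    e := n
    ι := emb hp.inList f
    he := hn0
    hq := hq.symm
    frob := phi_isFrob r n
    fr := phi_fr hp M.toCoxeterSystem r hk n
    fin := hfin
    inj := emb_injective hp.inList f
    fix := hfix
    idx := ?_
    act := ?_
    perm := fun v i => rfl
    top := rfl
    gen := ?_ }, rfl, f, n, rfl, rfl⟩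
  · intro y hy
    have hy' : glMap D φ (y : GL D.Idx (AlgebraicClosure (ZMod r))) = y := by rw [← hσφ, hy]
    obtain ⟨a, ha, t, ht, e⟩ := EmbSplit.untw_split hp.inList (Emb.fix_iff_range hφ) y.2 hy'
    have hta : t ∈ D.group (AlgebraicClosure (ZMod r)) := by
      have h1 : t = ((emb hp.inList f ⟨a, ha⟩ : ↥(D.group (AlgebraicClosure (ZMod r)))) :
          GL D.Idx (AlgebraicClosure (ZMod r)))⁻¹ * y := by
        rw [coe_emb]
        exact eq_inv_mul_of_mul_eq e.symm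
      rw [h1]
      exact mul_mem (inv_mem (SetLike.coe_mem _)) y.2
    have e' : y = emb hp.inList f ⟨a, ha⟩ * ⟨t, hta⟩ := Subtype.ext e
    have hσt : phi D (AlgebraicClosure (ZMod r)) r n ⟨t, hta⟩ = ⟨t, hta⟩ := by
      have h1 := hy
      rw [e', map_mul, hfix] at h1
      exact mul_left_cancel h1
    have hft : IsOfFinOrder (⟨t, hta⟩ : ↥(D.group (AlgebraicClosure (ZMod r)))) := by
      have h1 : IsOfFinOrder (⟨⟨t, hta⟩, hσt⟩ : ↥(fixedSubgroup (phi D (AlgebraicClosure (ZMod r)) r n))) :=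
        (isOfFinOrder_of_finite _ : _)
      exact ((fixedSubgroup (phi D (AlgebraicClosure (ZMod r)) r n)).subtype.isOfFinOrder h1 :)
    obtain ⟨m, hm, hm1⟩ := RowsN.exists_coprime hp.inList (Subgroup.mem_subgroupOf.2 ht) hft
    refine ⟨m, hm, ?_⟩
    rw [e']
    exact RowsN.pow_mem_of_split (N := (emb hp.inList f).range) ⟨_, rfl⟩
      (fun b hb => Emb.conj_mem_range hp.inList (f := f) hφ hσφ hσt hb) hm1
  · intro s hs
    exact ⟨s, rfl, hs, 1, one_ne_zero, fun t => by rw [hxs, one_mul], fun t => by rw [hxs, inv_one, one_mul]⟩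
  · intro N hpos hneg
    have hxe : ∀ s (t : F), emb hp.inList f (xs hp.inList s t) = xs hp.inList s (f t) := by
      intro s t
      apply Subtype.ext
      rw [coe_emb]
      apply Units.ext
      rw [coe_xs, coe_xs, coe_xG]
      exact Cfsg.Agent.ChevStructure.FieldMap.x_map D f s t
    rw [eq_top_iff, ← G1_eq_top (K := F) hp M.toCoxeterSystem]
    refine iSup_le ?_
    rintro ⟨x, hx⟩
    intro y hy
    obtain ⟨s, hs, rfl⟩ := (isRoot_iff hp _ _).1 hx
    obtain ⟨t, ht⟩ := (mem_XX_vec hp hs).1 hy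
    have e : y = xs hp.inList s t := Subtype.ext ht
    rw [e]
    rcases hx.pos_or_neg with h0 | h0
    · exact hpos _ (by rw [hxe]; exact xs_mem_Sup_Pos hp hs h0 _)
    · exact hneg _ (by rw [hxe]; exact xs_mem_Sup_Neg hp hs h0 _)


/-- weak frame automorphisms from the action on the root elements -/
theorem wfr_of_act (hp : IsType D l M) {σ : MulAut (YY D r)} (h : ∀ a < D.nroots, ∃ s, Act hp.inList σ a s)
    (h' : ∀ s < D.nroots, ∃ a, Act hp.inList σ a s) : WFr hp r σ := by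
  refine ⟨fun t => ⟨fun ht => ?_, mem_TT_of_act h⟩, fun a ha => ?_⟩
  · have h1 : σ⁻¹ (σ t) ∈ TT D (KK r) := by
      refine mem_TT_of_act (hD := hp.inList) (fun s hs => ?_) ht
      obtain ⟨a, ha⟩ := h' s hs
      exact ⟨a, ha.inv⟩
    rwa [MulAut.inv_apply_self] at h1
  · obtain ⟨a, har, rfl⟩ := (isRoot_iff hp _ _).1 ha
    obtain ⟨s, -, hs, c, φ, hc, h1, -⟩ := h a har
    refine ⟨vec D l s, (isRoot_iff hp _ _).2 ⟨s, hs, rfl⟩, fun y => ?_⟩
    rw [mem_XX_vec hp hs, mem_XX_vec hp har]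
    constructor
    · rintro ⟨u, hu⟩
      refine ⟨φ.symm (c⁻¹ * u), ?_⟩
      have h2 : σ y = σ (xs hp.inList a (φ.symm (c⁻¹ * u))) := by
        rw [h1, RingEquiv.apply_symm_apply, mul_inv_cancel_left₀ hc]
        exact Subtype.ext hu
      rw [σ.injective h2]
      rfl
    · rintro ⟨u, hu⟩
      refine ⟨c * φ u, ?_⟩
      have h2 : y = xs hp.inList a u := Subtype.ext hu
      rw [h2, h1]
      rfl

theorem sfr_wfr {hp : IsType D l M} {β : MulAut (YY D r)} (h : SFr hp r β) : WFr hp r β := by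
  obtain ⟨g, hg, -⟩ := h
  exact ⟨hg.tor, fun a ha => ⟨g a, (hg.root a).2 ha, hg.map a ha⟩⟩

theorem sfr_one (hp : IsType D l M) : SFr hp r 1 := ⟨_, Fr.one, fun _ => rfl⟩

theorem sfr_mul {hp : IsType D l M} {β β' : MulAut (YY D r)} (h : SFr hp r β) (h' : SFr hp r β') :
    SFr hp r (β * β') := by
  obtain ⟨g, hg, e⟩ := h
  obtain ⟨g', hg', e'⟩ := h'
  exact ⟨_, hg.mul hg', fun h8 => by rw [e h8, e' h8]; rfl⟩

theorem sfr_inv {hp : IsType D l M} {β : MulAut (YY D r)} (h : SFr hp r β) : SFr hp r β⁻¹ := by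
  obtain ⟨g, hg, e⟩ := h
  exact ⟨_, hg.inv, fun h8 => by rw [e h8]; rfl⟩

theorem sfr_phi (hp : IsType D l M) (n : ℕ) : SFr hp r (phi D (KK r) r n) :=
  ⟨_, phi_fr hp M.toCoxeterSystem r (locFin r) n, fun _ => rfl⟩

theorem wfr_mul {hp : IsType D l M} {β β' : MulAut (YY D r)} (h : WFr hp r β) (h' : WFr hp r β') :
    WFr hp r (β * β') := by
  refine ⟨fun t => (h.1 _).trans (h'.1 t), fun a ha => ?_⟩
  obtain ⟨b, hb, h1⟩ := h'.2 a ha
  obtain ⟨c, hc, h2⟩ := h.2 b hb
  exact ⟨c, hc, fun y => (h2 _).trans (h1 y)⟩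

/-- the frame automorphisms together with their inverses -/
def WF (hp : IsType D l M) (r : ℕ) [Fact r.Prime] : Subgroup (MulAut (YY D r)) where
  carrier := {β | WFr hp r β ∧ WFr hp r β⁻¹}
  mul_mem' := fun ha hb => ⟨wfr_mul ha.1 hb.1, by rw [mul_inv_rev]; exact wfr_mul hb.2 ha.2⟩
  one_mem' := ⟨sfr_wfr (sfr_one hp), by rw [inv_one]; exact sfr_wfr (sfr_one hp)⟩
  inv_mem' := fun ha => ⟨ha.2, by rw [inv_inv]; exact ha.1⟩

/-- the strong frame automorphisms -/
def SF (hp : IsType D l M) (r : ℕ) [Fact r.Prime] : Subgroup (MulAut (YY D r)) where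
  carrier := {β | SFr hp r β}
  mul_mem' := fun ha hb => sfr_mul (hp := hp) ha hb
  one_mem' := sfr_one hp
  inv_mem' := fun ha => sfr_inv (hp := hp) ha

theorem center_YY (hD : D ∈ [chevF4, chevE6, chevE7, chevE8]) : Subgroup.center (YY D r) = ⊥ := by
  obtain ⟨a, b⟩ := Cfsg.Agent.S1054.result (F := KK r) D (List.mem_cons_of_mem _ hD)
  refine KFacts.RgdLieCharP.center_eq_bot ?_
  by_contra hcon
  push Not at hcon
  exact b ⟨⟨hcon⟩⟩

theorem eq_one_of_symm {K : Type} [Field K] (hD : InList D)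
    (h : ∀ π : Equiv.Perm (Fin D.rank), D.IsDiagramSymmetry π → π = 1)
    {g : MulAut ↥(D.group K)} (hg : D.IsGraphAut g) : g = 1 := by
  obtain ⟨π, hπs, hπ⟩ := H79.OutChev.isGraphAut_isGr hD hg
  have h1 := h π hπs
  subst h1
  exact H79.OutChev.isGr_one hπ

theorem graph_F4 {K : Type} [Field K] [Finite K] {p : ℕ} [Fact p.Prime] [CharP K p] (h2 : p ≠ 2)
    {g : MulAut ↥(chevF4.group K)} (hg : chevF4.IsGraphAut g) : g = 1 := by
  obtain ⟨π, hπs, hπ⟩ := H79.OutChev.isGraphAut_isGr H69.OutGF.hF4 hg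
  have hs : ∀ i : Fin chevF4.rank, Function.Surjective fun t : K => t ^ chevF4.graphExp (ringChar K) i (π i) := by
    intro i
    unfold ChevalleyDatum.graphExp
    split_ifs
    · rw [ringChar.eq K p]
      exact H69.OutGF.hperf p
    · intro t
      exact ⟨t, pow_one t⟩
  have hre : π ∈ H70.OutCount.realised H69.OutGF.hF4 K :=
    ⟨g, ⟨fun i => H69.OutGF.smul_XX _ (φ := g) (hs i) fun t => (hπ i t).1,
      fun i => H69.OutGF.smul_XX _ (φ := g) (hs i) fun t => (hπ i t).2⟩⟩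
  have h3 : ((2 : ℕ) : K) ≠ 0 := fun h =>
    h2 ((Nat.prime_dvd_prime_iff_eq Fact.out Nat.prime_two).1 ((CharP.cast_eq_zero_iff K p 2).1 h))
  rcases H69.OutGF.realised_F4 hre with h6 | h6
  · subst h6
    exact H79.OutChev.isGr_one hπ
  · rw [h6] at hre
    exact absurd hre (H69.OutGF.flip4_not_mem (by exact_mod_cast h3))

open Cfsg.Agent.H296.FFour in
theorem tabN : ∀ s < 48, br (chevF4.neg s) = chevF4.neg (br s) ∧ la (chevF4.neg s) = la s ∧ chevF4.neg s < 48 ∧
    (la s = 1 ∨ la s = 2) := by decide +kernel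

open Cfsg.Agent.H296.FFour in
theorem act_al {s : ℕ} (hs : s < 48) : Act hpF4.inList (al (KK 2)) s (br s) := by
  obtain ⟨h1, h2, h3, h4⟩ := tabN s hs
  obtain ⟨φ, hφ⟩ : ∃ φ : KK 2 ≃+* KK 2, ∀ t, φ t = t ^ la s := by
    rcases h4 with h4 | h4
    · exact ⟨RingEquiv.refl _, fun t => by rw [h4, pow_one]; rfl⟩
    · exact ⟨frb (KK 2) 2 1, fun t => by rw [h4, frb_apply, pow_one]⟩
  refine ⟨hs, (tab s hs).1, 1, φ, one_ne_zero, fun t => ?_, fun t => ?_⟩
  · rw [one_mul, hφ]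
    exact al_xS hs t
  · rw [inv_one, one_mul, hφ, ← h1, ← h2]
    exact al_xS h3 t

end Cfsg.Agent.DS.Ex.Untw
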