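import Mathlib
import Cfsg.Agent.DS.Gen.Split
import Cfsg.Agent.ChevalleyStructure.SL2Hom
import Cfsg.Agent.Mrg.Omega.Lie.End.KDead
import Cfsg.Agent.KFacts.RgdField
import Cfsg.Agent.KFacts.RgdVJ
import Cfsg.Agent.KFacts.RgdSyl
import Cfsg.Agent.H936.DSTw
import Cfsg.Agent.KFacts.RgdFiltChev
import Cfsg.Agent.KFacts.RgdFiltTwAll
import Cfsg.Agent.H936.PSMain_m3
import Cfsg.Agent.StandardComponent.AltAut
import Cfsg.Agent.H564.EPF.BT_mg
import Cfsg.Agent.H2.TwF
import Cfsg.Agent.KFacts.TwF4.Layers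
import Cfsg.Agent.DS.Ex.Rank
import Cfsg.Agent.DS.Sp.F24ATools_m3
import Cfsg.Agent.H577.CABasic
import Cfsg.Agent.H759.TwF.Main
import Cfsg.Agent.H565.TwF4Rank
import Cfsg.Agent.S1068
import Cfsg.Agent.DS.Ex.ExtU
import Cfsg.Agent.DS.Nt.Defs_m3
import Cfsg.Agent.Lib.MatDec
import Cfsg.Agent.FastGrp
import Cfsg.Agent.Prune
set_option linter.all false
prune_inst 0x7fbcfef92fb8addfdfff7e7ffedddffc39905fffefdff94bffe867ff2fdf23060de5fb858de090fe0ef6629c30b87853f9ffc67fea6bdc7ffffd5ff45ffbee1ff5f6bd0851df8cb40fbc0fff63f0778e7f3fffffffffffffffffffffffffffbeffffffffffff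
open scoped Cfsg.Agent.FastGrp

-- part: DS/Ex/ParBase
section
/-!
# DS, parabolic case: group theory (helper55)

* `dS K n` : the derived series of the subgroup `K` inside the ambient group;
* `comm_le_of_gen` : commutators of joins;
* `ps_iSup` : `PS` for a join of subgroups which commute modulo a term of the derived series;
* `ps_sl2` : `PS 3 SL₂(F)` for the finite fields `F`.
-/

set_option autoImplicit false

namespace Cfsg.Agent.DS.Par

open Cfsg.Agent.H936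
open scoped commutatorElement

section gen

variable {Y : Type*} [Group Y]

/-- the derived series of a subgroup, in the ambient group -/
def dS (K : Subgroup Y) : ℕ → Subgroup Y
  | 0 => K
  | n + 1 => ⁅dS K n, dS K n⁆

theorem dS_zero (K : Subgroup Y) : dS K 0 = K := rfl

theorem dS_succ (K : Subgroup Y) (n : ℕ) : dS K (n + 1) = ⁅dS K n, dS K n⁆ := rfl

theorem dS_eq (K : Subgroup Y) (n : ℕ) : dS K n = (derivedSeries K n).map K.subtype := by
  induction n with
  | zero => rw [dS_zero, derivedSeries_zero, ← MonoidHom.range_eq_map, Subgroup.range_subtype]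
  | succ n ih => rw [dS_succ, derivedSeries_succ, Subgroup.map_commutator, ih]

theorem ps_iff {K : Subgroup Y} {k : ℕ} : PS k K ↔ dS K (k + 1) = dS K k := by
  rw [dS_eq, dS_eq]
  exact ⟨fun h => by rw [show derivedSeries K (k + 1) = derivedSeries K k from h],
    fun h => Subgroup.map_injective K.subtype_injective h⟩

theorem dS_mono {K L : Subgroup Y} (h : K ≤ L) (n : ℕ) : dS K n ≤ dS L n := by
  induction n with
  | zero => exact h
  | succ n ih => exact Subgroup.commutator_mono ih ih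

theorem comm_self_le (K : Subgroup Y) : ⁅K, K⁆ ≤ K := by
  rw [Subgroup.commutator_le]
  intro a ha b hb
  rw [commutatorElement_def]
  exact mul_mem (mul_mem (mul_mem ha hb) (inv_mem ha)) (inv_mem hb)

theorem dS_succ_le (K : Subgroup Y) (n : ℕ) : dS K (n + 1) ≤ dS K n := comm_self_le _

theorem dS_le (K : Subgroup Y) (n : ℕ) : dS K n ≤ K := by
  induction n with
  | zero => exact le_rfl
  | succ n ih => exact (dS_succ_le K n).trans ih

/-- a perfect subgroup lies in all terms -/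
theorem le_dS_of_perfect {Q K : Subgroup Y} (hQ : Q ≤ ⁅Q, Q⁆) (h : Q ≤ K) (n : ℕ) : Q ≤ dS K n := by
  induction n with
  | zero => exact h
  | succ n ih => exact hQ.trans (Subgroup.commutator_mono ih ih)

theorem ps_of_dS_bot {K : Subgroup Y} {k : ℕ} (h : dS K k = ⊥) : PS k K := by
  rw [ps_iff, dS_succ, h, Subgroup.commutator_bot_left]

theorem conj_mem_of_norm {Z : Subgroup Y} {g z : Y} (hg : g ∈ Subgroup.normalizer (Z : Set Y)) (hz : z ∈ Z) :
    g * z * g⁻¹ ∈ Z := (Subgroup.mem_normalizer_iff.1 hg z).1 hz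

theorem mem_norm_of {Z K : Subgroup Y} (h : ∀ g ∈ K, ∀ z ∈ Z, g * z * g⁻¹ ∈ Z) :
    K ≤ Subgroup.normalizer (Z : Set Y) := by
  intro g hg
  rw [Subgroup.mem_normalizer_iff]
  intro z
  refine ⟨h g hg z, fun hz => ?_⟩
  have h1 := h g⁻¹ (inv_mem hg) _ hz
  have e : g⁻¹ * (g * z * g⁻¹) * g⁻¹⁻¹ = z := by group
  rwa [e] at h1

/-- the normaliser of `A`, `B` normalises `[A, B]` -/
theorem norm_comm {A B : Subgroup Y} {g : Y} (hA : g ∈ Subgroup.normalizer (A : Set Y))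
    (hB : g ∈ Subgroup.normalizer (B : Set Y)) : g ∈ Subgroup.normalizer ((⁅A, B⁆ : Subgroup Y) : Set Y) := by
  have key : ∀ g ∈ Subgroup.normalizer (A : Set Y) ⊓ Subgroup.normalizer (B : Set Y), ∀ z ∈ ⁅A, B⁆,
      g * z * g⁻¹ ∈ ⁅A, B⁆ := by
    intro g hg z hz
    have h1 : ⁅A, B⁆ ≤ (⁅A, B⁆ : Subgroup Y).comap (MulAut.conj g).toMonoidHom := by
      rw [Subgroup.commutator_le]
      intro a ha b hb
      rw [Subgroup.mem_comap, map_commutatorElement]
      exact Subgroup.commutator_mem_commutator (conj_mem_of_norm hg.1 ha) (conj_mem_of_norm hg.2 hb)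
    exact h1 hz
  exact mem_norm_of key ⟨hA, hB⟩

theorem norm_dS {K : Subgroup Y} {g : Y} (hg : g ∈ Subgroup.normalizer (K : Set Y)) (n : ℕ) :
    g ∈ Subgroup.normalizer (dS K n : Set Y) := by
  induction n with
  | zero => exact hg
  | succ n ih => exact norm_comm ih ih

theorem comm_mem_of_gen {Z : Subgroup Y} {ι : Sort*} (b : Y) (A : ι → Subgroup Y)
    (hA : ∀ i, A i ≤ Subgroup.normalizer (Z : Set Y)) (h : ∀ i, ∀ a ∈ A i, ⁅a, b⁆ ∈ Z) :
    ∀ a ∈ ⨆ i, A i, ⁅a, b⁆ ∈ Z := by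
  intro a ha
  suffices h1 : a ∈ Subgroup.normalizer (Z : Set Y) ∧ ⁅a, b⁆ ∈ Z from h1.2
  refine Subgroup.iSup_induction A (C := fun a => a ∈ Subgroup.normalizer (Z : Set Y) ∧ ⁅a, b⁆ ∈ Z) ha
    (fun i x hx => ⟨hA i hx, h i x hx⟩) ⟨one_mem _, by rw [commutatorElement_one_left]; exact one_mem _⟩ ?_
  intro a a' ha ha'
  refine ⟨mul_mem ha.1 ha'.1, ?_⟩
  have e : ⁅a * a', b⁆ = a * ⁅a', b⁆ * a⁻¹ * ⁅a, b⁆ := by
    simp only [commutatorElement_def]; group
  rw [e]
  exact mul_mem (conj_mem_of_norm ha.1 ha'.2) ha.2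

/-- commutators of joins -/
theorem comm_le_of_gen {Z : Subgroup Y} {ι κ : Sort*} (A : ι → Subgroup Y) (B : κ → Subgroup Y)
    (hA : ∀ i, A i ≤ Subgroup.normalizer (Z : Set Y)) (hB : ∀ k, B k ≤ Subgroup.normalizer (Z : Set Y))
    (h : ∀ i k, ∀ a ∈ A i, ∀ b ∈ B k, ⁅a, b⁆ ∈ Z) : ⁅⨆ i, A i, ⨆ k, B k⁆ ≤ Z := by
  rw [Subgroup.commutator_le]
  intro a ha b hb
  have h1 : ∀ k, ∀ b ∈ B k, ⁅b, a⁆ ∈ Z := by
    intro k b hb
    rw [← commutatorElement_inv]
    exact inv_mem (comm_mem_of_gen b A hA (fun i x hx => h i k x hx b hb) a ha)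
  rw [← commutatorElement_inv]
  exact inv_mem (comm_mem_of_gen a B hB h1 b hb)

/-- a join of commuting subgroups -/
theorem ps_iSup_comm {ι : Type*} [Finite ι] {k : ℕ} (L : ι → Subgroup Y)
    (hc : Pairwise fun i j => ∀ x y : Y, x ∈ L i → y ∈ L j → Commute x y) (h : ∀ i, PS k (L i)) :
    PS k ↥(⨆ i, L i) := by
  classical
  have := Fintype.ofFinite ι
  have h1 := (PS.pi h).range (Subgroup.noncommPiCoprod hc)
  rwa [Subgroup.noncommPiCoprod_range] at h1

/-- a join of subgroups which commute modulo the term `k + 1` of the derived series -/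
theorem ps_iSup {ι : Type*} [Finite ι] {k : ℕ} (L : ι → Subgroup Y)
    (hc : ∀ i j, i ≠ j → ∀ x ∈ L i, ∀ y ∈ L j, ⁅x, y⁆ ∈ dS (⨆ i, L i) (k + 1)) (h : ∀ i, PS k (L i)) :
    PS k ↥(⨆ i, L i) := by
  set N : Subgroup Y := ⨆ i, L i with hN
  have hLN : ∀ i, L i ≤ N := fun i => le_iSup L i
  let Z : Subgroup N := derivedSeries N (k + 1)
  let f : N →* N ⧸ Z := QuotientGroup.mk' Z
  let L' : ι → Subgroup (N ⧸ Z) := fun i => (f.comp (Subgroup.inclusion (hLN i))).range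
  have h1 : PS k ↥(⨆ i, L' i) := by
    refine ps_iSup_comm L' ?_ fun i => (h i).range _
    rintro i j hij _ _ ⟨x, rfl⟩ ⟨y, rfl⟩
    rw [← commutatorElement_eq_one_iff_commute, MonoidHom.comp_apply, MonoidHom.comp_apply,
      ← map_commutatorElement]
    refine (QuotientGroup.eq_one_iff _).2 ?_
    have h2 := hc i j hij x x.2 y y.2
    rw [dS_eq] at h2
    obtain ⟨z, hz, e⟩ := h2
    have e2 : z = ⁅Subgroup.inclusion (hLN i) x, Subgroup.inclusion (hLN j) y⁆ := Subtype.ext e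
    rw [← e2]
    exact hz
  have h2 : (⨆ i, L' i) = ⊤ := by
    rw [eq_top_iff]
    intro q _
    obtain ⟨⟨x, hx⟩, rfl⟩ := QuotientGroup.mk'_surjective Z q
    have h3 : N ≤ ((⨆ i, L' i).comap f).map N.subtype := by
      refine iSup_le fun i y hy => ⟨⟨y, hLN i hy⟩, ?_, rfl⟩
      exact le_iSup L' i ⟨⟨y, hy⟩, rfl⟩
    obtain ⟨y, hy, e⟩ := h3 hx
    have e2 : y = ⟨x, hx⟩ := Subtype.ext e
    rw [← e2]
    exact hy
  rw [h2] at h1
  have h3 : PS k (N ⧸ Z) := h1.of_equiv Subgroup.topEquiv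
  have h4 : derivedSeries (N ⧸ Z) k = ⊥ := by
    rw [← show derivedSeries (N ⧸ Z) (k + 1) = derivedSeries (N ⧸ Z) k from h3,
      ← map_derivedSeries_of_surj (QuotientGroup.mk'_surjective Z), Subgroup.map_eq_bot_iff, QuotientGroup.ker_mk']
  rw [← map_derivedSeries_of_surj (QuotientGroup.mk'_surjective Z), Subgroup.map_eq_bot_iff,
    QuotientGroup.ker_mk'] at h4
  exact le_antisymm (derivedSeries_antitone _ (Nat.le_succ k)) h4

/-- `PS` for a product `A B`, `B` normalising `A` -/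
theorem ps_sup {a b : ℕ} {A B : Subgroup Y} (hn : B ≤ Subgroup.normalizer (A : Set Y)) (hA : PS a A) (hB : PS b B) :
    PS (a + b) ↥(A ⊔ B) := by
  have h1 := PS.of_two A.subtype B.subtype (fun x y => ⟨⟨_, conj_mem_of_norm (hn y.2) x.2⟩, rfl⟩) hA hB
  rwa [Subgroup.range_subtype, Subgroup.range_subtype] at h1

theorem ps_map {Y' : Type*} [Group Y'] {k : ℕ} {A : Subgroup Y} (f : Y →* Y') (h : PS k A) : PS k ↥(A.map f) := by
  have h1 := h.range (f.comp A.subtype)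
  rwa [MonoidHom.range_comp, Subgroup.range_subtype] at h1

end gen

section sl2

open Cfsg.Agent.ChevalleyStructure.SL2Hom Matrix

theorem dS_three_of {G : Type*} [Group G] (m : ℕ) (h1 : ∀ a b : G, a ^ m = 1 → b ^ m = 1 → (a * b) ^ m = 1)
    (h2 : ∀ a b : G, ⁅a, b⁆ ^ m = 1) (h3 : ∀ a b : G, a ^ m = 1 → b ^ m = 1 → ∀ c, ⁅a, b⁆ * c = c * ⁅a, b⁆) :
    PS 3 G := by
  let Q : Subgroup G :=
    { carrier := {a | a ^ m = 1}
      mul_mem' := fun {a b} ha hb => h1 a b ha hb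
      one_mem' := one_pow m
      inv_mem' := fun {a} ha => by
        change a⁻¹ ^ m = 1
        rw [inv_pow, show a ^ m = 1 from ha, inv_one] }
  have e1 : derivedSeries G 1 ≤ Q := by
    rw [derivedSeries_succ, Subgroup.commutator_le]
    exact fun a _ b _ => h2 a b
  have e2 : derivedSeries G 2 ≤ Subgroup.center G := by
    rw [derivedSeries_succ, Subgroup.commutator_le]
    intro a ha b hb
    rw [Subgroup.mem_center_iff]
    exact fun c => (h3 a b (e1 ha) (e1 hb) c).symm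
  refine PS.of_bot ?_
  rw [derivedSeries_succ, eq_bot_iff, Subgroup.commutator_le]
  intro a ha b _
  rw [Subgroup.mem_bot, commutatorElement_eq_one_iff_mul_comm]
  exact (Subgroup.mem_center_iff.1 (e2 ha) b).symm

theorem ps_sl2_three : PS 3 (_root_.Matrix.SpecialLinearGroup (Fin 2) (ZMod 3)) := by
  refine dS_three_of 4 ?_ ?_ ?_ <;> (try simp only [commutatorElement_def]) <;> (set_option synthInstance.maxSize 20000 in open scoped Cfsg.Agent.Lib.MatDec in decide +kernel)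

theorem ps_sl2_two : PS 3 (_root_.Matrix.SpecialLinearGroup (Fin 2) (ZMod 2)) := by
  refine dS_three_of 3 ?_ ?_ ?_ <;> (try simp only [commutatorElement_def]) <;> (set_option synthInstance.maxSize 20000 in open scoped Cfsg.Agent.Lib.MatDec in decide +kernel)

theorem ps_sl2_of_equiv {F F' : Type*} [Field F] [Field F'] (e : F ≃+* F') {k : ℕ}
    (h : PS k (_root_.Matrix.SpecialLinearGroup (Fin 2) F)) : PS k (_root_.Matrix.SpecialLinearGroup (Fin 2) F') := by
  refine h.of_surj (f := SpecialLinearGroup.map e.toRingHom) fun g => ?_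
  refine ⟨SpecialLinearGroup.map e.symm.toRingHom g, ?_⟩
  ext i j
  simp

theorem ps_sl2_big {F : Type*} [Field F] {u : F} (hu0 : u ≠ 0) (hu : u ^ 2 ≠ 1) :
    PS 0 (_root_.Matrix.SpecialLinearGroup (Fin 2) F) := by
  let d : _root_.Matrix.SpecialLinearGroup (Fin 2) F := ⟨!![u, 0; 0, u⁻¹], by simp [Matrix.det_fin_two, hu0]⟩
  have h1 : u ^ 2 - 1 ≠ 0 := sub_ne_zero.2 hu
  have h2 : u⁻¹ ^ 2 - 1 ≠ 0 := by
    intro h
    apply hu
    rw [sub_eq_zero, inv_pow, inv_eq_one] at h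
    exact h
  have e1 : ∀ t : F, up t = ⁅d, up (t / (u ^ 2 - 1))⁆ := by
    intro t
    rw [commutatorElement_def, eq_mul_inv_iff_mul_eq, eq_mul_inv_iff_mul_eq]
    apply Subtype.ext
    change (!![1, t; 0, 1] : Matrix (Fin 2) (Fin 2) F) * !![1, t / (u ^ 2 - 1); 0, 1] * !![u, 0; 0, u⁻¹] =
      !![u, 0; 0, u⁻¹] * !![1, t / (u ^ 2 - 1); 0, 1]
    ext i j
    (revert i j; simp only [Matrix.mul_apply, Fin.sum_univ_two, _root_.Fin.forall_fin_succ, _root_.Matrix.cons_mul, _root_.Nat.succ_eq_add_one, Nat.reduceAdd, _root_.Matrix.vecMul_cons, _root_.Matrix.head_cons, _root_.one_smul, _root_.Matrix.tail_cons, _root_.Matrix.smul_cons, _root_.smul_eq_mul, _root_.MulZeroClass.mul_zero, _root_.mul_one, _root_.Matrix.smul_empty, _root_.Matrix.empty_vecMul, _root_.add_zero, _root_.Matrix.add_cons, _root_.Matrix.empty_add_empty, _root_.zero_smul, _root_.zero_add, _root_.Matrix.empty_mul, _root_.Equiv.symm_apply_apply, _root_.Matrix.of_apply,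 _root_.Matrix.cons_val', _root_.Matrix.cons_val_fin_one, Fin.isValue, _root_.Matrix.cons_val_zero, _root_.Matrix.cons_val_one, _root_.Matrix.cons_val_succ, _root_.forall_const, _root_.one_mul, _root_.MulZeroClass.zero_mul, _root_.implies_true, _root_.and_true, _root_.true_and]) <;> (repeat' with_reducible apply And.intro)
    field_simp
    ring
  have e2 : ∀ t : F, lo t = ⁅d, lo (t / (u⁻¹ ^ 2 - 1))⁆ := by
    intro t
    rw [commutatorElement_def, eq_mul_inv_iff_mul_eq, eq_mul_inv_iff_mul_eq]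
    apply Subtype.ext
    change (!![1, 0; t, 1] : Matrix (Fin 2) (Fin 2) F) * !![1, 0; t / (u⁻¹ ^ 2 - 1), 1] * !![u, 0; 0, u⁻¹] =
      !![u, 0; 0, u⁻¹] * !![1, 0; t / (u⁻¹ ^ 2 - 1), 1]
    generalize hv : t / (u⁻¹ ^ 2 - 1) = v
    have hv' : t = v * (u⁻¹ ^ 2 - 1) := by rw [← hv, div_mul_cancel₀ _ h2]
    ext i j
    (revert i j; simp only [Matrix.mul_apply, Fin.sum_univ_two, _root_.Fin.forall_fin_succ, _root_.Matrix.cons_mul, _root_.Nat.succ_eq_add_one, Nat.reduceAdd, _root_.Matrix.vecMul_cons, _root_.Matrix.head_cons, _root_.one_smul, _root_.Matrix.tail_cons, _root_.zero_smul, _root_.Matrix.empty_vecMul, _root_.add_zero, _root_.Matrix.smul_cons, _root_.smul_eq_mul, _root_.mul_one, _root_.MulZeroClass.mul_zero, _root_.Matrix.smul_empty, _root_.Matrix.add_cons, _root_.zero_add, _root_.Matrix.empty_add_empty, _root_.Matrix.empty_mul, _root_.Equiv.symm_apply_apply, _root_.Matrix.of_apply, _root_.Matrix.cons_val', _root_.Matrix.cons_val_fin_one,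 Fin.isValue, _root_.Matrix.cons_val_zero, _root_.Matrix.cons_val_one, _root_.Matrix.cons_val_succ, _root_.forall_const, _root_.one_mul, _root_.MulZeroClass.zero_mul, _root_.and_true, _root_.true_and]) <;> (repeat' with_reducible apply And.intro)
    rw [hv']
    field_simp
    ring
  unfold PS
  rw [zero_add, derivedSeries_one, derivedSeries_zero, eq_top_iff]
  intro g _
  refine (Subgroup.closure_le _).2 ?_ (mem_closure_SL2 g)
  rintro _ (⟨t, rfl⟩ | ⟨t, rfl⟩)
  · rw [e1]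
    exact Subgroup.commutator_mem_commutator (Subgroup.mem_top _) (Subgroup.mem_top _)
  · rw [e2]
    exact Subgroup.commutator_mem_commutator (Subgroup.mem_top _) (Subgroup.mem_top _)

/-- **`SL₂` over a finite field** -/
theorem ps_sl2 (F : Type*) [Field F] [Finite F] : PS 3 (_root_.Matrix.SpecialLinearGroup (Fin 2) F) := by
  classical
  by_cases h : ∃ u : F, u ≠ 0 ∧ u ^ 2 ≠ 1
  · obtain ⟨u, h0, h1⟩ := h
    exact (ps_sl2_big h0 h1).mono (by norm_num)
  push Not at h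
  have := Fintype.ofFinite F
  have h1 : (Finset.univ : Finset F) ⊆ {0, 1, -1} := by
    intro u _
    by_cases h0 : u = 0
    · simp only [h0, _root_.Finset.mem_insert, _root_.zero_ne_one, _root_.Finset.mem_singleton, _root_.zero_eq_neg, _root_.one_ne_zero, _root_.or_self, _root_.or_false]
    · rcases sq_eq_one_iff.1 (h u h0) with h2 | h2 <;> simp only [h2, _root_.Finset.mem_insert, _root_.one_ne_zero, _root_.Finset.mem_singleton, _root_.true_or, _root_.or_true, _root_.neg_eq_zero]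
  have h2 : Fintype.card F ≤ 3 := (Finset.card_le_card h1).trans Finset.card_le_three
  have h3 : 1 < Fintype.card F := Fintype.one_lt_card
  rcases (by omega : Fintype.card F = 2 ∨ Fintype.card F = 3) with h4 | h4
  · have : Fact (Nat.Prime 2) := ⟨Nat.prime_two⟩
    exact ps_sl2_of_equiv (ZMod.ringEquivOfPrime F Nat.prime_two h4) ps_sl2_two
  · have : Fact (Nat.Prime 3) := ⟨Nat.prime_three⟩
    exact ps_sl2_of_equiv (ZMod.ringEquivOfPrime F Nat.prime_three h4) ps_sl2_three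

end sl2

end Cfsg.Agent.DS.Par
end

-- part: DS/Ex/ParLevi
section
/-!
# DS, parabolic case: Levi subgroups and unipotent radicals (helper55)

* `ps_MM` : `PS 3` for the group generated by the rank one groups of the nodes of `J`;
* `dS_VJ` : the derived length of the unipotent radical from a bound for a level function.
-/

set_option autoImplicit false
set_option linter.unusedSectionVars false

namespace Cfsg.Agent.DS.Par

open CoxeterSystem Cfsg.Agent.ChevalleyStructure.CoxeterGeom Cfsg.Agent.Tits.Roots Cfsg.Agent.Tits.Core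
  Cfsg.Agent.Tits.Exchange Cfsg.Agent.Nodes.Reps Cfsg.Agent.Nodes.BNOf Cfsg.Agent.Nodes.StabComb
  Cfsg.Agent.Nodes.Bruhat Cfsg.Agent.Nodes.OppDec Cfsg.Agent.Nodes.LeviDec Cfsg.Agent.Nodes.ZFam
  Cfsg.Agent.KFacts.RgdFilt Cfsg.Agent.H936
open Cfsg.Agent.OmegaEnd.Frat (Win le_Win Win_le comm_Win first_comp Win_le_V swap_two swap_three CommFour
  commFour_of_int)
open Cfsg.Agent.ParSys.Fam (eq_one_of_mem_V)
open Cfsg.Agent.KFacts.RgdField (Coord)
open scoped commutatorElement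

section one

variable {Y : Type*} [Group Y]

/-- `T` acts irreducibly on the abelian group `P` -/
structure Irr (T P : Subgroup Y) : Prop where
  comm : ∀ a ∈ P, ∀ b ∈ P, a * b = b * a
  irr : ∀ Q : Subgroup Y, T ≤ Subgroup.normalizer (Q : Set Y) → ∀ x ∈ P, x ≠ 1 → x ∈ Q → P ≤ Q

theorem irr_of_coord {F : Type*} [Field F] {T P : Subgroup Y} {x : F → Y} {χ : Y → F} (C : Coord T P x χ) :
    Irr T P where
  comm a ha b hb := by
    obtain ⟨s, rfl⟩ := (C.mem a).1 ha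
    obtain ⟨t, rfl⟩ := (C.mem b).1 hb
    rw [← C.add, ← C.add, add_comm]
  irr Q hQ y hy hy1 hyQ := by
    obtain ⟨a, rfl⟩ := (C.mem y).1 hy
    have ha : a ≠ 0 := by
      rintro rfl
      exact hy1 C.zero
    let S : AddSubgroup F :=
      { carrier := {s | x (s * a) ∈ Q}
        add_mem' := fun {s t} hs ht => by
          change x ((s + t) * a) ∈ Q
          rw [add_mul, C.add]
          exact mul_mem hs ht
        zero_mem' := by
          change x (0 * a) ∈ Q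
          rw [zero_mul, C.zero]
          exact one_mem _
        neg_mem' := fun {s} hs => by
          change x (-s * a) ∈ Q
          have h1 : x (-s * a) = (x (s * a))⁻¹ := by
            rw [eq_inv_iff_mul_eq_one, ← C.add, neg_mul, neg_add_cancel, C.zero]
          rw [h1]
          exact inv_mem hs }
    have h1 : (⊤ : AddSubgroup F) ≤ S := by
      rw [← C.span, AddSubgroup.closure_le]
      rintro _ ⟨t, ht, rfl⟩
      change x (χ t * a) ∈ Q
      rw [← C.act t ht]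
      exact conj_mem_of_norm (hQ ht) hyQ
    intro z hz
    obtain ⟨b, rfl⟩ := (C.mem z).1 hz
    have h2 : x (b / a * a) ∈ Q := h1 (AddSubgroup.mem_top _)
    rwa [div_mul_cancel₀ _ ha] at h2

theorem exists_mul_of_norm {A E : Subgroup Y} (hA : A ≤ Subgroup.normalizer (E : Set Y)) {x : Y} (hx : x ∈ A ⊔ E) :
    ∃ a ∈ A, ∃ e ∈ E, x = a * e := by
  have h1 : x ∈ ((A ⊔ E : Subgroup Y) : Set Y) := hx
  rw [Subgroup.coe_mul_of_left_le_normalizer_right _ _ hA, Set.mem_mul] at h1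
  obtain ⟨a, ha, e, he, h2⟩ := h1
  exact ⟨a, ha, e, he, h2.symm⟩

theorem comm_sup_le {A E : Subgroup Y} (hA : A ≤ Subgroup.normalizer (E : Set Y))
    (hc : ∀ a ∈ A, ∀ b ∈ A, a * b = b * a) : ⁅A ⊔ E, A ⊔ E⁆ ≤ E := by
  rw [Subgroup.commutator_le]
  intro x hx y hy
  obtain ⟨a, ha, e, he, rfl⟩ := exists_mul_of_norm hA hx
  obtain ⟨b, hb, f, hf, rfl⟩ := exists_mul_of_norm hA hy
  have h1 : ⁅a * e, b * f⁆ = (a * e * a⁻¹) * ((a * b) * (f * e⁻¹) * (a * b)⁻¹) * (a * b * a⁻¹ * f⁻¹ * b⁻¹) := by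
    rw [commutatorElement_def]; group
  have h2 : a * b * a⁻¹ = b := by rw [hc a ha b hb]; group
  rw [h1, h2]
  exact mul_mem (mul_mem (conj_mem_of_norm (hA ha) he)
    (conj_mem_of_norm (hA (mul_mem ha hb)) (mul_mem hf (inv_mem he)))) (conj_mem_of_norm (hA hb) (inv_mem hf))

theorem comm_cen_left {c u w : Y} (h1 : Commute c u) (h2 : Commute c w) : ⁅c * u, w⁆ = ⁅u, w⁆ := by
  have h3 : Commute c (u * w * u⁻¹) := (h1.mul_right h2).mul_right h1.inv_right
  have e : ⁅c * u, w⁆ = c * (u * w * u⁻¹) * c⁻¹ * w⁻¹ := by rw [commutatorElement_def]; group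
  rw [e, h3.eq, commutatorElement_def]
  group

theorem comm_cen {c c' u v : Y} (h1 : Commute c u) (h2 : Commute c v) (h3 : Commute c c') (h4 : Commute c' u)
    (h5 : Commute c' v) : ⁅c * u, c' * v⁆ = ⁅u, v⁆ := by
  rw [comm_cen_left h1 (h3.mul_right h2), ← commutatorElement_inv, comm_cen_left h5 h4, commutatorElement_inv]

end one

variable {I W Y : Type*} [Fintype I] [DecidableEq I] [Group W] [Finite W] [Group Y] [Finite Y] {M : CoxeterMatrix I}
  {cs : CoxeterSystem M W} {A : I → I → ℤ} {h : IsCartan M A} {p : ℕ} {T : Subgroup Y} {n : I → Y}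
  {X : (I → ℤ) → Subgroup Y}

/-- the rank one group of a node -/
def LL (X : (I → ℤ) → Subgroup Y) (i : I) : Subgroup Y := X (sr i) ⊔ X (-sr i)

/-- the group generated by the rank one groups of the nodes of `J` -/
def MM (X : (I → ℤ) → Subgroup Y) (J : Set I) : Subgroup Y := ⨆ j : J, LL X j.1

theorem LL_le_MM {J : Set I} {j : I} (hj : j ∈ J) : LL X j ≤ MM X J := le_iSup (fun j : J => LL X j.1) ⟨j, hj⟩

theorem pos_le_LL (i : I) : X (sr i) ≤ LL X i := le_sup_left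

theorem neg_le_LL (i : I) : X (-sr i) ≤ LL X i := le_sup_right

variable (R : RGD cs h p T n X)

include R

theorem exists_m (i : I) : ∃ m ∈ LL X i, Rp cs R.nsys (cs.simple i) m := by
  obtain ⟨t, ht, a, ha, v, hv, b, hb, e⟩ := KFacts.RgdRigid.exists_n_eq R i
  refine ⟨a * v * b, mul_mem (mul_mem (pos_le_LL i ha) (neg_le_LL i hv)) (pos_le_LL i hb), ?_⟩
  have h1 := (rp_of_mem (cs := cs) (hN := R.nsys) (inv_mem ht)).mul (rp_simple cs R.nsys i)
  have e2 : t⁻¹ * n i = a * v * b := by rw [e]; group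
  rwa [one_mul, e2] at h1

theorem T_norm_LL (i : I) : T ≤ Subgroup.normalizer (LL X i : Set Y) := by
  intro t ht
  rw [mem_normalizer_iff_cj, LL, cj_sup, R.tor _ (isRoot_sr cs h i) t ht, R.tor _ (isRoot_sr cs h i).neg t ht]

theorem T_norm_MM (J : Set I) : T ≤ Subgroup.normalizer (MM X J : Set Y) := by
  intro t ht
  rw [mem_normalizer_iff_cj, MM, cj_iSup]
  congr 1
  funext j
  exact mem_normalizer_iff_cj.1 (T_norm_LL R j.1 ht)

theorem X_act {w : W} {m : Y} (hm : Rp cs R.nsys w m) {E : Subgroup Y} (hE : m ∈ Subgroup.normalizer (E : Set Y))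
    {x : I → ℤ} (hx : IsRoot cs h x) (hle : X x ≤ E) : X (rep cs h w x) ≤ E := by
  rw [← R.conj_rp hm hx, ← mem_normalizer_iff_cj.1 hE]
  exact cj_mono _ hle

theorem MM_eq (J : Set I) : RGD.Sup X (RootsJ cs h J) = MM X J := by
  apply le_antisymm
  · refine RGD.Sup_le fun x hx => ?_
    obtain ⟨w, hw, j, hj, rfl⟩ := exists_of_mem_RootsJ hx
    obtain ⟨ω, hω, rfl⟩ := exists_word_of_mem_WJ cs hw
    clear hx hw
    induction ω with
    | nil =>
      rw [wordProd_nil, map_one, Module.End.one_apply]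
      exact (pos_le_LL j).trans (LL_le_MM hj)
    | cons i ω ih =>
      obtain ⟨m, hm, hm'⟩ := exists_m R i
      rw [wordProd_cons, rep_mul_apply]
      exact X_act R hm' (Subgroup.le_normalizer (LL_le_MM (hω i (by simp)) hm)) ⟨_, _, rfl⟩
        (ih fun k hk => hω k (by simp [hk]))
  · refine iSup_le fun j => sup_le ?_ ?_
    · exact RGD.le_Sup (PosJ_subset J (sr_mem_PosJ j.2))
    · exact RGD.le_Sup (RootsJ.neg (PosJ_subset J (sr_mem_PosJ j.2)))

/-- all root groups are abelian -/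
theorem X_comm (hI : ∀ i, Irr T (X (sr i))) {x : I → ℤ} (hx : IsRoot cs h x) : ∀ a ∈ X x, ∀ b ∈ X x, a * b = b * a := by
  obtain ⟨w, i, rfl⟩ := hx
  obtain ⟨g, hg⟩ := exists_rp cs R.nsys w
  rw [← R.conj_rp hg (isRoot_sr cs h i)]
  intro a ha b hb
  rw [mem_cj] at ha hb
  have h1 := (hI i).comm _ ha _ hb
  calc a * b = g * ((g⁻¹ * a * g) * (g⁻¹ * b * g)) * g⁻¹ := by group
    _ = g * ((g⁻¹ * b * g) * (g⁻¹ * a * g)) * g⁻¹ := by rw [h1]
    _ = b * a := by group

/-! ### rank two -/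

theorem comm_adj {i j : I} (hij : i ≠ j) {k : ℤ} (hk : 1 ≤ k) (hk' : k + 1 ≤ M i j) {x y : Y}
    (hx : x ∈ X (cyc cs h i j k)) (hy : y ∈ X (cyc cs h i j (k + 1))) : Commute x y := by
  have h2 := comm_Win R hij hk (by omega) hk' hx hy
  have h5 : Win cs h X i j (k + 1) (k + 1 - 1) ≤ ⊥ := Win_le fun r h4 h5 => by omega
  exact commutatorElement_eq_one_iff_commute.1 (Subgroup.mem_bot.1 (h5 h2))

theorem comm_two_pos {i j : I} (hij : i ≠ j) (h2 : M i j = 2) {x y : Y} (hx : x ∈ X (sr i)) (hy : y ∈ X (sr j)) :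
    Commute x y := by
  have hM : (M i j : ℤ) = 1 + 1 := by rw [h2]; rfl
  refine comm_adj R hij (k := 1) le_rfl hM.ge (by rwa [cyc_one]) ?_
  rwa [← hM, cyc_m cs h hij]

theorem comm_two {i j : I} (hij : i ≠ j) (h2 : M i j = 2) {x y : Y} (hx : x ∈ LL X i) (hy : y ∈ LL X j) :
    Commute x y := by
  have h1 : LL X i ≤ Subgroup.centralizer (LL X j : Set Y) := by
    have key : ∀ P : Subgroup Y, (∀ a ∈ P, ∀ b ∈ X (sr j), Commute a b) → (∀ a ∈ P, ∀ b ∈ X (-sr j), Commute a b) →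
        P ≤ Subgroup.centralizer (LL X j : Set Y) := by
      intro P h3 h4
      rw [← Subgroup.le_centralizer_iff]
      refine sup_le (fun b hb => ?_) (fun b hb => ?_)
      · rw [Subgroup.mem_centralizer_iff]
        exact fun a ha => (h3 a ha b hb).eq
      · rw [Subgroup.mem_centralizer_iff]
        exact fun a ha => (h4 a ha b hb).eq
    refine sup_le (key _ ?_ ?_) (key _ ?_ ?_)
    · exact fun a ha b hb => comm_two_pos R hij h2 ha hb
    · exact fun a ha b hb => KFacts.RgdDiag.commute_pos_neg R hij ha hb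
    · exact fun a ha b hb => (KFacts.RgdDiag.commute_pos_neg R hij.symm hb ha).symm
    · exact fun a ha b hb => comm_two_pos (KFacts.RgdOpp.opp R) hij h2 ha hb
  exact (Subgroup.mem_centralizer_iff.1 (h1 hx) y hy).symm

theorem three_le {i j : I} (hij : i ≠ j) (h3 : M i j = 3) : X (cyc cs h i j 2) ≤ ⁅X (sr i), X (sr j)⁆ := by
  have hM : (M i j : ℤ) = 3 := by exact_mod_cast h3
  intro w hw
  obtain ⟨u, hu, hu1⟩ := exists_ne_one R i
  obtain ⟨v, hv, c, hc, e⟩ := first_comp R hij h3.ge hu hu1 hw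
  have h1 : ⁅u, v⁆ ∈ X (cyc cs h i j 2) := by
    have h2 := comm_Win R hij (le_refl 1) (by omega) (le_refl _) (x := u) (y := v) (by rwa [cyc_one])
      (by rwa [cyc_m cs h hij])
    refine (Win_le fun r h4 h5 => ?_ : Win cs h X i j (1 + 1) (M i j - 1) ≤ _) h2
    have : r = 2 := by omega
    rw [this]
  have hc' : c ∈ X (sr j) := by
    refine (Win_le fun r h4 h5 => ?_ : Win cs h X i j 3 (M i j) ≤ _) hc
    have : r = M i j := by omega
    rw [this, cyc_m cs h hij]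
  have h6 : w * v⁻¹ = v⁻¹ * w := by
    refine (comm_adj R hij (k := 2) (by omega) (by omega) hw ?_).eq
    have : (2 : ℤ) + 1 = M i j := by omega
    rw [this, cyc_m cs h hij]
    exact inv_mem hv
  have h7 : c * v⁻¹ = ⁅u, v⁆ * w⁻¹ := by
    rw [e, mul_assoc c w, h6]; group
  have h8 : c * v⁻¹ = 1 := by
    refine eq_one_of_mem_V R j (mul_mem hc' (inv_mem hv)) ?_
    have h9 : X (cyc cs h i j 2) ≤ RGD.Sup X (RGD.PosNe cs h j) :=
      (le_Win (le_refl 2) (le_refl 2)).trans (Win_le_V hij (by omega) (by omega))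
    rw [h7]
    exact h9 (mul_mem h1 (inv_mem hw))
  have h9 : w = ⁅u, v⁆ := by
    rw [h7, mul_inv_eq_one] at h8
    exact h8.symm
  rw [h9]
  exact Subgroup.commutator_mem_commutator hu hv

theorem three_LL {i j : I} (hij : i ≠ j) (h3 : M i j = 3) {N : Subgroup Y} (hi : LL X i ≤ N) (hj : LL X j ≤ N) :
    LL X j ≤ ⁅N, N⁆ := by
  have hN : N ≤ Subgroup.normalizer ((⁅N, N⁆ : Subgroup Y) : Set Y) := fun g hg =>
    norm_comm (Subgroup.le_normalizer hg) (Subgroup.le_normalizer hg)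
  have h1 : X (cyc cs h i j 2) ≤ ⁅N, N⁆ :=
    (three_le R hij h3).trans (Subgroup.commutator_mono ((pos_le_LL i).trans hi) ((pos_le_LL j).trans hj))
  obtain ⟨mi, hmi, hmi'⟩ := exists_m R i
  obtain ⟨mj, hmj, hmj'⟩ := exists_m R j
  have h2 := X_act R hmi' (hN (hi hmi)) (isRoot_cyc cs h i j 2) h1
  rw [left_cyc cs h hij, add_sub_cancel_right, cyc_m cs h hij] at h2
  have h4 := X_act R hmj' (hN (hj hmj)) (isRoot_sr cs h j) h2
  rw [rep_simple_sr] at h4
  exact sup_le h2 h4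

theorem three_perf {i j : I} (hij : i ≠ j) (h3 : M i j = 3) :
    LL X i ⊔ LL X j ≤ ⁅LL X i ⊔ LL X j, LL X i ⊔ LL X j⁆ :=
  sup_le (three_LL R hij.symm (by rw [M.symmetric]; exact h3) le_sup_right le_sup_left)
    (three_LL R hij h3 le_sup_left le_sup_right)

theorem four_mem {i j : I} (hij : i ≠ j) (h4 : M i j = 4) {w : Y} (hw : w ∈ X (cyc cs h i j 2)) :
    ∃ y ∈ X (cyc cs h i j 3), y * w ∈ ⁅X (sr i), X (sr j)⁆ := by
  have hM : (M i j : ℤ) = 4 := by exact_mod_cast h4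
  obtain ⟨u, hu, hu1⟩ := exists_ne_one R i
  obtain ⟨v, hv, c, hc, e⟩ := first_comp R hij (by omega) hu hu1 hw
  have h1 : ⁅u, v⁆ ∈ Win cs h X i j 2 3 := by
    have h2 := comm_Win R hij (le_refl 1) (by omega) (le_refl _) (x := u) (y := v) (by rwa [cyc_one])
      (by rwa [cyc_m cs h hij])
    rw [hM] at h2
    exact h2
  have h2 : w * v⁻¹ * w⁻¹ ∈ Win cs h X i j 3 (M i j) := by
    have h5 := comm_Win R hij (k := 2) (l := M i j) (by omega) (by omega) (le_refl _) hw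
      (y := v⁻¹) (by rw [cyc_m cs h hij]; exact inv_mem hv)
    have e5 : w * v⁻¹ * w⁻¹ = ⁅w, v⁻¹⁆ * v⁻¹ := by rw [commutatorElement_def]; group
    rw [e5]
    refine mul_mem ?_ ?_
    · refine (Win_le fun r h6 h7 => ?_ : Win cs h X i j (2 + 1) (M i j - 1) ≤ _) h5
      exact le_Win (by omega) (by omega)
    · have h6 : X (cyc cs h i j (M i j)) ≤ Win cs h X i j 3 (M i j) := le_Win (by omega) (le_refl _)
      rw [cyc_m cs h hij] at h6
      exact h6 (inv_mem hv)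
  have h5 : ⁅u, v⁆ * w⁻¹ ∈ Win cs h X i j 3 (M i j) := by
    have e5 : ⁅u, v⁆ * w⁻¹ = c * (w * v⁻¹ * w⁻¹) := by rw [e]; group
    rw [e5]
    exact mul_mem hc h2
  have h6 : ⁅u, v⁆ * w⁻¹ ∈ Win cs h X i j 2 3 :=
    mul_mem h1 (inv_mem (le_Win (le_refl 2) (by omega) hw))
  have h7 : X (cyc cs h i j (M i j)) ≤ Subgroup.normalizer (X (cyc cs h i j 3) : Set Y) := by
    refine mem_norm_of fun y hy x hx => ?_
    have h8 : Commute x y := by
      refine comm_adj R hij (k := 3) (by omega) (by omega) hx ?_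
      have : (3 : ℤ) + 1 = M i j := by omega
      rwa [this]
    rw [← h8.eq, mul_inv_cancel_right]
    exact hx
  have h8 : Win cs h X i j 3 (M i j) ≤ X (cyc cs h i j 3) ⊔ X (cyc cs h i j (M i j)) := by
    refine Win_le fun r h9 h10 => ?_
    rcases (by omega : r = 3 ∨ r = M i j) with rfl | rfl
    · exact le_sup_left
    · exact le_sup_right
  have h9 : ⁅u, v⁆ * w⁻¹ ∈ ((X (cyc cs h i j 3) ⊔ X (cyc cs h i j (M i j)) : Subgroup Y) : Set Y) := h8 h5
  rw [Subgroup.coe_mul_of_right_le_normalizer_left _ _ h7, Set.mem_mul] at h9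
  obtain ⟨y, hy, z, hz, e9⟩ := h9
  have h10 : z = 1 := by
    rw [cyc_m cs h hij] at hz
    refine eq_one_of_mem_V R j hz (Win_le_V hij (a := 2) (b := 3) (by omega) (by omega) ?_)
    have e10 : z = y⁻¹ * (⁅u, v⁆ * w⁻¹) := by rw [← e9]; group
    rw [e10]
    exact mul_mem (inv_mem (le_Win (by omega) (le_refl 3) hy)) h6
  rw [h10, mul_one] at e9
  refine ⟨y, hy, ?_⟩
  have e11 : y * w = ⁅u, v⁆ := by rw [e9]; group
  rw [e11]
  exact Subgroup.commutator_mem_commutator hu hv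

theorem cover_four {i j : I} (hij : i ≠ j) (h4 : M i j = 4) {E : Subgroup Y}
    (hE : LL X i ⊔ LL X j ≤ Subgroup.normalizer (E : Set Y)) (hc : ⁅X (sr i), X (sr j)⁆ ≤ E) :
    LL X i ⊔ LL X j ≤ X (cyc cs h i j 2) ⊔ E ∧ LL X i ⊔ LL X j ≤ X (cyc cs h i j 3) ⊔ E := by
  have hM : (M i j : ℤ) = 4 := by exact_mod_cast h4
  have h1 : X (cyc cs h i j 2) ≤ X (cyc cs h i j 3) ⊔ E := by
    intro w hw
    obtain ⟨y, hy, h2⟩ := four_mem R hij h4 hw
    have := mul_mem (inv_mem (Subgroup.mem_sup_left hy : y ∈ X (cyc cs h i j 3) ⊔ E)) (Subgroup.mem_sup_right (hc h2))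
    rwa [inv_mul_cancel_left] at this
  have h2 : X (cyc cs h i j 3) ≤ X (cyc cs h i j 2) ⊔ E := by
    intro w hw
    rw [← swap_two (cs := cs) (h := h) hij h4] at hw
    obtain ⟨y, hy, h2⟩ := four_mem R hij.symm (by rw [M.symmetric]; exact h4) hw
    rw [swap_three (cs := cs) (h := h) hij h4] at hy
    rw [Subgroup.commutator_comm] at h2
    have := mul_mem (inv_mem (Subgroup.mem_sup_left hy : y ∈ X (cyc cs h i j 2) ⊔ E)) (Subgroup.mem_sup_right (hc h2))
    rwa [inv_mul_cancel_left] at this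
  have h3 : X (cyc cs h i j 3) ⊔ E = X (cyc cs h i j 2) ⊔ E :=
    le_antisymm (sup_le h2 le_sup_right) (sup_le h1 le_sup_right)
  rw [h3, and_self]
  obtain ⟨mi, hmi, hmi'⟩ := exists_m R i
  obtain ⟨mj, hmj, hmj'⟩ := exists_m R j
  have hi : mi ∈ Subgroup.normalizer ((X (cyc cs h i j 2) ⊔ E : Subgroup Y) : Set Y) := by
    rw [← h3, mem_normalizer_iff_cj, cj_sup, mem_normalizer_iff_cj.1 (hE (Subgroup.mem_sup_left hmi)),
      R.conj_rp hmi' (isRoot_cyc cs h i j 3), left_cyc cs h hij, hM]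
    rfl
  have hj : mj ∈ Subgroup.normalizer ((X (cyc cs h i j 2) ⊔ E : Subgroup Y) : Set Y) := by
    rw [mem_normalizer_iff_cj, cj_sup, mem_normalizer_iff_cj.1 (hE (Subgroup.mem_sup_right hmj)),
      R.conj_rp hmj' (isRoot_cyc cs h i j 2), right_cyc cs h hij, hM]
    rfl
  have a4 := X_act R hmi' hi (isRoot_cyc cs h i j 2) le_sup_left
  rw [left_cyc cs h hij, add_sub_cancel_right, cyc_m cs h hij] at a4
  have a1 := X_act R hmj' hj (isRoot_cyc cs h i j 3) h2
  rw [right_cyc cs h hij, hM, show (4 : ℤ) - 3 = 1 from rfl, cyc_one] at a1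
  have a0 := X_act R hmj' hj (isRoot_sr cs h j) a4
  have a5 := X_act R hmi' hi (isRoot_sr cs h i) a1
  rw [rep_simple_sr] at a0 a5
  exact sup_le (sup_le a1 a5) (sup_le a4 a0)

theorem four_perf' (hI : ∀ i, Irr T (X (sr i))) {i j : I} (hij : i ≠ j) (h4 : M i j = 4)
    (hc : ∀ a ∈ X (sr i), ∀ b ∈ X (cyc cs h i j 3), a * b * a⁻¹ = b) :
    dS (LL X i ⊔ LL X j) 1 ≤ dS (LL X i ⊔ LL X j) 2 := by
  have hM : (M i j : ℤ) = 4 := by exact_mod_cast h4
  set N := LL X i ⊔ LL X j with hN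
  have hNd : ∀ k, N ≤ Subgroup.normalizer (dS N k : Set Y) := fun k g hg => norm_dS (Subgroup.le_normalizer hg) k
  have hXi : X (sr i) ≤ N := (pos_le_LL i).trans le_sup_left
  have hXj : X (sr j) ≤ N := (pos_le_LL j).trans le_sup_right
  obtain ⟨mi, hmi, hmi'⟩ := exists_m R i
  obtain ⟨mj, hmj, hmj'⟩ := exists_m R j
  have hmiN : mi ∈ N := Subgroup.mem_sup_left hmi
  have hmjN : mj ∈ N := Subgroup.mem_sup_right hmj
  have h2N : X (cyc cs h i j 2) ≤ N := by
    have := X_act R hmi' (Subgroup.le_normalizer hmiN) (isRoot_cyc cs h i j (M i j)) (by rwa [cyc_m cs h hij])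
    rwa [left_cyc cs h hij, add_sub_cancel_left] at this
  have h3N : X (cyc cs h i j 3) ≤ N := by
    have := X_act R hmj' (Subgroup.le_normalizer hmjN) (isRoot_cyc cs h i j 1) (by rwa [cyc_one])
    rwa [right_cyc cs h hij, hM] at this
  have hD : ⁅X (sr i), X (sr j)⁆ ≤ dS N 1 := Subgroup.commutator_mono hXi hXj
  obtain ⟨c2, c3⟩ := cover_four R hij h4 (hNd 1) hD
  by_cases hb : ∀ a ∈ X (cyc cs h i j 2), ∀ b ∈ X (sr j), Commute a b
  · have h5 : ⁅X (sr i), X (sr j)⁆ ≤ dS N 2 := by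
      rw [Subgroup.commutator_le]
      intro u hu v hv
      obtain ⟨y, hy, e, he, h6⟩ := exists_mul_of_norm (h3N.trans (hNd 1)) (c3 (hXi hu))
      obtain ⟨y', hy', e', he', h7⟩ := exists_mul_of_norm (h2N.trans (hNd 1)) (c2 (hXj hv))
      have h8 : y⁻¹ * u = e := by rw [h6]; group
      have h9 : y'⁻¹ * v = e' := by rw [h7]; group
      have k1 : Commute y u := by
        have := hc u hu y hy
        rw [mul_inv_eq_iff_eq_mul] at this
        exact this.symm
      have k2 : Commute y v := by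
        refine comm_adj R hij (k := 3) (by omega) (by omega) hy ?_
        have : (3 : ℤ) + 1 = M i j := by omega
        rwa [this, cyc_m cs h hij]
      have k3 : Commute y' y := comm_adj R hij (k := 2) (by omega) (by omega) hy' hy
      have k4 : Commute u y' := comm_adj R hij (k := 1) (by omega) (by omega) (by rwa [cyc_one]) hy'
      rw [← comm_cen k1.inv_left k2.inv_left k3.symm.inv_inv k4.symm.inv_left (hb y' hy' v hv).inv_left, h8, h9]
      exact Subgroup.commutator_mem_commutator he he'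
    obtain ⟨d2, -⟩ := cover_four R hij h4 (hNd 2) h5
    exact (Subgroup.commutator_mono d2 d2).trans
      (comm_sup_le (h2N.trans (hNd 2)) (X_comm R hI (isRoot_cyc cs h i j 2)))
  · push Not at hb
    obtain ⟨a, ha, b, hb, hab⟩ := hb
    have h5 : ⁅a, b⁆ ∈ X (cyc cs h i j 3) := by
      have h6 := comm_Win R hij (k := 2) (l := M i j) (by omega) (by omega) le_rfl ha (y := b)
        (by rwa [cyc_m cs h hij])
      refine (Win_le fun r h7 h8 => ?_ : Win cs h X i j (2 + 1) (M i j - 1) ≤ _) h6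
      have : r = 3 := by omega
      rw [this]
    have h6 : ⁅a, b⁆ ∈ dS N 1 := Subgroup.commutator_mem_commutator (h2N ha) (hXj hb)
    have h7 : mj * ⁅a, b⁆ * mj⁻¹ ∈ X (sr i) := by
      have := R.conj_mem hmj' (isRoot_cyc cs h i j 3) h5
      rwa [right_cyc cs h hij, hM, show (4 : ℤ) - 3 = 1 from rfl, cyc_one] at this
    have hT : T ≤ Subgroup.normalizer (dS N 1 : Set Y) := by
      intro t ht
      refine norm_dS ?_ 1
      rw [mem_normalizer_iff_cj, hN, cj_sup, mem_normalizer_iff_cj.1 (T_norm_LL R i ht),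
        mem_normalizer_iff_cj.1 (T_norm_LL R j ht)]
    have h8 : X (sr i) ≤ dS N 1 := by
      refine (hI i).irr _ hT _ h7 (fun h9 => hab ?_) (conj_mem_of_norm (hNd 1 hmjN) h6)
      rw [← commutatorElement_eq_one_iff_commute]
      exact mul_eq_left.1 (mul_inv_eq_one.1 h9)
    have h9 : X (cyc cs h i j 3) ≤ dS N 1 := by
      have := X_act R hmj' (hNd 1 hmjN) (isRoot_cyc cs h i j 1) (by rwa [cyc_one])
      rwa [right_cyc cs h hij, hM] at this
    have h10 : N ≤ dS N 1 := c3.trans (sup_le h9 le_rfl)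
    exact Subgroup.commutator_mono h10 h10

theorem four_perf (hX : IntComm cs h X) (hI : ∀ i, Irr T (X (sr i))) {i j : I} (hij : i ≠ j) (h4 : M i j = 4) :
    dS (LL X i ⊔ LL X j) 1 ≤ dS (LL X i ⊔ LL X j) 2 := by
  rcases commFour_of_int hX hij h4 with h1 | h1
  · exact four_perf' R hI hij h4 h1
  · rw [sup_comm]
    refine four_perf' R hI hij.symm (by rw [M.symmetric]; exact h4) ?_
    rwa [swap_three (cs := cs) (h := h) hij h4]

/-- **Levi subgroups** -/
theorem ps_MM (hX : IntComm cs h X) (hI : ∀ i, Irr T (X (sr i))) (hL : ∀ i, PS 3 (LL X i)) {J : Set I}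
    (h6 : ∀ i ∈ J, ∀ j ∈ J, M i j ≠ 6) : PS 3 (MM X J) := by
  refine ps_iSup (fun j : J => LL X j.1) ?_ fun j => hL j.1
  intro i j hij x hx y hy
  have hij' : i.1 ≠ j.1 := fun e => hij (Subtype.ext e)
  have hle : LL X i.1 ⊔ LL X j.1 ≤ MM X J := sup_le (LL_le_MM i.2) (LL_le_MM j.2)
  have hxy : ⁅x, y⁆ ∈ dS (LL X i.1 ⊔ LL X j.1) 1 :=
    Subgroup.commutator_mem_commutator (Subgroup.mem_sup_left hx) (Subgroup.mem_sup_right hy)
  rcases h.rel i.1 j.1 hij' with ⟨h0, -⟩ | ⟨h0, -⟩ | ⟨h0, -⟩ | ⟨h0, -⟩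
  · rw [commutatorElement_eq_one_iff_commute.2 (comm_two R hij' h0 hx hy)]
    exact one_mem _
  · exact le_dS_of_perfect (three_perf R hij' h0) hle _ (dS_le _ 1 hxy)
  · exact le_dS_of_perfect (four_perf R hX hI hij' h0) ((dS_le _ 1).trans hle) _ hxy
  · exact absurd h0 (h6 _ i.2 _ j.2)

/-! ### levels -/

omit R in
/-- the root groups of level at least `m` -/
def Lev (cs : CoxeterSystem M W) (h : IsCartan M A) (X : (I → ℤ) → Subgroup Y) (f : (I → ℤ) →+ ℤ) (m : ℤ) :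
    Subgroup Y := RGD.Sup X {x | IsRoot cs h x ∧ 0 ≤ x ∧ m ≤ f x}

theorem comm_lev (hX : IntComm cs h X) (hI : ∀ i, Irr T (X (sr i))) {f : (I → ℤ) →+ ℤ} (hf : ∀ x, 0 ≤ x → 0 ≤ f x)
    {x y : I → ℤ} (hx : IsRoot cs h x) (hx0 : 0 ≤ x) (hy : IsRoot cs h y) (hy0 : 0 ≤ y) {a b : Y} (ha : a ∈ X x)
    (hb : b ∈ X y) : ⁅a, b⁆ ∈ Lev cs h X f (f x + f y) := by
  by_cases hxy : x = y
  · subst hxy
    rw [commutatorElement_eq_one_iff_mul_comm.2 (X_comm R hI hx a ha b hb)]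
    exact one_mem _
  have hxy' : x ≠ -y := by
    intro e
    rw [e] at hx0
    exact hy.not_pos_neg hy0 (neg_nonneg.1 hx0)
  refine KFacts.RgdBorelTits.FS_le (fun z hz => ?_) (hX x y hx hy hxy hxy' a ha b hb)
  obtain ⟨hz, i, j, hi, hj, rfl⟩ := hz
  refine RGD.le_Sup (S := {z | IsRoot cs h z ∧ 0 ≤ z ∧ f x + f y ≤ f z})
    ⟨hz, add_nonneg (smul_nonneg hi.le hx0) (smul_nonneg hj.le hy0), ?_⟩
  rw [map_add, map_zsmul, map_zsmul, smul_eq_mul, smul_eq_mul]
  have h1 := hf x hx0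
  have h2 := hf y hy0
  nlinarith only [hi, hj, h1, h2]

omit R in
theorem Lev_anti {f : (I → ℤ) →+ ℤ} {a b : ℤ} (hab : a ≤ b) : Lev cs h X f b ≤ Lev cs h X f a :=
  RGD.Sup_mono fun _ hx => ⟨hx.1, hx.2.1, hab.trans hx.2.2⟩

theorem norm_lev (hX : IntComm cs h X) (hI : ∀ i, Irr T (X (sr i))) {f : (I → ℤ) →+ ℤ} (hf : ∀ x, 0 ≤ x → 0 ≤ f x)
    {x : I → ℤ} (hx : IsRoot cs h x) (hx0 : 0 ≤ x) (m : ℤ) :
    X x ≤ Subgroup.normalizer (Lev cs h X f m : Set Y) := by
  refine mem_norm_of fun a ha z hz => ?_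
  have h1 : Lev cs h X f m ≤ (Lev cs h X f m).comap (MulAut.conj a).toMonoidHom := by
    refine RGD.Sup_le fun y hy b hb => ?_
    change a * b * a⁻¹ ∈ Lev cs h X f m
    have e : a * b * a⁻¹ = ⁅a, b⁆ * b := by rw [commutatorElement_def]; group
    rw [e]
    refine mul_mem (Lev_anti ?_ (comm_lev R hX hI hf hx hx0 hy.1 hy.2.1 ha hb))
      (RGD.le_Sup (S := {z | IsRoot cs h z ∧ 0 ≤ z ∧ m ≤ f z}) hy hb)
    have h2 := hf x hx0
    have h3 := hy.2.2
    omega
  exact h1 hz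

theorem comm_Lev (hX : IntComm cs h X) (hI : ∀ i, Irr T (X (sr i))) {f : (I → ℤ) →+ ℤ} (hf : ∀ x, 0 ≤ x → 0 ≤ f x)
    (a b : ℤ) : ⁅Lev cs h X f a, Lev cs h X f b⁆ ≤ Lev cs h X f (a + b) := by
  refine comm_le_of_gen _ _ (fun x => norm_lev R hX hI hf x.2.1 x.2.2.1 _)
    (fun x => norm_lev R hX hI hf x.2.1 x.2.2.1 _) fun x y u hu v hv => ?_
  exact Lev_anti (add_le_add x.2.2.2 y.2.2.2) (comm_lev R hX hI hf x.2.1 x.2.2.1 y.2.1 y.2.2.1 hu hv)

theorem dS_Lev (hX : IntComm cs h X) (hI : ∀ i, Irr T (X (sr i))) {f : (I → ℤ) →+ ℤ} (hf : ∀ x, 0 ≤ x → 0 ≤ f x)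
    (k : ℕ) : dS (Lev cs h X f 1) k ≤ Lev cs h X f (2 ^ k) := by
  induction k with
  | zero => exact le_rfl
  | succ k ih =>
    refine (Subgroup.commutator_mono ih ih).trans ((comm_Lev R hX hI hf _ _).trans (le_of_eq ?_))
    rw [pow_succ, mul_two]

/-- **Unipotent radicals** -/
theorem dS_VJ (hX : IntComm cs h X) (hI : ∀ i, Irr T (X (sr i))) (O : Finset I) {J : Set I} (hJ : ∀ i, i ∉ J → i ∈ O)
    {a : ℕ} (hb : ∀ x, IsRoot cs h x → ∑ i ∈ O, x i < 2 ^ a) : dS (VJ cs h X J) a = ⊥ := by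
  let f : (I → ℤ) →+ ℤ :=
    { toFun := fun x => ∑ i ∈ O, x i
      map_zero' := by simp
      map_add' := fun x y => by simp [Finset.sum_add_distrib] }
  have hf : ∀ x, 0 ≤ x → 0 ≤ f x := fun x hx => Finset.sum_nonneg fun i _ => hx i
  have h1 : VJ cs h X J ≤ Lev cs h X f 1 := by
    refine RGD.Sup_mono ?_
    rintro x ⟨hx, hx0, k, hk, hk0⟩
    exact ⟨hx, hx0, le_trans hk0 (Finset.single_le_sum (f := fun i => x i) (fun i _ => hx0 i) (hJ k hk))⟩
  rw [eq_bot_iff]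
  refine (dS_mono h1 a).trans ((dS_Lev R hX hI hf a).trans (RGD.Sup_le fun x hx => ?_))
  exact absurd hx.2.2 (not_le.2 (hb x hx.1))

end Cfsg.Agent.DS.Par
end

-- part: DS/Ex/ParCore
section
/-!
# DS, parabolic case: the theorem for groups with a root group datum (helper55)

* `Mx Γ H` : `H` is maximal in `Γ`, `Inn Y ≤ Γ ≤ Aut Y`;
* `par_aut` : `PS (a + 3 + c) H` if `H` fixes a nontrivial `p`-subgroup;
* `par_loc` : the same for `Loc S H E p`, `S ≃* Y`.
-/

set_option autoImplicit false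
set_option linter.unusedSectionVars false

namespace Cfsg.Agent.DS.Par

open CoxeterSystem Cfsg.Agent.ChevalleyStructure.CoxeterGeom Cfsg.Agent.Tits.Roots Cfsg.Agent.Tits.Core
  Cfsg.Agent.Tits.Exchange Cfsg.Agent.Nodes.Reps Cfsg.Agent.Nodes.BNOf Cfsg.Agent.Nodes.StabComb
  Cfsg.Agent.Nodes.Bruhat Cfsg.Agent.Nodes.OppDec Cfsg.Agent.Nodes.LeviDec
  Cfsg.Agent.KFacts.RgdFilt Cfsg.Agent.H936 Cfsg.Agent.KFacts.RgdAut Cfsg.Agent.KFacts.RgdDiag
  Cfsg.Agent.KFacts.RgdRigid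
open scoped commutatorElement Pointwise

section aut

variable {Y : Type*} [Group Y]

/-- the automorphisms fixing `Q` -/
def St (Q : Subgroup Y) : Subgroup (MulAut Y) where
  carrier := {β | _root_.Cfsg.Agent.KFacts.RgdAut.Fix β Q}
  mul_mem' ha hb := ha.mul hb
  one_mem' := fun _ => Iff.rfl
  inv_mem' ha := ha.inv

theorem conj_mem_St {Q : Subgroup Y} {y : Y} : MulAut.conj y ∈ St Q ↔ y ∈ Subgroup.normalizer (Q : Set Y) := by
  rw [Subgroup.mem_normalizer_iff]
  exact ⟨fun h x => (h x).symm, fun h x => (h x).symm⟩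

theorem le_St_of {H : Subgroup (MulAut Y)} {Q : Subgroup Y} (h : ∀ β ∈ H, ∀ x ∈ Q, β x ∈ Q) : H ≤ St Q := by
  intro β hβ x
  refine ⟨fun hx => ?_, h β hβ x⟩
  have := h β⁻¹ (inv_mem hβ) _ hx
  rwa [MulAut.inv_apply_self] at this

/-- `H` is maximal in `Γ`, which contains the inner automorphisms -/
structure Mx (Γ H : Subgroup (MulAut Y)) : Prop where
  le : H ≤ Γ
  inn : ∀ y, MulAut.conj y ∈ Γ
  max : ∀ K, H ≤ K → K ≤ Γ → K = H ∨ K = Γ

theorem Mx.conj_mem {Γ H : Subgroup (MulAut Y)} (m : Mx Γ H) {Q : Subgroup Y} (hQ : H ≤ St Q)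
    (hn : Subgroup.normalizer (Q : Set Y) ≠ ⊤) {y : Y} (hy : y ∈ Subgroup.normalizer (Q : Set Y)) :
    MulAut.conj y ∈ H := by
  rcases m.max (St Q ⊓ Γ) (le_inf hQ m.le) inf_le_right with h1 | h1
  · rw [← h1]
    exact ⟨conj_mem_St.2 hy, m.inn y⟩
  · exfalso
    apply hn
    rw [eq_top_iff]
    intro z _
    have h2 := m.inn z
    rw [← h1] at h2
    exact conj_mem_St.1 h2.1

theorem Mx.cj {Γ H : Subgroup (MulAut Y)} (m : Mx Γ H) {c : MulAut Y} (hc : c ∈ Γ) : Mx Γ (cj c H) where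
  le := by
    rw [← cj_eq_of_mem hc]
    exact cj_mono _ m.le
  inn := m.inn
  max K h1 h2 := by
    have h3 : H ≤ Nodes.Reps.cj c⁻¹ K := by
      have := cj_mono c⁻¹ h1
      rwa [cj_inv_cj] at this
    have h4 : Nodes.Reps.cj c⁻¹ K ≤ Γ := by
      rw [← cj_eq_of_mem (inv_mem hc)]
      exact cj_mono _ h2
    rcases m.max _ h3 h4 with h5 | h5
    · left
      rw [← h5, cj_cj_inv]
    · right
      rw [← cj_cj_inv c K, h5, cj_eq_of_mem hc]

theorem conj_conj (β : MulAut Y) (y : Y) : β * MulAut.conj y * β⁻¹ = MulAut.conj (β y) := by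
  ext x
  simp only [_root_.MulAut.mul_apply, _root_.MulAut.inv_apply, _root_.MulAut.conj_apply, _root_.map_mul, _root_.MulEquiv.apply_symm_apply, _root_.map_inv]

end aut

variable {I W Y : Type*} [Fintype I] [DecidableEq I] [Group W] [Finite W] [Group Y] [Finite Y] {M : CoxeterMatrix I}
  {cs : CoxeterSystem M W} {A : I → I → ℤ} {h : IsCartan M A} {p : ℕ} {T : Subgroup Y} {n : I → Y}
  {X : (I → ℤ) → Subgroup Y}

theorem simple_mem_iff (h : IsCartan M A) {J : Set I} {i : I} : cs.simple i ∈ WJ cs J ↔ i ∈ J := by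
  refine ⟨fun h3 => ?_, fun hi => simple_mem_WJ cs hi⟩
  by_contra hiJ
  have h4 := NotJ.act h3 (sr_mem_NotJ (cs := cs) (h := h) hiJ)
  rw [rep_simple_sr] at h4
  exact h4.1.ne_zero (le_antisymm (neg_nonpos.2 (sr_nonneg i)) h4.2.1)

variable (R : RGD cs h p T n X)

include R

theorem rp_mem_PJ {J : Set I} {i : I} {k : Y} (hk : Rp cs R.nsys (cs.simple i) k) : k ∈ PJ cs h T X J ↔ i ∈ J := by
  rw [cell_mem_PJ_iff R (cell_of_rp hk), simple_mem_iff h]

theorem PJ_mono {J K : Set I} (hJK : J ⊆ K) : PJ cs h T X J ≤ PJ cs h T X K := by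
  intro g hg
  obtain ⟨w, hw, hc⟩ := (mem_PJ_iff_cell R).1 hg
  exact (mem_PJ_iff_cell R).2 ⟨w, WJ_mono cs hJK hw, hc⟩

theorem norm_PJ_ne {J : Set I} (hJ : J ≠ Set.univ) : Subgroup.normalizer (PJ cs h T X J : Set Y) ≠ ⊤ := by
  intro h1
  apply hJ
  rw [Set.eq_univ_iff_forall]
  intro i
  obtain ⟨m, hm, hm'⟩ := exists_m R i
  have h2 : X (sr i) ≤ PJ cs h T X J := (RGD.X_le_B (isRoot_sr cs h i) (sr_nonneg i)).trans B_le_PJ
  have h3 := X_act R hm' (by rw [h1]; trivial) (isRoot_sr cs h i) h2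
  rw [rep_simple_sr] at h3
  exact (rp_mem_PJ R hm').1 (sup_le h2 h3 hm)

theorem PJ_ne {J : Set I} (hJ : J ≠ Set.univ) : PJ cs h T X J ≠ ⊤ := by
  intro h1
  apply norm_PJ_ne R hJ
  rw [eq_top_iff, ← h1]
  exact Subgroup.le_normalizer

theorem diag_PJ (hG : GG cs h T X = ⊤) {γ : MulAut Y} (hγ : γ ∈ Frame cs h X) {σ : Equiv.Perm I}
    (D : Diag T X γ σ) (K : Set I) (x : Y) : γ x ∈ PJ cs h T X K ↔ x ∈ PJ cs h T X {i | σ i ∈ K} := by
  have hB : RGD.B cs h T X ≤ (PJ cs h T X K).comap γ.toMonoidHom := fun y hy => B_le_PJ ((fix_B R hG hγ.1 y).2 hy)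
  have h1 := inf_eq_PJ R hB
  rw [hG, inf_top_eq] at h1
  have h2 : {i | n i ∈ (PJ cs h T X K).comap γ.toMonoidHom} = {i | σ i ∈ K} := by
    ext i
    exact rp_mem_PJ R (D.rp (R := R) i)
  rw [h2] at h1
  rw [← h1]
  rfl

/-- **Frattini** -/
theorem exists_frame_PJ [Fact p.Prime] (hG : GG cs h T X = ⊤) {J : Set I} {β : MulAut Y}
    (hβ : β ∈ St (PJ cs h T X J)) : ∃ k ∈ PJ cs h T X J, MulAut.conj k * β ∈ Frame cs h X := by
  set U := RGD.Sup X (RGD.Pos cs h) with hU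
  have hUp : IsPGroup p ↥U := R.isPGroup_Upos
  have hidx : ¬ p ∣ U.index := by
    have h1 := KFacts.RgdSyl.not_dvd_relIndex R
    rwa [hG, Subgroup.relIndex_top_right] at h1
  let S : Sylow p Y := hUp.toSylow hidx
  have hS : (S : Subgroup Y) = U := rfl
  have hUP : U ≤ PJ cs h T X J := RGD.U_le_B.trans B_le_PJ
  have h1 : (S : Subgroup Y) ≤ PJ cs h T X J := hUP
  have h2 : ((β • S : Sylow p Y) : Subgroup Y) ≤ PJ cs h T X J := by
    rw [Sylow.pointwise_smul_def, hS]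
    rintro _ ⟨x, hx, rfl⟩
    exact (hβ x).2 (hUP hx)
  obtain ⟨k, hk⟩ := MulAction.exists_smul_eq (PJ cs h T X J) ((β • S).subtype h2) (S.subtype h1)
  rw [Sylow.smul_subtype] at hk
  have h3 : (k : Y) • (β • S) = S := Sylow.subtype_injective hk
  have h4 : _root_.Cfsg.Agent.KFacts.RgdAut.Fix (MulAut.conj (k : Y) * β) U := by
    have h5 : (MulAut.conj (k : Y) * β) • S = S := by
      rw [mul_smul]
      exact h3
    have h6 : (((MulAut.conj (k : Y) * β) • S : Sylow p Y) : Subgroup Y) = S := by rw [h5]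
    rw [Sylow.pointwise_smul_def, hS] at h6
    rw [fix_iff]
    exact h6
  obtain ⟨u, hu, h6, -, h7, -, -⟩ := exists_frame R hG h4
  refine ⟨u * k, mul_mem (hUP hu) k.2, ?_⟩
  rw [map_mul, mul_assoc]
  exact ⟨h6, h7⟩

theorem mem_PJ' {J : Set I} {k : Y} (hk : k ∈ PJ cs h T X J) :
    ∃ t ∈ T, ∃ y ∈ VJ cs h X J ⊔ MM X J, k = t * y := by
  have h1 : PJ cs h T X J = T ⊔ (VJ cs h X J ⊔ MM X J) := by
    rw [PJ, LJ, MM_eq R, sup_assoc, sup_comm (MM X J)]
  rw [h1] at hk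
  refine exists_mul_of_norm (fun t ht => ?_) hk
  rw [mem_normalizer_iff_cj, cj_sup, mem_normalizer_iff_cj.1 (T_norm_MM R J ht),
    mem_normalizer_iff_cj.1 (LJ_le_normalizer_VJ R J (T_le_LJ ht))]

theorem conj_T_mem {t : Y} (ht : t ∈ T) : MulAut.conj t ∈ Frame cs h X :=
  ⟨conj_mem_St.2 (R.T_le_normalizer_U ht), conj_mem_St.2 (R.T_le_normalizer (fun _ hx => hx.1) ht)⟩

omit R in
/-- the numerical data of the type -/
structure Num (cs : CoxeterSystem M W) (h : IsCartan M A) (a : ℕ) : Prop where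
  six : ∀ i j k, M i j ≠ 6 ∨ k = i ∨ k = j
  lev : ∃ g : I → ℕ, (∀ σ : Equiv.Perm I, (∀ i j, M (σ i) (σ j) = M i j) → ∀ i, g (σ i) = g i) ∧
    ∀ i₀ x, IsRoot cs h x → ∑ i ∈ Finset.univ.filter (fun i => g i = g i₀), x i < 2 ^ a

theorem core [Fact p.Prime] (hG : GG cs h T X = ⊤) (hX : IntComm cs h X) (hI : ∀ i, Irr T (X (sr i)))
    (hL : ∀ i, PS 3 (LL X i)) {a c : ℕ} (hN : Num cs h a) (hF : derivedSeries (Frame cs h X) c = ⊥)
    {Γ H : Subgroup (MulAut Y)} (m : Mx Γ H) {J : Set I} (hJ : J ≠ Set.univ) (hV : H ≤ St (VJ cs h X J)) :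
    PS (a + 3 + c) H := by
  have hNV : Subgroup.normalizer (VJ cs h X J : Set Y) = PJ cs h T X J := by
    have := KFacts.RgdVJ.normalizer_VJ R J
    rwa [hG, inf_top_eq] at this
  have hP : ∀ y ∈ PJ cs h T X J, MulAut.conj y ∈ H := fun y hy =>
    m.conj_mem hV (by rw [hNV]; exact PJ_ne R hJ) (by rwa [hNV])
  have hHP : H ≤ St (PJ cs h T X J) := by
    intro β hβ
    have := Fix.normalizer (hV hβ)
    rwa [hNV] at this
  -- decomposition
  have hdec : ∀ β ∈ H, ∃ k ∈ PJ cs h T X J, ∃ γ ∈ Frame cs h X ⊓ H, β = MulAut.conj k * γ := by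
    intro β hβ
    obtain ⟨k, hk, h1⟩ := exists_frame_PJ R hG (hHP hβ)
    refine ⟨k⁻¹, inv_mem hk, MulAut.conj k * β, ⟨h1, mul_mem (hP k hk) hβ⟩, ?_⟩
    rw [map_inv, inv_mul_cancel_left]
  have hdiag : ∀ γ ∈ Frame cs h X ⊓ H, ∃ σ : Equiv.Perm I, Diag T X γ σ := fun γ hγ =>
    exists_diag R hG hγ.1.1 hγ.1.2
  have hσJ : ∀ γ ∈ Frame cs h X ⊓ H, ∀ σ : Equiv.Perm I, Diag T X γ σ → ∀ i, σ i ∈ J ↔ i ∈ J := by
    intro γ hγ σ D i
    have h1 := diag_PJ R hG hγ.1 D J (n i)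
    rw [hHP hγ.2 (n i), rp_mem_PJ R (rp_simple cs R.nsys i), rp_mem_PJ R (rp_simple cs R.nsys i)] at h1
    exact h1.symm
  -- one orbit
  obtain ⟨i₀, hi₀⟩ := (Set.ne_univ_iff_exists_notMem J).1 hJ
  let J' : Set I := {i | ¬ ∃ γ ∈ Frame cs h X ⊓ H, ∃ σ : Equiv.Perm I, Diag T X γ σ ∧ σ i₀ = i}
  have hJJ' : J ⊆ J' := by
    rintro i hi ⟨γ, hγ, σ, D, rfl⟩
    exact hi₀ ((hσJ γ hγ σ D i₀).1 hi)
  have hJ' : J' ≠ Set.univ := by
    rw [Set.ne_univ_iff_exists_notMem]
    exact ⟨i₀, fun h1 => h1 ⟨1, one_mem _, 1, Diag.one, rfl⟩⟩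
  have hHP' : H ≤ St (PJ cs h T X J') := by
    refine le_St_of fun β hβ x hx => ?_
    obtain ⟨k, hk, γ, hγ, rfl⟩ := hdec β hβ
    obtain ⟨σ, D⟩ := hdiag γ hγ
    have h1 : γ x ∈ PJ cs h T X J' := by
      rw [diag_PJ R hG hγ.1 D]
      refine PJ_mono R ?_ hx
      rintro i hi ⟨δ, hδ, τ, D', e⟩
      refine hi ⟨γ⁻¹ * δ, mul_mem (inv_mem hγ) hδ, σ⁻¹ * τ, D.inv.mul D', ?_⟩
      rw [Equiv.Perm.mul_apply, e]
      exact σ.symm_apply_apply i
    have h2 := PJ_mono R hJJ' hk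
    exact mul_mem (mul_mem h2 h1) (inv_mem h2)
  have hJ'J : J' ⊆ J := by
    intro i hi
    have h1 := m.conj_mem hHP' (norm_PJ_ne R hJ')
      (Subgroup.le_normalizer ((rp_mem_PJ R (rp_simple cs R.nsys i)).2 hi))
    have h2 := conj_mem_St.1 (hV h1)
    rwa [hNV, rp_mem_PJ R (rp_simple cs R.nsys i)] at h2
  obtain ⟨g, hg, hb⟩ := hN.lev
  have hV0 : dS (VJ cs h X J) a = ⊥ := by
    refine dS_VJ R hX hI (Finset.univ.filter fun i => g i = g i₀) (fun i hi => ?_) (hb i₀)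
    have h1 : i ∉ J' := fun h2 => hi (hJ'J h2)
    obtain ⟨γ, -, σ, D, rfl⟩ := not_not.1 h1
    rw [Finset.mem_filter]
    exact ⟨Finset.mem_univ _, hg σ (D.matrix R) i₀⟩
  have hM : PS 3 (MM X J) := by
    refine ps_MM R hX hI hL fun i hi j hj h6 => hi₀ ?_
    rcases hN.six i j i₀ with h7 | rfl | rfl
    · exact absurd h6 h7
    · exact hi
    · exact hj
  have hMP : MM X J ≤ LJ cs h T X J := by
    rw [← MM_eq R]
    exact le_sup_right
  have h0 : PS (a + 3) ↥(VJ cs h X J ⊔ MM X J) :=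
    ps_sup (hMP.trans (LJ_le_normalizer_VJ R J)) (ps_of_dS_bot hV0) hM
  set N₀ := VJ cs h X J ⊔ MM X J with hN₀
  have hfix : Frame cs h X ⊓ H ≤ St N₀ := by
    refine le_St_of fun γ hγ x hx => ?_
    obtain ⟨σ, D⟩ := hdiag γ hγ
    have h1 : N₀ ≤ N₀.comap γ.toMonoidHom := by
      refine sup_le (fun y hy => Subgroup.mem_sup_left ((hV hγ.2 y).2 hy)) (iSup_le fun j => sup_le ?_ ?_)
      · intro y hy
        exact Subgroup.mem_sup_right (LL_le_MM ((hσJ γ hγ σ D j).2 j.2) (pos_le_LL _ ((D.pos j y).2 hy)))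
      · intro y hy
        exact Subgroup.mem_sup_right (LL_le_MM ((hσJ γ hγ σ D j).2 j.2) (neg_le_LL _ ((D.neg j y).2 hy)))
    exact h1 hx
  have h1 : PS (a + 3 + c) ↥(N₀.map (MulAut.conj : Y →* MulAut Y) ⊔ (Frame cs h X ⊓ H)) := by
    refine ps_sup (mem_norm_of ?_) (ps_map _ h0) (ps_of_dS_bot ?_)
    · rintro γ hγ _ ⟨y, hy, rfl⟩
      exact ⟨γ y, (hfix hγ y).2 hy, (conj_conj γ y).symm⟩
    · rw [eq_bot_iff]
      refine (dS_mono inf_le_left c).trans ?_
      rw [dS_eq, hF, Subgroup.map_bot]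
  have h2 : N₀.map (MulAut.conj : Y →* MulAut Y) ⊔ (Frame cs h X ⊓ H) = H := by
    apply le_antisymm
    · refine sup_le ?_ inf_le_right
      rintro _ ⟨y, hy, rfl⟩
      exact hP y (sup_le VJ_le_PJ (hMP.trans LJ_le_PJ) hy)
    · intro β hβ
      obtain ⟨k, hk, γ, hγ, rfl⟩ := hdec β hβ
      obtain ⟨t, ht, y, hy, rfl⟩ := mem_PJ' R hk
      rw [map_mul]
      refine mul_mem (mul_mem (Subgroup.mem_sup_right ⟨conj_T_mem R ht, hP t (LJ_le_PJ (T_le_LJ ht))⟩)
        (Subgroup.mem_sup_left ⟨y, hy, rfl⟩)) (Subgroup.mem_sup_right hγ)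
  rwa [h2] at h1

/-- **The parabolic case**, inside `Aut Y`. -/
theorem par_aut [Fact p.Prime] (hG1 : RGD.Sup X {x | IsRoot cs h x} = ⊤) (hX : IntComm cs h X)
    (hI : ∀ i, Irr T (X (sr i))) (hL : ∀ i, PS 3 (LL X i)) {a c : ℕ} (hN : Num cs h a)
    (hF : derivedSeries (Frame cs h X) c = ⊥) {Γ H : Subgroup (MulAut Y)} (m : Mx Γ H) {E : Subgroup Y}
    (hE : IsPGroup p E) (hE1 : E ≠ ⊥) (hHE : H ≤ St E) : PS (a + 3 + c) H := by
  have hG : GG cs h T X = ⊤ := KFacts.RgdRigid.GG_eq_top hG1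
  have hBT := fun (K : Subgroup Y) (hK : IsPGroup p K) (hK1 : K ≠ ⊥) =>
    borel_tits_of_filt (IntComm.filt (R := R) hX) hG1 hK hK1
  set P₀ := H.comap (MulAut.conj : Y →* MulAut Y) with hP₀
  have key : ∀ Q : Subgroup Y, IsPGroup p Q → Q ≠ ⊥ → H ≤ St Q → Subgroup.normalizer (Q : Set Y) = P₀ := by
    intro Q hQ hQ1 hHQ
    obtain ⟨g, J, hJ, -, h2⟩ := hBT Q hQ hQ1
    refine le_antisymm (fun y hy => m.conj_mem hHQ (fun h3 => PJ_ne R hJ ?_) hy) fun y hy => conj_mem_St.1 (hHQ hy)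
    rw [h3, top_le_iff] at h2
    rw [← cj_inv_cj g (PJ cs h T X J), h2, cj_eq_of_mem (Subgroup.mem_top _)]
  obtain ⟨Q, ⟨hQ, hQP, hPQ⟩, hmax⟩ := WellFounded.has_min (wellFounded_gt (α := Subgroup Y))
    {Q : Subgroup Y | IsPGroup p Q ∧ Q ≤ P₀ ∧ P₀ ≤ Subgroup.normalizer (Q : Set Y)}
    ⟨⊥, IsPGroup.of_bot, bot_le, bot_normal _⟩
  have hle : ∀ Q' : Subgroup Y, IsPGroup p Q' → Q' ≤ P₀ → P₀ ≤ Subgroup.normalizer (Q' : Set Y) → Q' ≤ Q := by
    intro Q' h1 h2 h3
    by_contra h4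
    refine hmax (Q ⊔ Q') ⟨IsPGroup.to_sup_of_normal_right' hQ h1 (hQP.trans h3), sup_le hQP h2, fun y hy => ?_⟩
      (left_lt_sup.2 h4)
    rw [mem_normalizer_iff_cj, cj_sup, mem_normalizer_iff_cj.1 (hPQ hy), mem_normalizer_iff_cj.1 (h3 hy)]
  have hEQ : E ≤ Q := by
    have h1 := key E hE hE1 hHE
    exact hle E hE (h1 ▸ Subgroup.le_normalizer) h1.ge
  have hQ1 : Q ≠ ⊥ := fun h1 => hE1 (eq_bot_iff.2 (h1 ▸ hEQ))
  have hP₀H : ∀ β ∈ H, ∀ y ∈ P₀, β y ∈ P₀ := by
    intro β hβ y hy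
    change MulAut.conj (β y) ∈ H
    rw [← conj_conj]
    exact mul_mem (mul_mem hβ hy) (inv_mem hβ)
  have hHQ : H ≤ St Q := by
    refine le_St_of fun β hβ x hx => hle (Q.map β.toMonoidHom) (hQ.map _) ?_ ?_ ⟨x, hx, rfl⟩
    · rintro _ ⟨y, hy, rfl⟩
      exact hP₀H β hβ y (hQP hy)
    · refine mem_norm_of ?_
      rintro y hy _ ⟨z, hz, rfl⟩
      refine ⟨β⁻¹ y * z * (β⁻¹ y)⁻¹, conj_mem_of_norm (hPQ (hP₀H β⁻¹ (inv_mem hβ) y hy)) hz, ?_⟩
      simp only [_root_.MulEquiv.toMonoidHom_eq_coe, _root_.MulAut.inv_apply, _root_.MonoidHom.coe_coe, _root_.map_mul, _root_.MulEquiv.apply_symm_apply, _root_.map_inv]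
  have hNQ := key Q hQ hQ1 hHQ
  obtain ⟨g, J, hJ, h1, h2⟩ := hBT Q hQ hQ1
  have hVp : IsPGroup p (cj g (VJ cs h X J)) :=
    (R.isPGroup_of_pos (S := NotJ cs h J) fun x hx => ⟨hx.1, hx.2.1⟩).map _
  have h3 : cj g (VJ cs h X J) ⊓ P₀ ≤ Q := by
    refine hle _ (hVp.to_le inf_le_left) inf_le_right (mem_norm_of fun y hy z hz => ⟨?_, ?_⟩)
    · have h4 : y ∈ cj g (PJ cs h T X J) := h2 (hNQ.ge hy)
      have h5 : z ∈ cj g (VJ cs h X J) := hz.1
      rw [mem_cj] at h4 h5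
      have h6 := conj_mem_of_norm (PJ_le_normalizer_VJ R J h4) h5
      change y * z * y⁻¹ ∈ cj g (VJ cs h X J)
      rw [mem_cj]
      have e : g⁻¹ * (y * z * y⁻¹) * g = g⁻¹ * y * g * (g⁻¹ * z * g) * (g⁻¹ * y * g)⁻¹ := by group
      rwa [e]
    · exact P₀.mul_mem (P₀.mul_mem hy hz.2) (P₀.inv_mem hy)
  have h4 : Q = cj g (VJ cs h X J) := by
    have hnil := hVp.isNilpotent
    have h5 := Group.normalizerCondition_of_isNilpotent (G := cj g (VJ cs h X J))
    rw [normalizerCondition_iff_only_full_group_self_normalizing] at h5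
    have h6 := h5 (Q.subgroupOf (cj g (VJ cs h X J))) (by
      refine le_antisymm (fun x hx => ?_) Subgroup.le_normalizer
      rw [← Subgroup.subgroupOf_normalizer_eq h1, Subgroup.mem_subgroupOf, hNQ] at hx
      exact h3 ⟨x.2, hx⟩)
    exact le_antisymm h1 (Subgroup.subgroupOf_eq_top.1 h6)
  have h5 : cj (MulAut.conj g)⁻¹ H ≤ St (VJ cs h X J) := by
    refine le_St_of fun β hβ x hx => ?_
    rw [mem_cj, inv_inv] at hβ
    have h6 : g * x * g⁻¹ ∈ Q := by
      rw [h4]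
      exact conj_mem_cj.2 hx
    have h7 := (hHQ hβ _).2 h6
    rw [h4, mem_cj] at h7
    simpa only [mul_assoc, _root_.MulAut.mul_apply, _root_.MulAut.inv_apply, _root_.MulAut.conj_symm_apply, _root_.inv_mul_cancel_left, _root_.inv_mul_cancel, _root_.mul_one, _root_.MulAut.conj_apply] using h7
  have h6 := core R hG hX hI hL hN hF (m.cj (inv_mem (m.inn g))) hJ h5
  have h7 := ps_map (MulAut.conj (MulAut.conj g)).toMonoidHom h6
  change PS _ (cj (MulAut.conj g) (cj (MulAut.conj g)⁻¹ H)) at h7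
  rwa [cj_cj_inv] at h7

omit R [Finite Y] in
/-- passage from an almost simple group to the automorphism group of the socle -/
theorem exists_mx {G : Type} [Group G] {S H : Subgroup G} (hs : Setup S H) (e : S ≃* Y) :
    ∃ φ : G →* MulAut Y, Function.Injective φ ∧ Mx φ.range (H.map φ) ∧
      ∀ (g : G) (s s' : S), (s' : G) = g * s * g⁻¹ → φ g (e s) = e s' := by
  have := hs.normal
  let φ : G →* MulAut Y := (MulAut.congr e).toMonoidHom.comp (MulAut.conjNormal (H := S))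
  have hφ : ∀ (g : G) (s s' : S), (s' : G) = g * s * g⁻¹ → φ g (e s) = e s' := by
    intro g s s' h1
    change e (MulAut.conjNormal g (e.symm (e s))) = e s'
    rw [e.symm_apply_apply]
    congr 1
    exact Subtype.ext h1.symm
  refine ⟨φ, ?_, ⟨Subgroup.map_le_range _ _, fun y => ⟨e.symm y, ?_⟩, fun K h1 h2 => ?_⟩, hφ⟩
  · rw [injective_iff_map_eq_one]
    intro g hg
    rw [← Subgroup.mem_bot, ← hs.cent, Subgroup.mem_centralizer_iff]
    intro s hs'
    have h1 := hφ g ⟨s, hs'⟩ ⟨_, this.conj_mem s hs' g⟩ rfl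
    rw [hg, MulAut.one_apply] at h1
    have h2 : s = g * s * g⁻¹ := congrArg Subtype.val (e.injective h1)
    rw [eq_mul_inv_iff_mul_eq] at h2
    exact h2
  · ext x
    obtain ⟨s, rfl⟩ := e.surjective x
    rw [hφ _ s (e.symm y * s * (e.symm y)⁻¹) rfl]
    simp only [_root_.map_mul, _root_.MulEquiv.apply_symm_apply, _root_.map_inv, _root_.MulAut.conj_apply]
  · have h3 : H ≤ K.comap φ := Subgroup.map_le_iff_le_comap.1 h1
    rcases h3.eq_or_lt with h4 | h4
    · left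
      rw [h4, Subgroup.map_comap_eq_self h2]
    · right
      rw [← Subgroup.map_comap_eq_self h2, hs.coatom.2 _ h4, MonoidHom.range_eq_map]

/-- **The parabolic case.** -/
theorem par_loc [Fact p.Prime] (hG1 : RGD.Sup X {x | IsRoot cs h x} = ⊤) (hX : IntComm cs h X)
    (hI : ∀ i, Irr T (X (sr i))) (hL : ∀ i, PS 3 (LL X i)) {a c : ℕ} (hN : Num cs h a)
    (hF : derivedSeries (Frame cs h X) c = ⊥) {G : Type} [Group G] {S H E : Subgroup G} (hs : Setup S H)
    (e : S ≃* Y) (hES : E ≤ S) (hE : IsPGroup p E) (hE1 : E ≠ ⊥) (hHE : H ≤ Subgroup.normalizer (E : Set G)) :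
    PS (a + 3 + c) H := by
  obtain ⟨φ, hφ, m, hc⟩ := exists_mx hs e
  have h1 := par_aut R hG1 hX hI hL hN hF m (E := (E.subgroupOf S).map e.toMonoidHom)
    ((hE.comap_of_injective S.subtype S.subtype_injective).map _) ?_ ?_
  · exact h1.of_equiv (H.equivMapOfInjective φ hφ).symm
  · intro h2
    apply hE1
    rw [Subgroup.map_eq_bot_iff_of_injective _ e.injective, Subgroup.subgroupOf_eq_bot] at h2
    exact h2.eq_bot_of_le hES
  · refine le_St_of ?_
    rintro _ ⟨g, hg, rfl⟩ _ ⟨s, hs', rfl⟩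
    have h2 : g * s * g⁻¹ ∈ E := conj_mem_of_norm (hHE hg) hs'
    exact ⟨⟨_, hES h2⟩, h2, (hc g s _ rfl).symm⟩

end Cfsg.Agent.DS.Par
end

-- part: DS/Ex/ParInst
section
/-!
# DS, parabolic case: the groups `G₂`, `F₄`, `E₆`, `E₇`, `E₈`, `²E₆`, `³D₄` (and `B₂`) (helper55)

`par_G2`, ..., `par_3D4` : `PS 9 H` if the maximal subgroup `H` normalises a nontrivial `p`-subgroup of the socle, `p` the
characteristic.
-/

set_option autoImplicit false
set_option linter.unusedSectionVars false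

namespace Cfsg.Agent.DS.Par

open CoxeterSystem Cfsg.Agent.ChevalleyStructure.CoxeterGeom Cfsg.Agent.Tits.Roots Cfsg.Agent.Tits.Core
  Cfsg.Agent.Nodes.Reps Cfsg.Agent.Nodes.BNOf Cfsg.Agent.Nodes.RGDChev Cfsg.Agent.KFacts.RgdFilt Cfsg.Agent.H936
  Cfsg.Agent.KFacts.RgdRigid
open Cfsg.Lie Cfsg.Agent.ChevalleyStructure Cfsg.Agent.ChevalleyStructure.Elts
  Cfsg.Agent.ChevalleyStructure.CoxeterGeomTypes Cfsg.Agent.Nodes.RGDFoldSL
open Cfsg.Agent.ChevalleyStructure.SL2Hom (up lo mem_closure_SL2)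
open scoped commutatorElement

universe u

section gen

variable {I W Y : Type*} [Fintype I] [DecidableEq I] [Group W] [Group Y] [Finite Y] {M : CoxeterMatrix I}
  {cs : CoxeterSystem M W} {A : I → I → ℤ} {h : IsCartan M A} {p : ℕ} {T : Subgroup Y} {n : I → Y}
  {X : (I → ℤ) → Subgroup Y}

theorem intComm_restrict (hX : IntComm cs h X) (K : Subgroup Y) (hK : ∀ x, IsRoot cs h x → X x ≤ K) :
    IntComm cs h (fun x => (X x).subgroupOf K) := by
  intro x y hx hy hxy hxy' a ha b hb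
  have h2 := hX x y hx hy hxy hxy' a ha b hb
  have h3 : KFacts.RgdBorelTits.FS (fun z => (X z).subgroupOf K) {z | IB cs h x y z} =
      (KFacts.RgdBorelTits.FS X {z | IB cs h x y z}).subgroupOf K := by
    unfold KFacts.RgdBorelTits.FS
    rw [Nodes.RGDLib.iSup_subgroupOf]
    rintro ⟨z, hz⟩
    exact hK z hz.1
  rw [h3, Subgroup.mem_subgroupOf]
  exact h2

theorem ps_LL (R : RGD cs h p T n X) {F : Type*} [Field F] [Finite F]
    (Φ : Matrix.SpecialLinearGroup (Fin 2) F →* Y) {i : I} (hX : ∀ g, g ∈ X (sr i) ↔ ∃ a, g = Φ (up a))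
    (hw : Φ (wS 1) = n i) : PS 3 (LL X i) := by
  have h3 := R.conj i (sr i) (isRoot_sr cs h i)
  rw [rep_simple_sr] at h3
  have h1 : Φ.range = LL X i := by
    apply le_antisymm
    · rintro _ ⟨g, rfl⟩
      have h2 : Subgroup.closure (Set.range (up (F := F)) ∪ Set.range (lo (F := F))) ≤ (LL X i).comap Φ := by
        rw [Subgroup.closure_le]
        rintro _ (⟨a, rfl⟩ | ⟨a, rfl⟩)
        · exact pos_le_LL i ((hX _).2 ⟨a, rfl⟩)
        · refine neg_le_LL i ?_
          rw [← h3, lo_eq, map_mul, map_mul, map_inv, hw]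
          exact conj_mem_cj.2 ((hX _).2 ⟨_, rfl⟩)
      exact h2 (mem_closure_SL2 g)
    · refine sup_le (fun y hy => ?_) (fun y hy => ?_)
      · obtain ⟨a, rfl⟩ := (hX y).1 hy
        exact ⟨_, rfl⟩
      · rw [← h3, mem_cj] at hy
        obtain ⟨a, ha⟩ := (hX _).1 hy
        refine ⟨wS 1 * up a * (wS 1)⁻¹, ?_⟩
        rw [map_mul, map_mul, map_inv, hw, ← ha]
        group
  rw [← h1]
  exact (ps_sl2 F).range Φ

end gen

/-- the entries of a Coxeter matrix -/
def mm {l : ℕ} (M : CoxeterMatrix (Fin l)) (i j : Fin l) : ℕ := M i j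

theorem pgrp_of_loc {G : Type} [Group G] {S H E : Subgroup G} {r : ℕ} (hL : Loc S H E r) : IsPGroup r E :=
  fun x => ⟨1, Subtype.ext (by rw [pow_one]; exact hL.pow x x.2)⟩

section chev

open Cfsg.Agent.KFacts.RgdChevCoord Cfsg.Agent.ChevalleyStructure.NPerm

variable {D : ChevalleyDatum} {l : ℕ} {M : CoxeterMatrix (Fin l)}

theorem hL_chev (hp : IsType D l M) {K : Type u} [Field K] [Finite K] (i : Fin l) : PS 3 (LL (XX D l K) i) := by
  obtain ⟨p, hchar⟩ := CharP.exists K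
  have : Fact p.Prime := ⟨CharP.char_is_prime K p⟩
  have R := rgd (K := K) hp M.toCoxeterSystem p
  have hr : D.simple i < D.nroots := simple_lt hp.inList (lt_rank hp i)
  have hm : ∀ g, psi hp.inList K (D.simple i) g ∈ D.group K := by
    intro g
    refine (sup_le ?_ ?_ : _ ≤ D.group K) (psi_mem hp.inList hr g)
    · rw [← XV_sr hp]
      exact XV_le_group hp _
    · rw [← XV_neg_sr hp]
      exact XV_le_group hp _
  refine ps_LL R ((psi hp.inList K (D.simple i)).codRestrict (D.group K) hm) (fun g => ?_) ?_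
  · rw [Subgroup.mem_subgroupOf, XV_sr hp, mem_rootSubgroup_iff hp.inList]
    constructor
    · rintro ⟨a, ha⟩
      exact ⟨a, Subtype.ext (ha.trans (psi_up hp.inList hr a).symm)⟩
    · rintro ⟨a, rfl⟩
      exact ⟨a, psi_up hp.inList hr a⟩
  · exact Subtype.ext (psi_wS hp.inList hr 1)

theorem par_chev' (hp : IsType D l M) {a c : ℕ} (hN : Num M.toCoxeterSystem hp.isCartan a) {K : Type u} [Field K]
    [Finite K] {p : ℕ} [CharP K p] (hF : derivedSeries (Frame M.toCoxeterSystem hp.isCartan (XX D l K)) c = ⊥)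
    {G : Type} [Group G] {S H E : Subgroup G} (hs : Setup S H) (e : S ≃* D.group K)
    (hES : E ≤ S) (hE : IsPGroup p E) (hE1 : E ≠ ⊥) (hHE : H ≤ Subgroup.normalizer (E : Set G)) :
    PS (a + 3 + c) H := by
  have : Fact p.Prime := ⟨CharP.char_is_prime K p⟩
  have hW := finite_W hp (M.toCoxeterSystem)
  have R := rgd (K := K) hp M.toCoxeterSystem p
  have hG1 : RGD.Sup (XX D l K) {x | IsRoot M.toCoxeterSystem hp.isCartan x} = ⊤ := G1_eq_top hp M.toCoxeterSystem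
  have C := coords (K := K) hp M.toCoxeterSystem p
  exact par_loc R hG1 (intComm_restrict (KFacts.RgdFiltChev.intComm_GL hp _) _ fun x _ => XV_le_group hp x)
    (fun i => irr_of_coord (C.coord _ (isRoot_sr _ _ i))) (hL_chev hp) hN hF hs e hES hE hE1 hHE

theorem par_chev (hp : IsType D l M) (hM : SymTwo M) (hN : Num M.toCoxeterSystem hp.isCartan 3) {K : Type u} [Field K]
    [Finite K] {p : ℕ} [CharP K p] {G : Type} [Group G] {S H E : Subgroup G} (hs : Setup S H) (e : S ≃* D.group K)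
    (hES : E ≤ S) (hE : IsPGroup p E) (hE1 : E ≠ ⊥) (hHE : H ≤ Subgroup.normalizer (E : Set G)) : PS 9 H := by
  have : Fact p.Prime := ⟨CharP.char_is_prime K p⟩
  have hW := finite_W hp (M.toCoxeterSystem)
  have R := rgd (K := K) hp M.toCoxeterSystem p
  have hG1 : RGD.Sup (XX D l K) {x | IsRoot M.toCoxeterSystem hp.isCartan x} = ⊤ := G1_eq_top hp M.toCoxeterSystem
  have C := coords (K := K) hp M.toCoxeterSystem p
  exact par_chev' hp hN (frame_derived R hG1 (K := fun _ => K) (fun i => C.coord _ (isRoot_sr _ _ i))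
    fun σ τ hσ hτ => hM.comm σ τ hσ hτ) hs e hES hE hE1 hHE

theorem num_of (hp : IsType D l M) {a : ℕ} (h6 : ∀ i j k, mm M i j ≠ 6 ∨ k = i ∨ k = j) (g : Fin l → ℕ)
    (hg : ∀ σ : Equiv.Perm (Fin l), (∀ i j, M (σ i) (σ j) = M i j) → ∀ i, g (σ i) = g i)
    (hb : ∀ i₀, ∀ r < D.nroots, ∑ i ∈ Finset.univ.filter (fun i => g i = g i₀), vec D l r i < 2 ^ a) :
    Num M.toCoxeterSystem hp.isCartan a := by
  refine ⟨h6, g, hg, fun i₀ x hx => ?_⟩
  obtain ⟨r, hr, rfl⟩ := (isRoot_iff hp _ x).1 hx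
  exact hb i₀ r hr

theorem tF4 : IsType chevF4 4 CoxeterMatrix.F₄ := by simp [IsType, typeList]
theorem tE6 : IsType chevE6 6 CoxeterMatrix.E₆ := by simp [IsType, typeList]
theorem tE7 : IsType chevE7 7 CoxeterMatrix.E₇ := by simp [IsType, typeList]
theorem tE8 : IsType chevE8 8 CoxeterMatrix.E₈ := by simp [IsType, typeList]

theorem inv_F4 (σ : Equiv.Perm (Fin 4)) (hσ : ∀ i j, CoxeterMatrix.F₄ (σ i) (σ j) = CoxeterMatrix.F₄ i j) (i : Fin 4) :
    (![1, 2, 2, 1] : Fin 4 → ℕ) (σ i) = (![1, 2, 2, 1] : Fin 4 → ℕ) i :=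
  inv_step hσ (g := fun _ => 1) (fun _ => rfl) (by decide) i

theorem num_F4 : Num CoxeterMatrix.F₄.toCoxeterSystem tF4.isCartan 3 :=
  num_of tF4 (by decide) ![1, 2, 2, 1] inv_F4 (by decide +kernel)

theorem num_E6 : Num CoxeterMatrix.E₆.toCoxeterSystem tE6.isCartan 3 := by
  refine num_of tE6 (by decide +kernel) ![2, 3, 4, 5, 4, 2] (fun σ hσ => ?_) (by decide +kernel)
  refine inv_step hσ (g := ![1, 1, 2, 3, 2, 1]) ?_ (by decide)
  exact inv_step hσ (g := fun _ => 1) (fun _ => rfl) (by decide)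

theorem num_E7 : Num CoxeterMatrix.E₇.toCoxeterSystem tE7.isCartan 3 := by
  refine num_of tE7 (by decide +kernel) ![2, 3, 4, 5, 5, 3, 2] (fun σ hσ => ?_) (by decide +kernel)
  refine inv_step hσ (g := ![1, 1, 2, 3, 2, 2, 1]) ?_ (by decide +kernel)
  exact inv_step hσ (g := fun _ => 1) (fun _ => rfl) (by decide +kernel)

theorem num_E8 : Num CoxeterMatrix.E₈.toCoxeterSystem tE8.isCartan 3 := by
  refine num_of tE8 (by decide +kernel) ![4, 5, 7, 12, 9, 8, 6, 3] (fun σ hσ => ?_) (by decide +kernel)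
  refine inv_step hσ (g := ![2, 3, 4, 5, 5, 4, 3, 2]) ?_ (by decide +kernel)
  refine inv_step hσ (g := ![1, 1, 2, 3, 2, 2, 2, 1]) ?_ (by decide +kernel)
  exact inv_step hσ (g := fun _ => 1) (fun _ => rfl) (by decide +kernel)

variable {K : Type u} [Field K] [Finite K] {r : ℕ} [CharP K r] {G : Type} [Group G] {S H E : Subgroup G}

theorem par_F4 (hL : Loc S H E r) (e : S ≃* chevF4.group K) : PS 9 H :=
  par_chev tF4 symTwo_F4 num_F4 hL.toSetup e hL.le_S (pgrp_of_loc hL) hL.ne_bot hL.norm.ge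

theorem par_E6 (hL : Loc S H E r) (e : S ≃* chevE6.group K) : PS 9 H :=
  par_chev tE6 symTwo_E6 num_E6 hL.toSetup e hL.le_S (pgrp_of_loc hL) hL.ne_bot hL.norm.ge

theorem par_E7 (hL : Loc S H E r) (e : S ≃* chevE7.group K) : PS 9 H :=
  par_chev tE7 symTwo_E7 num_E7 hL.toSetup e hL.le_S (pgrp_of_loc hL) hL.ne_bot hL.norm.ge

theorem par_E8 (hL : Loc S H E r) (e : S ≃* chevE8.group K) : PS 9 H :=
  par_chev tE8 symTwo_E8 num_E8 hL.toSetup e hL.le_S (pgrp_of_loc hL) hL.ne_bot hL.norm.ge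

end chev

section fold

open Cfsg.Agent.Nodes.RGDFold Cfsg.Agent.Nodes.RGDTwGen Cfsg.Agent.KFacts.TwESix.NodeCoord

theorem par_fold {D : ChevalleyDatum} {l : ℕ} {M' : CoxeterMatrix (Fin l)} {hp : IsType D l M'} {K : Type u} [Field K]
    [Finite K] {m : ℕ} {M : CoxeterMatrix (Fin m)} {A : Fin m → Fin m → ℤ} (h : IsCartan M A)
    {J : Fin m → List (Fin l)} {L : List (List ℕ)} {σ : GL D.Idx K →* GL D.Idx K} {ρ ρ' : ℕ → ℕ}
    {f : ℕ → K → K} {Y : Subgroup (GL D.Idx K)} (FD : FoldData D M A J L) (FG : FoldGrp hp K J L σ ρ ρ' f Y)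
    {rp : Fin m → ℕ} {o : Fin m → List ℕ} (N : ∀ i, NodeOK D J L ρ i (rp i) (o i)) {φ : K →+* K}
    (hf : ∀ i, ∀ s ∈ rp i :: o i, ∀ t, f s t = φ t) (hM : SymTwo M) (h6 : ∀ i j k, mm M i j ≠ 6 ∨ k = i ∨ k = j)
    (g : Fin m → ℕ) (hg : ∀ σ : Equiv.Perm (Fin m), (∀ i j, M (σ i) (σ j) = M i j) → ∀ i, g (σ i) = g i)
    (hb : ∀ i₀, ∀ r < D.nroots, ∑ i ∈ Finset.univ.filter (fun i => g i = g i₀), V D J r i < 2 ^ 3)
    {p : ℕ} [CharP K p] {G : Type} [Group G] {S H E : Subgroup G} (hL : Loc S H E p) (e : S ≃* Y) : PS 9 H := by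
  have : Fact p.Prime := ⟨hL.prime⟩
  have hW : Finite M.Group := Nodes.RGDFold.finite_W (hp := hp) M.toCoxeterSystem h FD
  have R := Nodes.RGDFold.rgd M.toCoxeterSystem h FD FG p
  have hG1 := Nodes.RGDFold.G1_eq_top M.toCoxeterSystem h FD FG p
  have hN : Num M.toCoxeterSystem h 3 := by
    refine ⟨h6, g, hg, fun i₀ x hx => ?_⟩
    obtain ⟨r, hr, rfl⟩ := (FD.isRoot_iff (cs := M.toCoxeterSystem) (h := h) hp.checked
      (fun i r hr => wp_lt hp (J i) hr) x).1 hx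
    exact hb i₀ r hr
  exact par_loc R hG1 (intComm_restrict (KFacts.RgdFiltTwAll.intComm_fold _ h FD FG p) _
      fun x hx => R_le _ h FD FG p hx)
    (fun i => irr_of_coord (coord FG (N i) (hf i)))
    (fun i => ps_LL R (Phi FG (N i) (hf i)) (mem_X_iff FG (N i) (hf i)) (Phi_wS FG (N i) (hf i))) hN
    (frame_derived R hG1 (K := fun i => ↥(Fx φ ((o i).length + 1))) (fun i => coord FG (N i) (hf i))
      fun σ τ hσ hτ => hM.comm σ τ hσ hτ) hL.toSetup e hL.le_S (pgrp_of_loc hL) hL.ne_bot hL.norm.ge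

variable {K : Type} [Field K] [Fintype K] {q r : ℕ} [CharP K r] {G : Type} [Group G] {S H E : Subgroup G}

theorem par_2E6 (hq : IsPrimePow q) (hK : Fintype.card K = q ^ 2) (hL : Loc S H E r) (e : S ≃* twistedE6 K q) :
    PS 9 H := by
  obtain ⟨φ, hφ, hqq⟩ := TwE6Basic.exists_frob hq hK
  exact par_fold Nodes.RGDTwE6.isCartan Nodes.RGDTwE6.foldData (Nodes.RGDTwE6.foldGrp hφ hqq)
    Nodes.RGDTwNode.E6.nodeOK (hf_E6 φ) symTwo_F4 (by decide) ![1, 2, 2, 1] inv_F4 (by (set_option synthInstance.maxSize 20000 in open scoped Cfsg.Agent.Lib.MatDec in decide +kernel)) hL e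

end fold

end Cfsg.Agent.DS.Par
end

-- part: DS/Alt
section
/-!
# S5881, S5882: the alternating socle (box `BoxAlt`, helper22)

For `n ≥ 7` the group `G` is `Aₙ` or `Sₙ` and `H936.good_all` applies; for `n = 5, 6` the derived series of `H ∩ S`
has at most `Ω(360) = 6` proper steps and `H / (H ∩ S)` embeds in `Out S`.
-/

set_option autoImplicit false

namespace Cfsg.Agent.DS.AltRow

open Cfsg Cfsg.Agent.H936 Equiv

/-- the derived series of a finite group has at most `Ω(|K|)` proper steps -/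
theorem ps_of_cardFactors {K : Type*} [Group K] [Finite K] {k : ℕ}
    (h : ArithmeticFunction.cardFactors (Nat.card K) ≤ k) : PS k K := by
  by_contra hk
  have h1 : ∀ i, i ≤ k + 1 →
      ArithmeticFunction.cardFactors (Nat.card (derivedSeries K i)) + i ≤
        ArithmeticFunction.cardFactors (Nat.card K) := by
    intro i
    induction i with
    | zero =>
      intro _
      rw [derivedSeries_zero, Subgroup.card_top, add_zero]
    | succ i ih =>
      intro hi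
      have h2 := ih (by omega)
      have h3 : derivedSeries K (i + 1) ≠ derivedSeries K i := fun h4 => hk (PS.mono h4 (by omega))
      have h4 : derivedSeries K (i + 1) ≤ derivedSeries K i := derivedSeries_antitone K (Nat.le_succ i)
      obtain ⟨c, hc⟩ := Subgroup.card_dvd_of_le h4
      have hc0 : c ≠ 0 := by
        rintro rfl
        exact (Nat.card_pos (α := derivedSeries K i)).ne' (by simpa only [_root_.derivedSeries_succ, _root_.MulZeroClass.mul_zero] using hc)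
      have hc1 : c ≠ 1 := by
        rintro rfl
        exact h3 (Subgroup.eq_of_le_of_card_ge h4 (by omega))
      have h5 : 0 < ArithmeticFunction.cardFactors c := by
        rw [ArithmeticFunction.cardFactors_pos_iff_one_lt]
        omega
      rw [hc, ArithmeticFunction.cardFactors_mul (Nat.card_pos (α := derivedSeries K (i + 1))).ne' hc0] at h2
      omega
  have := h1 (k + 1) le_rfl
  omega

/-- `PS (a + 3) H` from `PS a (H ∩ S)` -/
theorem ps_of_inf (big : Big) {G : Type} [Group G] [Finite G] {S H : Subgroup G} (hs : Setup S H) {a : ℕ}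
    (ha : PS a (S.subgroupOf H)) : PS (a + 3) H := by
  have hN := hs.normal
  have hS := hs.simple
  have hd := big.sch S hs.noncomm
  refine PS.of_normal (S.subgroupOf H) ha (PS.of_bot ?_)
  rw [← map_derivedSeries_of_surj (QuotientGroup.mk'_surjective (S.subgroupOf H)) 3, Subgroup.map_eq_bot_iff,
    QuotientGroup.ker_mk']
  intro x hx
  have h1 : ((MulAut.conjNormal : G →* MulAut S).comp H.subtype) x ∈ derivedSeries (MulAut S) 3 :=
    map_derivedSeries_le _ 3 ⟨x, hx, rfl⟩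
  obtain ⟨s, hs'⟩ := hd h1
  have h2 : (s : G)⁻¹ * x ∈ Subgroup.centralizer (S : Set G) := by
    rw [Subgroup.mem_centralizer_iff]
    intro y hy
    have h3 := congrArg Subtype.val (DFunLike.congr_fun hs' ⟨y, hy⟩)
    have h4 : (s : G) * y * (s : G)⁻¹ = (x : G) * y * (x : G)⁻¹ := h3
    calc y * ((s : G)⁻¹ * x) = (s : G)⁻¹ * ((s : G) * y * (s : G)⁻¹) * x := by group
      _ = (s : G)⁻¹ * x * y := by rw [h4]; group
  rw [hs.cent, Subgroup.mem_bot, inv_mul_eq_one] at h2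
  rw [Subgroup.mem_subgroupOf, ← h2]
  exact s.2

theorem small (big : Big) {G : Type} [Group G] [Finite G] {S H : Subgroup G} (hs : Setup S H)
    (h : Nat.card S ∣ 360) : PS 9 H := by
  refine ps_of_inf big hs (a := 6) (ps_of_cardFactors ?_)
  have h1 : Nat.card (S.subgroupOf H) ∣ 360 := by
    refine dvd_trans ?_ h
    rw [← Subgroup.inf_subgroupOf_right, Nat.card_congr (Subgroup.subgroupOfEquivOfLe inf_le_right).toEquiv]
    exact Subgroup.card_dvd_of_le inf_le_left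
  obtain ⟨c, hc⟩ := h1
  have hc0 : c ≠ 0 := by
    rintro rfl
    omega
  have h2 : ArithmeticFunction.cardFactors 360 = 6 := by
    rw [ArithmeticFunction.cardFactors_apply]
    simp [Nat.primeFactorsList_ofNat]
  rw [hc, ArithmeticFunction.cardFactors_mul (Nat.card_pos (α := S.subgroupOf H)).ne' hc0] at h2
  omega

theorem large (big : Big) {G : Type} [Group G] [Finite G] {S H : Subgroup G} (hs : Setup S H) {m : ℕ} (hm : 5 ≤ m)
    (e : S ≃* alternatingGroup (Fin (m + 2))) : PS 6 H := by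
  have hN := hs.normal
  set A := alternatingGroup (Fin (m + 2)) with hA
  have h5 : 5 ≤ Nat.card (Fin (m + 2)) := by
    rw [Nat.card_eq_fintype_card, Fintype.card_fin]
    omega
  let c : Perm (Fin (m + 2)) →* MulAut A := MulAut.conjNormal
  have hci : Function.Injective c := by
    rw [injective_iff_map_eq_one]
    intro σ hσ
    exact Cfsg.Agent.StandardComponent.AltAut.eq_one_of_centralizes (by omega) fun x =>
      congrArg Subtype.val (DFunLike.congr_fun hσ x)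
  have hcs : Function.Surjective c := by
    intro α
    obtain ⟨σ, hσ⟩ := Cfsg.Agent.StandardComponent.AltAut.exists_conj hm α
    refine ⟨σ, ?_⟩
    apply MulEquiv.ext
    intro x
    apply Subtype.ext
    rw [hσ]
    rfl
  let E : Perm (Fin (m + 2)) ≃* MulAut A := MulEquiv.ofBijective c ⟨hci, hcs⟩
  let ψ : G →* Perm (Fin (m + 2)) :=
    E.symm.toMonoidHom.comp ((MulAut.congr e).toMonoidHom.comp (MulAut.conjNormal : G →* MulAut S))
  have hψS : ∀ s : S, ψ s = (e s : Perm (Fin (m + 2))) := by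
    intro s
    change E.symm (MulAut.congr e (MulAut.conjNormal (s : G))) = _
    rw [MulEquiv.symm_apply_eq]
    apply MulEquiv.ext
    intro x
    have h1 : (MulAut.conjNormal (s : G) : MulAut S) (e.symm x) = s * e.symm x * s⁻¹ := rfl
    have h2 : (MulAut.congr e (MulAut.conjNormal (s : G))) x = e (MulAut.conjNormal (s : G) (e.symm x)) := rfl
    rw [h2, h1, map_mul, map_mul, map_inv, MulEquiv.apply_symm_apply]
    rfl
  have hψ : Function.Injective ψ := by
    refine E.symm.injective.comp ((MulAut.congr e).injective.comp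
      (?_ : Function.Injective (MulAut.conjNormal : G →* MulAut S)))
    rw [injective_iff_map_eq_one]
    intro g hg
    have h1 : g ∈ Subgroup.centralizer (S : Set G) := by
      rw [Subgroup.mem_centralizer_iff]
      intro y hy
      have h0 := congrArg Subtype.val (DFunLike.congr_fun hg (⟨y, hy⟩ : S))
      have h2 : g * y * g⁻¹ = y := h0
      calc y * g = g * y * g⁻¹ * g := by rw [h2]
        _ = g * y := by group
    rwa [hs.cent, Subgroup.mem_bot] at h1
  have hSA : S.map ψ = A := by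
    apply le_antisymm
    · rintro _ ⟨s, hs', rfl⟩
      rw [hψS ⟨s, hs'⟩]
      exact (e ⟨s, hs'⟩).2
    · intro x hx
      refine ⟨e.symm ⟨x, hx⟩, (e.symm ⟨x, hx⟩).2, ?_⟩
      rw [hψS, MulEquiv.apply_symm_apply]
  have hV : ¬ A ≤ H.map ψ := by
    intro h
    rw [← hSA, Subgroup.map_le_map_iff_of_injective hψ] at h
    exact hs.not_le h
  obtain ⟨W, h1, h2, h3⟩ := good_all h5 hV big.sch
  -- `W ∩ ψ(G) = ψ(H)`
  have h4 : W.comap ψ = H := by
    have h6 : H ≤ W.comap ψ := Subgroup.map_le_iff_le_comap.1 h1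
    rcases hs.coatom.le_iff.1 h6 with h | h
    · exfalso
      apply h2
      change A ≤ W
      rw [← hSA, Subgroup.map_le_iff_le_comap, h]
      exact le_top
    · exact h
  -- `W⁽⁶⁾ ≤ W ∩ A ≤ ψ(H)`
  have h7 : derivedSeries W 6 ≤ (H.map ψ).subgroupOf W := by
    intro x hx
    have h8 : x ∈ derivedSeries W 1 := derivedSeries_antitone W (by norm_num) hx
    have h9 : (x : Perm (Fin (m + 2))) ∈ A := by
      have h10 : (derivedSeries W 1).map W.subtype ≤ derivedSeries (Perm (Fin (m + 2))) 1 :=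
        map_derivedSeries_le _ 1
      have h11 : derivedSeries (Perm (Fin (m + 2))) 1 ≤ A := by
        rw [derivedSeries_one, commutator_def, Subgroup.commutator_le]
        intro a _ b _
        rw [hA, Perm.mem_alternatingGroup, map_commutatorElement, commutatorElement_eq_one_iff_mul_comm]
        exact mul_comm _ _
      exact h11 (h10 ⟨x, h8, rfl⟩)
    rw [← hSA] at h9
    obtain ⟨s, -, hsx⟩ := h9
    rw [Subgroup.mem_subgroupOf]
    refine ⟨s, ?_, hsx⟩
    rw [← h4]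
    change ψ s ∈ W
    rw [hsx]
    exact x.2
  have h12 : PS 6 ((H.map ψ).subgroupOf W) := h3.of_le h7
  exact PS.of_equiv ((Subgroup.subgroupOfEquivOfLe h1).trans (H.equivMapOfInjective ψ hψ).symm) h12

end Cfsg.Agent.DS.AltRow

namespace Cfsg.Agent.DS

open Cfsg Cfsg.Agent.H936

/-- [A] the alternating socle -/
theorem boxAlt : BoxAlt := by
  intro big G _ _ S H hs h
  obtain ⟨n, hn, ⟨e⟩⟩ := h
  rcases Nat.lt_or_ge n 7 with h7 | h7
  · refine AltRow.small big hs ?_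
    have h2 : Nontrivial (Fin n) := Fin.nontrivial_iff_two_le.2 (by omega)
    have h1 := two_mul_nat_card_alternatingGroup (α := Fin n)
    rw [Nat.card_perm, Nat.card_eq_fintype_card (α := Fin n), Fintype.card_fin, ← Nat.card_congr e.toEquiv] at h1
    have h3 : n = 5 ∨ n = 6 := by omega
    rcases h3 with rfl | rfl
    · have : Nat.card S = 60 := by
        rw [show Nat.factorial 5 = 120 from rfl] at h1
        omega
      rw [this]
      norm_num
    · have : Nat.card S = 360 := by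
        rw [show Nat.factorial 6 = 720 from rfl] at h1
        omega
      rw [this]
  · obtain ⟨m, rfl⟩ := Nat.exists_eq_add_of_le' (show 2 ≤ n by omega)
    exact (AltRow.large big hs (by omega) e).mono (by norm_num)

end Cfsg.Agent.DS
end

-- part: DS/Ex/ParTw
section
/-!
# DS, parabolic case: the groups `²F₄(q)`, `q ≥ 8` (helper55)

* `exists_radical` : a maximal subgroup normalising a nontrivial `p`-subgroup of the socle is the normaliser of
  `O_p(H ∩ S)`;
* `par_2F4` : `PS 9 H` for `p = 2`, `S ≅ ²F₄(q)`.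
-/

set_option autoImplicit false
set_option linter.unusedSectionVars false

namespace Cfsg.Agent.DS.Par

open Cfsg.Agent.H936 Cfsg.Agent.H284 Cfsg.Agent.H564.EPF
open Cfsg.Agent.SplitTwo Cfsg.Agent.SplitTwo.ZS Cfsg.Agent.TitsThree.RankTwoZ Cfsg.Agent.KFacts.TwF4
open Cfsg.Agent.KFacts.TwF4.SylU Cfsg.Agent.KFacts.TwF4.Perf Cfsg.Agent.KFacts.TwF4.Full
open scoped commutatorElement

universe u

section abs

theorem norm_eq_of_pgroup {G : Type} [Group G] [Finite G] {S H R : Subgroup G} (hs : Setup S H) {p : ℕ} [Fact p.Prime]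
    (hRS : R ≤ S) (hR : IsPGroup p R) (hR1 : R ≠ ⊥) (hHR : H ≤ Subgroup.normalizer (R : Set G)) :
    Subgroup.normalizer (R : Set G) = H := by
  have := hs.simple
  by_contra hne
  have h1 : Subgroup.normalizer (R : Set G) = ⊤ := hs.coatom.2 _ (lt_of_le_of_ne hHR (Ne.symm hne))
  have h2 : R.Normal := Subgroup.normalizer_eq_top_iff.1 h1
  rcases (h2.subgroupOf S).eq_bot_or_eq_top with h3 | h3
  · rw [Subgroup.subgroupOf_eq_bot, disjoint_iff, inf_eq_left.2 hRS] at h3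
    exact hR1 h3
  · rw [Subgroup.subgroupOf_eq_top] at h3
    have h4 : Group.IsNilpotent S := (hR.to_le h3).isNilpotent
    exact hs.noncomm ⟨⟨IsSimpleGroup.comm_iff_isSolvable.2 inferInstance⟩⟩

/-- the largest normal `p`-subgroup of `S ⊓ H` -/
theorem exists_radical {G : Type} [Group G] [Finite G] {S H E : Subgroup G} (hs : Setup S H) {p : ℕ} [Fact p.Prime]
    (hES : E ≤ S) (hE : IsPGroup p E) (hE1 : E ≠ ⊥) (hHE : H ≤ Subgroup.normalizer (E : Set G)) :
    ∃ R : Subgroup G, R ≠ ⊥ ∧ R ≤ S ∧ IsPGroup p R ∧ Subgroup.normalizer (R : Set G) = H ∧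
      ∀ D : Subgroup G, D ≤ S ⊓ H → IsPGroup p D → S ⊓ H ≤ Subgroup.normalizer (D : Set G) → D ≤ R := by
  have hN := hs.normal
  let P : Subgroup G → Prop := fun D => D ≤ S ⊓ H ∧ IsPGroup p D ∧ S ⊓ H ≤ Subgroup.normalizer (D : Set G)
  have hEH : E ≤ H := by
    rw [← norm_eq_of_pgroup hs hES hE hE1 hHE]
    exact Subgroup.le_normalizer
  obtain ⟨R, hER, hR⟩ := Finite.exists_le_maximal (p := P) (a := E) ⟨le_inf hES hEH, hE, inf_le_right.trans hHE⟩
  obtain ⟨h1, h2, h3⟩ := hR.prop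
  have hmax : ∀ D, P D → D ≤ R := by
    intro D hD
    refine le_sup_left.trans (hR.le_of_ge (y := D ⊔ R) ⟨sup_le hD.1 h1,
      IsPGroup.to_sup_of_normal_right' hD.2.1 h2 (hD.1.trans h3), ?_⟩ le_sup_right)
    exact (le_inf hD.2.2 h3).trans (Subgroup.normalizer_inf_normalizer_le_normalizer_sup D R)
  have hR1 : R ≠ ⊥ := fun h => hE1 (eq_bot_iff.2 (h ▸ hER))
  refine ⟨R, hR1, h1.trans inf_le_left, h2, norm_eq_of_pgroup hs (h1.trans inf_le_left) h2 hR1 ?_,
    fun D a b c => hmax D ⟨a, b, c⟩⟩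
  refine mem_norm_of fun g hg z hz => hmax (cj g R) ⟨?_, h2.map _, ?_⟩ (conj_mem_cj hz)
  · rintro _ ⟨x, hx, rfl⟩
    exact ⟨hN.conj_mem _ (h1 hx).1 g, H.mul_mem (H.mul_mem hg (h1 hx).2) (H.inv_mem hg)⟩
  · refine mem_norm_of fun s hs' y hy => ?_
    rw [mem_cj] at hy ⊢
    have h4 : g⁻¹ * s * g ∈ S ⊓ H :=
      ⟨by simpa only [_root_.Subgroup.coe_toSubmonoid, _root_.SetLike.mem_coe, _root_.inv_inv] using hN.conj_mem _ hs'.1 g⁻¹, H.mul_mem (H.mul_mem (H.inv_mem hg) hs'.2) hg⟩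
    have h5 := conj_mem_of_norm (h3 h4) hy
    have e : g⁻¹ * s * g * (g⁻¹ * y * g) * (g⁻¹ * s * g)⁻¹ = g⁻¹ * (s * y * s⁻¹) * g := by group
    rwa [e] at h5

theorem le_of_inf_norm {Y : Type*} [Group Y] [Finite Y] {p : ℕ} [Fact p.Prime] {R V : Subgroup Y} (hV : IsPGroup p V)
    (h : V ⊓ Subgroup.normalizer (R : Set Y) ≤ R) (hRV : R ≤ V) : V ≤ R := by
  have h1 : Group.IsNilpotent V := hV.isNilpotent
  by_contra hne
  have h2 : R.subgroupOf V < ⊤ := by
    rw [lt_top_iff_ne_top, Ne, Subgroup.subgroupOf_eq_top]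
    exact hne
  obtain ⟨x, hx, hxR⟩ := SetLike.exists_of_lt (Group.normalizerCondition_of_isNilpotent _ h2)
  refine hxR (h ⟨x.2, ?_⟩)
  refine mem_nm fun a ha => ?_
  exact (Subgroup.mem_normalizer_iff.1 hx ⟨a, hRV ha⟩).1 ha

theorem comm_sup_le_ab {Y : Type*} [Group Y] {A B : Subgroup Y} (hn : B ≤ Subgroup.normalizer (A : Set Y))
    (hB : ∀ s ∈ B, ∀ t ∈ B, s * t = t * s) : ⁅A ⊔ B, A ⊔ B⁆ ≤ A := by
  have e : A ⊔ B = ⨆ b : Bool, cond b A B := by rw [iSup_bool_eq]; rfl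
  have h1 : ∀ b : Bool, cond b A B ≤ Subgroup.normalizer (A : Set Y) := by
    intro b
    cases b
    · exact hn
    · exact Subgroup.le_normalizer
  rw [e]
  refine comm_le_of_gen _ _ h1 h1 fun i k a ha b hb => ?_
  cases i <;> cases k
  · rw [commutatorElement_eq_one_iff_mul_comm.2 (hB a ha b hb)]
    exact one_mem _
  · rw [commutatorElement_def]
    exact mul_mem (conj_mem_of_norm (hn ha) hb) (inv_mem hb)
  · have e2 : ⁅a, b⁆ = a * (b * a⁻¹ * b⁻¹) := by rw [commutatorElement_def]; group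
    rw [e2]
    exact mul_mem ha (conj_mem_of_norm (hn hb) (inv_mem ha))
  · rw [commutatorElement_def]
    exact mul_mem (mul_mem (mul_mem ha hb) (inv_mem ha)) (inv_mem hb)

theorem dS_bot_of_ps {Y : Type*} [Group Y] {K : Subgroup Y} {k : ℕ} (h : PS k K) (hK : Group.IsSolvable K) :
    dS K k = ⊥ := by
  obtain ⟨n, hn⟩ := Group.IsSolvable.solvable (G := K)
  rw [dS_eq, ← h.eq (le_max_left k n), eq_bot_iff.2 ((derivedSeries_antitone K (le_max_right k n)).trans hn.le),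
    Subgroup.map_bot]

theorem ps_between {Y : Type*} [Group Y] {A B K : Subgroup Y} (hA : ⁅A, A⁆ = A)
    (hn : B ≤ Subgroup.normalizer (A : Set Y)) (hB : ∀ s ∈ B, ∀ t ∈ B, s * t = t * s) (h1 : A ≤ K) (h2 : K ≤ A ⊔ B) :
    PS 1 K := by
  rw [ps_iff]
  refine le_antisymm (dS_succ_le _ _) (le_trans ?_ (le_dS_of_perfect hA.ge h1 _))
  exact (Subgroup.commutator_mono h2 h2).trans (comm_sup_le_ab hn hB)

end abs

section od

variable {Y : Type u} [Group Y] [Finite Y] (D : OD Y)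

theorem syl_le_norm (h2 : IsPGroup 2 D.U) {R : Subgroup Y} (hR1 : R ≠ ⊥) {g₀ : Y} (h₀ : R ≤ cj g₀ D.U)
    (hmax : ∀ V : Subgroup Y, V ≤ Subgroup.normalizer (R : Set Y) → IsPGroup 2 V →
      Subgroup.normalizer (R : Set Y) ≤ Subgroup.normalizer (V : Set Y) → V ≤ R) :
    ∃ g, cj g D.U ≤ Subgroup.normalizer (R : Set Y) := by
  have : Fact (Nat.Prime 2) := ⟨Nat.prime_two⟩
  obtain ⟨g, J, hJ, h3, h4⟩ := OD.bt hR1 h₀
  have h5 : D.VV J ≤ D.U ∧ D.U ≤ Subgroup.normalizer (D.VV J : Set Y) := by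
    rcases OD.cases4 J with rfl | ⟨j, rfl⟩ | rfl
    · rw [OD.VV_empty]
      exact ⟨le_rfl, Subgroup.le_normalizer⟩
    · rw [OD.VV_single]
      exact ⟨OD.V_le_U j, OD.U_le_NV j⟩
    · exact absurd rfl hJ
  have h6 : IsPGroup 2 (cj g (D.VV J)) := (h2.to_le h5.1).map _
  have h7 : ∀ x, x ∈ cj g (Subgroup.normalizer (D.VV J : Set Y)) → ∀ v ∈ cj g (D.VV J), x * v * x⁻¹ ∈ cj g (D.VV J) := by
    intro x hx v hv
    rw [mem_cj] at hx hv ⊢
    have h8 := conj_mem_of_norm hx hv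
    have e : g⁻¹ * x * g * (g⁻¹ * v * g) * (g⁻¹ * x * g)⁻¹ = g⁻¹ * (x * v * x⁻¹) * g := by group
    rwa [e] at h8
  have h8 : cj g (D.VV J) ≤ R := by
    refine le_of_inf_norm h6 (hmax _ inf_le_right (h6.to_le inf_le_left) ?_) h3
    refine mem_norm_of fun x hx v hv => ⟨h7 x (h4 hx) v hv.1, Subgroup.mul_mem _ (Subgroup.mul_mem _ hx hv.2) (Subgroup.inv_mem _ hx)⟩
  refine ⟨g, ?_⟩
  rw [← le_antisymm h8 h3]
  exact mem_norm_of fun x hx => h7 x (cj_mono h5.2 hx)

end od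

section full

variable {F : Type*} [Field F] [Finite F] {σ : F →+* F} {Y : Type u} [Group Y] [Finite Y] (S : Full σ Y)

theorem ps_X8 : PS 2 (S.XZ 8) := by
  refine ps_of_dS_bot ?_
  have h1 : ⁅S.XZ 8, S.XZ 8⁆ ≤ S.Zc 4 := by
    rw [Subgroup.commutator_le]
    intro x hx y hy
    obtain ⟨p, u, rfl⟩ := S.X8 hx
    obtain ⟨q, v, rfl⟩ := S.X8 hy
    have h2 : S.e 4 p u * S.e 4 q v = S.e 4 0 (p * σ q - q * σ p) * (S.e 4 q v * S.e 4 p u) := by
      rw [S.e_mul, S.e_mul, S.e_mul]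
      congr 1 <;> ring
    refine ⟨p * σ q - q * σ p, ?_⟩
    rw [commutatorElement_def, h2]
    group
  rw [eq_bot_iff]
  refine (Subgroup.commutator_mono h1 h1).trans ?_
  rw [Subgroup.commutator_le]
  rintro _ ⟨u, rfl⟩ _ ⟨v, rfl⟩
  rw [Subgroup.mem_bot, commutatorElement_eq_one_iff_mul_comm, S.e_mul, S.e_mul]
  congr 1
  ring

theorem ps_Q : PS 2 S.Q := by
  refine ps_of_dS_bot ?_
  rw [dS_succ, dS_succ, dS_zero, Layers.comm_Q, Subgroup.commutator_eq_bot_iff_le_centralizer, S.centralizer_Q2]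
  exact le_sup_right

theorem J18_eq : J S.XZ 1 8 = S.Q ⊔ S.XZ 8 := by
  have h3 : S.Q ≤ J S.XZ 1 8 := (J_mono le_rfl (by norm_num) : J S.XZ 1 7 ≤ J S.XZ 1 8)
  refine le_antisymm (J_le fun k h1 h2 => ?_) (sup_le h3 (X_le_J (by norm_num) le_rfl))
  rcases eq_or_lt_of_le h2 with h | h
  · rw [h]; exact le_sup_right
  · have h4 : S.XZ k ≤ S.Q := (X_le_J h1 (by omega) : S.XZ k ≤ J S.XZ 1 7)
    exact h4.trans le_sup_left

theorem ps_U : PS 4 (J S.XZ 1 8) := by
  have h5 : S.XZ 8 ≤ Subgroup.normalizer (S.Q : Set Y) :=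
    mem_norm_of fun g hg z hz => Q_norm S ((X_le_J (by norm_num) le_rfl : S.XZ 8 ≤ J S.XZ 0 8) hg) hz
  have h6 := ps_sup h5 (ps_Q S) (ps_X8 S)
  rwa [← J18_eq] at h6

theorem ps_T : PS 1 S.T := by
  refine ps_of_dS_bot ?_
  rw [dS_succ, dS_zero, eq_bot_iff, Subgroup.commutator_le]
  intro s hs t ht
  rw [Subgroup.mem_bot, commutatorElement_eq_one_iff_mul_comm]
  exact T_comm S hs ht

theorem dS_BT (hR : S.R.p = 2) : dS (J S.XZ 1 8 ⊔ S.T) 5 = ⊥ := by
  have h5 : S.T ≤ Subgroup.normalizer ((J S.XZ 1 8 : Subgroup Y) : Set Y) :=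
    mem_norm_of fun g hg z hz => S.T_conj_J hg hz
  have h6 := (ps_sup h5 (ps_U S) (ps_T S)).mono (m := 5) (by norm_num)
  have h7 := dS_bot_of_ps h6 (BT_solvable S hR)
  exact h7

theorem ps_over (hF : ∃ c : Fˣ, c ≠ 1) (hR : S.R.p = 2) {K : Subgroup Y} (hU : J S.XZ 1 8 ≤ K) (hK : K ≠ ⊤) :
    PS 5 K := by
  rcases H2.TwF.overU S hU with h | h | ⟨h, h'⟩ | ⟨h, h'⟩
  · exact absurd h hK
  · exact ps_of_dS_bot (eq_bot_iff.2 ((dS_mono h 5).trans (dS_BT S hR).le))
  · exact (ps_between (H2.TwF.J19_perfect S hF) (mem_norm_of fun g hg z hz => S.T_conj_J hg hz)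
      (fun s hs t ht => T_comm S hs ht) h h').mono (by norm_num)
  · exact (ps_between (PL_perfect S hF) (mem_norm_of fun g hg z hz => S.T_conj_J hg hz)
      (fun s hs t ht => T_comm S hs ht) h h').mono (by norm_num)

theorem ps_rad (hF : ∃ c : Fˣ, c ≠ 1) (hR : S.R.p = 2) (hopp : ∀ y, y ∈ J S.XZ 1 8 → y ∈ J S.XZ 9 16 → y = 1)
    {R : Subgroup Y} (hR1 : R ≠ ⊥) (hR2 : IsPGroup 2 R) (hN : Subgroup.normalizer (R : Set Y) ≠ ⊤)
    (hmax : ∀ V : Subgroup Y, V ≤ Subgroup.normalizer (R : Set Y) → IsPGroup 2 V →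
      Subgroup.normalizer (R : Set Y) ≤ Subgroup.normalizer (V : Set Y) → V ≤ R) :
    PS 5 (Subgroup.normalizer (R : Set Y)) := by
  have : Fact (Nat.Prime 2) := ⟨Nat.prime_two⟩
  obtain ⟨P, hP⟩ := exists_sylow S hF hR
  obtain ⟨P', hP'⟩ := hR2.exists_le_sylow
  obtain ⟨g₀, hg₀⟩ := MulAction.exists_smul_eq Y P P'
  have h1 : cj g₀ (P : Subgroup Y) = (P' : Subgroup Y) := by rw [← hg₀]; rfl
  obtain ⟨g, hg⟩ := syl_le_norm (ofFull S hopp) (R := R) (g₀ := g₀)
    (show IsPGroup 2 (J S.XZ 1 8) from hP ▸ P.isPGroup') hR1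
    (show R ≤ cj g₀ (J S.XZ 1 8) by rw [← hP, h1]; exact hP') hmax
  have h2 := ps_over S hF hR (K := cj g⁻¹ (Subgroup.normalizer (R : Set Y))) (cj_le_iff.1 hg) (by
    intro h
    apply hN
    rw [eq_top_iff]
    intro x _
    have h3 : g⁻¹ * x * g ∈ cj g⁻¹ (Subgroup.normalizer (R : Set Y)) := by rw [h]; exact Subgroup.mem_top _
    rw [mem_cj] at h3
    simpa only [mul_assoc, _root_.inv_inv, _root_.mul_inv_cancel_left, _root_.mul_inv_cancel, _root_.mul_one] using h3)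
  have h3 := ps_map (MulAut.conj g).toMonoidHom h2
  rwa [show (cj g⁻¹ (Subgroup.normalizer (R : Set Y))).map (MulAut.conj g).toMonoidHom =
    Subgroup.normalizer (R : Set Y) from cj_cj_inv g _] at h3

end full

/-- transport of the radical subgroup to a model of the socle -/
theorem ps_of_rad (big : Big) {G : Type} [Group G] [Finite G] {S H E : Subgroup G} (hs : Setup S H) {p : ℕ}
    [Fact p.Prime] (hES : E ≤ S) (hE : IsPGroup p E) (hE1 : E ≠ ⊥) (hHE : H ≤ Subgroup.normalizer (E : Set G))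
    {Y : Type u} [Group Y] (e : S ≃* Y) {a : ℕ}
    (h : ∀ R : Subgroup Y, R ≠ ⊥ → IsPGroup p R → Subgroup.normalizer (R : Set Y) ≠ ⊤ →
      (∀ V : Subgroup Y, V ≤ Subgroup.normalizer (R : Set Y) → IsPGroup p V →
        Subgroup.normalizer (R : Set Y) ≤ Subgroup.normalizer (V : Set Y) → V ≤ R) →
      PS a (Subgroup.normalizer (R : Set Y))) : PS (a + 3) H := by
  obtain ⟨R, hR1, hRS, hR, hN, hmax⟩ := exists_radical hs hES hE hE1 hHE
  let f : Y →* G := S.subtype.comp e.symm.toMonoidHom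
  have hf : Function.Injective f := S.subtype_injective.comp e.symm.injective
  have hfr : ∀ x ∈ S, ∃ y, f y = x := fun x hx => ⟨e ⟨x, hx⟩, congrArg Subtype.val (e.symm_apply_apply _)⟩
  have hfS : ∀ y, f y ∈ S := fun y => (e.symm y).2
  have h1 : Subgroup.normalizer ((R.comap f : Subgroup Y) : Set Y) = H.comap f := by
    ext y
    rw [Subgroup.mem_comap, ← hN, Subgroup.mem_normalizer_iff, Subgroup.mem_normalizer_iff]
    constructor
    · intro h2 x
      by_cases hx : x ∈ S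
      · obtain ⟨z, rfl⟩ := hfr x hx
        rw [← map_inv, ← map_mul, ← map_mul]
        exact h2 z
      · refine ⟨fun h3 => absurd (hRS h3) hx, fun h3 => absurd ?_ hx⟩
        have e2 : x = (f y)⁻¹ * (f y * x * (f y)⁻¹) * f y := by group
        rw [e2]
        exact mul_mem (mul_mem (inv_mem (hfS y)) (hRS h3)) (hfS y)
    · intro h2 z
      have h3 := h2 (f z)
      rwa [← map_inv, ← map_mul, ← map_mul] at h3
  have h2 : (H.comap f).map f = S ⊓ H := by
    ext x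
    constructor
    · rintro ⟨y, hy, rfl⟩
      exact ⟨hfS y, hy⟩
    · rintro ⟨h3, h4⟩
      obtain ⟨y, rfl⟩ := hfr x h3
      exact ⟨y, h4, rfl⟩
  have h3 := h (R.comap f) (by
      intro h4
      apply hR1
      rw [eq_bot_iff]
      intro x hx
      obtain ⟨y, rfl⟩ := hfr x (hRS hx)
      have h5 : y ∈ R.comap f := hx
      rw [h4, Subgroup.mem_bot] at h5
      rw [h5, map_one]
      exact one_mem _) (hR.comap_of_injective f hf) (by
      rw [h1]
      intro h4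
      apply hs.not_le
      intro x hx
      obtain ⟨y, rfl⟩ := hfr x hx
      have h5 : y ∈ H.comap f := by rw [h4]; exact Subgroup.mem_top _
      exact h5) (by
      rw [h1]
      intro V hV hVp hVn
      rw [← Subgroup.map_le_iff_le_comap]
      refine hmax _ (h2 ▸ Subgroup.map_mono hV) (hVp.map f) ?_
      rw [← h2]
      refine mem_norm_of ?_
      rintro _ ⟨y, hy, rfl⟩ _ ⟨v, hv, rfl⟩
      exact ⟨_, conj_mem_of_norm (hVn hy) hv, by rw [map_mul, map_mul, map_inv]⟩)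
  have h4 := ps_map f h3
  rw [h1, h2] at h4
  refine AltRow.ps_of_inf big hs ?_
  rw [← Subgroup.inf_subgroupOf_right]
  exact h4.of_equiv (Subgroup.subgroupOfEquivOfLe inf_le_right).symm

open Cfsg.Agent.ChevalleyStructure.TwF4.TwistedFix in
theorem par_2F4' (big : Big) {K : Type} [Field K] [Fintype K] {m : ℕ} (hm : 1 ≤ m)
    (hK : Fintype.card K = 2 ^ (2 * m + 1)) {G : Type} [Group G] [Finite G] {S H E : Subgroup G} (hs : Setup S H)
    (e : S ≃* Lie.twistedF4 K (2 ^ m)) (hES : E ≤ S) (hE : IsPGroup 2 E) (hE1 : E ≠ ⊥)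
    (hHE : H ≤ Subgroup.normalizer (E : Set G)) : PS 9 H := by
  have : Fact (Nat.Prime 2) := ⟨Nat.prime_two⟩
  have : CharP K 2 := Cfsg.Agent.ChevalleyStructure.TwF4.Twisted.charP_two hK
  obtain ⟨φ, hφ⟩ := exists_rln hK
  have : Finite ↥(Lie.twistedF4 K (2 ^ m)) := Finite.of_equiv _ e.toEquiv
  have hF : ∃ c : Kˣ, c ≠ 1 := by
    classical
    have h1 : 1 < Fintype.card Kˣ := by
      rw [Fintype.card_units, hK]
      have h2 : 2 ^ 3 ≤ 2 ^ (2 * m + 1) := Nat.pow_le_pow_right (by norm_num) (by omega)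
      omega
    have := Fintype.one_lt_card_iff_nontrivial.1 h1
    exact exists_ne 1
  exact (ps_of_rad big hs hES hE hE1 hHE e fun R h1 h2 h3 h4 =>
    ps_rad (Inst.full hK hφ) hF rfl (opp hK hφ) h1 h2 h3 h4).mono (by norm_num)

end Cfsg.Agent.DS.Par
end

-- part: DS/Ex/TFGen
section
/-!
# DS: maximal subgroups when the `r`-subgroups have an abelian subgroup of small rank and index at most `r` (helper2)

`Tw Q r m` : `Q` has an abelian subgroup of `r`-rank at most `m` and index at most `r`; `Sm X r m` : so have all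
`r`-subgroups of `X`.  `ps_nine` : `PS 9 H` if `Sm S r 4` for all primes `r ≠ p` and `H` normalizes no non-trivial
`p`-subgroup of `S`.
-/

set_option autoImplicit false
set_option linter.unusedSectionVars false

namespace Cfsg.Agent.DS.TF

open Cfsg.Agent.H936 Cfsg.Agent.DS.Red Cfsg.Agent.DS.Gen Cfsg.Agent.DS.Cl Cfsg.Agent.DS.NT Cfsg.Agent.DS.Ord
  Cfsg.Agent.H511.Wt Subgroup
open scoped commutatorElement IsMulCommutative

/-- an abelian subgroup of rank at most `m` and index at most `r` -/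
def Tw (Q : Type*) [Group Q] (r m : ℕ) : Prop :=
  ∃ A : Subgroup Q, (∀ x ∈ A, ∀ y ∈ A, x * y = y * x) ∧ RankLe A r m ∧ A.index ≤ r

/-- `Tw` for all `r`-subgroups -/
def Sm (X : Type*) [Group X] (r m : ℕ) : Prop :=
  ∀ (Q : Type) [Group Q] [Finite Q], IsPGroup r Q → ∀ f : Q →* X, Function.Injective f → Tw Q r m

theorem Sm.of_inj {X Z : Type*} [Group X] [Group Z] {r m : ℕ} (h : Sm X r m) (g : Z →* X)
    (hg : Function.Injective g) : Sm Z r m :=
  fun Q _ _ hQ f hf => h Q hQ (g.comp f) (hg.comp hf)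

section Tw

variable {Q : Type*} [Group Q] [Finite Q] {r m : ℕ} [hr : Fact r.Prime]

theorem commutator_le_of_index (hQ : IsPGroup r Q) {A : Subgroup Q} (h : A.index ≤ r) : commutator Q ≤ A := by
  by_cases hA : A = ⊤
  · rw [hA]
    exact le_top
  have hpow : ∀ B : Subgroup Q, B ≠ ⊤ → r ≤ B.index := by
    intro B hB
    obtain ⟨n, hn⟩ := hQ.index B
    rcases n with _ | n
    · exact absurd (index_eq_one.1 (by simpa using hn)) hB
    · rw [hn]
      exact Nat.le_self_pow (Nat.succ_ne_zero n) r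
  have h1 : IsCoatom A := by
    refine ⟨hA, fun B hB => ?_⟩
    by_contra h2
    have h3 := hpow B h2
    have h4 := relIndex_mul_index hB.le
    have h5 : A.relIndex B ≠ 1 := fun h6 => hB.not_ge (relIndex_eq_one.1 h6)
    have h6 : A.relIndex B ≠ 0 := index_ne_zero_of_finite
    have h7 : 2 ≤ A.relIndex B := by omega
    have h8 := hr.out.pos
    nlinarith
  exact (S0012.result r hQ).1.trans (frattini_le_coatom h1)

theorem Tw.two (h : Tw Q r m) (hQ : IsPGroup r Q) : derivedSeries Q 2 = ⊥ := by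
  obtain ⟨A, hc, -, hi⟩ := h
  have h1 : derivedSeries Q 1 ≤ A := commutator_le_of_index hQ hi
  rw [derivedSeries_succ, eq_bot_iff]
  exact (commutator_mono h1 h1).trans (dS_one_eq_bot hc).le

theorem Tw.frat (h : Tw Q r m) (hQ : IsPGroup r Q) : (frattini Q).index ≤ r ^ (m + 1) := by
  obtain ⟨A, hc, hrk, hi⟩ := h
  have : IsMulCommutative A := ⟨⟨fun x y => Subtype.ext (hc x x.2 y y.2)⟩⟩
  let P : A →* A := powMonoidHom r
  have h1 : P.range ≤ (frattini Q).subgroupOf A := by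
    rintro _ ⟨x, rfl⟩
    exact (S0012.result r hQ).2 x
  have h2 : Nat.card P.ker ≤ r ^ m := hrk P.ker (fun x _ y _ => mul_comm x y) fun x hx => hx
  have h3 : (frattini Q).relIndex A ≤ r ^ m := by
    refine le_trans (Nat.le_of_dvd (Nat.pos_of_ne_zero index_ne_zero_of_finite) (index_dvd_of_le h1)) ?_
    rw [index_range]
    exact h2
  have h4 : (frattini Q).index ≤ (frattini Q ⊓ A).index :=
    Nat.le_of_dvd (Nat.pos_of_ne_zero index_ne_zero_of_finite) (index_dvd_of_le inf_le_left)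
  rw [← relIndex_mul_index (show frattini Q ⊓ A ≤ A from inf_le_right), inf_relIndex_right] at h4
  rw [pow_succ]
  exact h4.trans (Nat.mul_le_mul h3 hi)

end Tw

section Core

variable {Y : Type} [Group Y] [Finite Y] [hY : Group.IsSolvable Y] {r n k : ℕ} [hr : Fact r.Prime]

theorem dl_of_sb (hSB : Lin.SB n k) {V : Type} [AddCommGroup V] [Finite V] [DistribMulAction Y V] (hirr : Irr Y V)
    {j : ℕ} (hc : Nat.card V = r ^ j) (hj : j ≤ n) : DL Y V k := by
  obtain ⟨p, hp, hpx⟩ := hirr.exists_prime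
  have hnt := hirr.nt
  obtain ⟨x, hx⟩ := exists_ne (0 : V)
  have : Fact p.Prime := ⟨hp⟩
  have h1 : addOrderOf x = p := addOrderOf_eq_prime (hpx x) hx
  have h2 : p ∣ r ^ j := by
    rw [← hc, ← h1]
    exact addOrderOf_dvd_natCard x
  have h3 : p = r := (Nat.prime_dvd_prime_iff_eq hp hr.out).1 (hp.dvd_of_dvd_pow h2)
  subst h3
  obtain ⟨inst⟩ : Nonempty (Module (ZMod p) V) := ⟨AddCommGroup.zmodModule hpx⟩
  have : Module.Finite (ZMod p) V := Module.Finite.of_finite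
  have h4 := Module.natCard_eq_pow_finrank (K := ZMod p) (V := V)
  rw [Nat.card_zmod, hc] at h4
  have h5 : Module.finrank (ZMod p) V = j := (Nat.pow_right_injective hp.two_le h4).symm
  let φ : Y →* Module.End (ZMod p) V :=
    { toFun := fun g => (DistribSMul.toAddMonoidHom V g).toZModLinearMap p
      map_one' := LinearMap.ext fun x => one_smul Y x
      map_mul' := fun g h => LinearMap.ext fun x => mul_smul g h x }
  have h6 : Lin.Irr φ := by
    intro W hW
    rcases hirr.irr W.toAddSubgroup hW with h7 | h7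
    · left
      rw [eq_bot_iff]
      intro v hv
      have h8 : v ∈ W.toAddSubgroup := hv
      rwa [h7] at h8
    · right
      rw [eq_top_iff]
      intro v _
      have h8 : v ∈ W.toAddSubgroup := by rw [h7]; trivial
      exact h8
  intro g hg v
  rw [dser_top] at hg
  exact congrArg (fun f : Module.End (ZMod p) V => f v) (hSB (ZMod p) V Y hY φ h6 (by rw [h5]; exact hj) g hg)

theorem cop_le (hSB : Lin.SB n k) {R A : Subgroup Y} [R.Normal] (hR : IsPGroup r R) (hf : (frattini R).index ≤ r ^ n)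
    (hA : (Nat.card A).Coprime r) (hAk : A ≤ derivedSeries Y k) : A ≤ centralizer (R : Set Y) := by
  have := phi_normal R
  have h0 : (phi R).relIndex R = (frattini R).index := by
    rw [relIndex, phi, subgroupOf, comap_map_eq_self_of_injective R.subtype_injective]
  refine cent_of_comm hR hA (comm_le_of_chief hR hA ?_ _ R inferInstance (phi_le R) le_rfl le_rfl)
  intro C T _ _ hFC hCT hTR hmin
  have hcomm : ⁅T, T⁆ ≤ C := ((commutator_mono hTR hTR).trans (comm_le_phi hR)).trans hFC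
  obtain ⟨j, hj⟩ := relIndex_pow (C := C) (hR.to_le hTR)
  have hjn : j ≤ n := by
    rw [← Nat.pow_le_pow_iff_right hr.out.one_lt, ← hj]
    refine le_trans ?_ (h0.le.trans hf)
    exact (relIndex_le_of_le_left hFC index_ne_zero_of_finite).trans
      (relIndex_le_of_le_right hTR index_ne_zero_of_finite)
  obtain ⟨V, j1, j2, j3, hirr, hc, hV⟩ := exists_mod C T hCT hmin hcomm
  refine le_trans ?_ ((DL.iff_le hV).1 (dl_of_sb hSB hirr (hc.trans hj) hjn))
  rwa [dser_top]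

theorem core (hSB : Lin.SB n k) {R : Subgroup Y} [R.Normal] (hR : IsPGroup r R) (hf : (frattini R).index ≤ r ^ n)
    (hQ : ∀ Q : Subgroup Y, IsPGroup r Q → Q ≤ derivedSeries Y k → dS Q 2 = ⊥) :
    derivedSeries Y (k + 2) ≤ centralizer (R : Set Y) := by
  obtain ⟨Z, hZ⟩ : ∃ Z, Z = derivedSeries Y k := ⟨_, rfl⟩
  obtain ⟨C, hC⟩ : ∃ C, C = centralizer (R : Set Y) := ⟨_, rfl⟩
  have hCn : C.Normal := by rw [hC]; infer_instance
  let P : Sylow r Z := default
  have h1 : Z ≤ (P : Subgroup Z).map Z.subtype ⊔ C := by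
    rw [← subgroupOf_eq_top, ← index_eq_one, Nat.eq_one_iff_not_exists_prime_dvd]
    intro s hs hd
    have : Fact s.Prime := ⟨hs⟩
    by_cases hsr : s = r
    · subst hsr
      refine P.not_dvd_index (hd.trans (index_dvd_of_le fun x hx => ?_))
      exact mem_sup_left ⟨x, hx, rfl⟩
    · let P' : Sylow s Z := default
      have h2 : (P' : Subgroup Z).map Z.subtype ≤ C := by
        rw [hC]
        refine cop_le hSB hR hf ?_ (by rw [← hZ]; exact map_subtype_le _)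
        obtain ⟨t, ht⟩ := IsPGroup.iff_card.1 (P'.isPGroup'.map Z.subtype)
        rw [ht]
        exact ((Nat.coprime_primes hs hr.out).2 hsr).pow_left t
      refine P'.not_dvd_index (hd.trans (index_dvd_of_le fun x hx => ?_))
      exact mem_sup_right (h2 ⟨x, hx, rfl⟩)
  have h2 := hQ _ (P.isPGroup'.map Z.subtype) (by rw [← hZ]; exact map_subtype_le _)
  rw [← hC, ← dS_top, ← dS_add, dS_top, ← hZ, ← QuotientGroup.ker_mk' C, ← Subgroup.map_eq_bot_iff, dS_map, eq_bot_iff,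
    ← Subgroup.map_bot (QuotientGroup.mk' C), ← h2, dS_map]
  refine dS_mono ((map_mono h1).trans ?_) 2
  rw [Subgroup.map_sup, (Subgroup.map_eq_bot_iff C).2 (QuotientGroup.ker_mk' C).ge, sup_bot_eq]

end Core

/-- the normal `r`-subgroups in `D` -/
theorem cent_of_sm {X : Type} [Group X] [Finite X] {n k r : ℕ} (hr : r.Prime) (hSB : Lin.SB (n + 1) k)
    {D R Y : Subgroup X} (hD : derivedSeries X k ≤ D) (hS : Sm D r n) [R.Normal] (hR : IsPGroup r R) (hRD : R ≤ D)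
    (hY : Group.IsSolvable Y) : dS Y (k + 2) ≤ centralizer (R : Set X) := by
  have : Fact r.Prime := ⟨hr⟩
  have h0 : Group.IsNilpotent R := hR.isNilpotent
  have h1 : Group.IsSolvable (R ⊔ Y : Subgroup X) := Cfsg.Agent.H577.solvable_sup R Y inferInstance hY
  have h2 : IsPGroup r (R.subgroupOf (R ⊔ Y)) := hR.comap_subtype
  have hT : ∀ Q : Subgroup (R ⊔ Y : Subgroup X), IsPGroup r Q → (∀ x ∈ Q, (x : X) ∈ D) → Tw Q r n := by
    intro Q hQ hQD
    refine hS Q hQ (((R ⊔ Y).subtype.comp Q.subtype).codRestrict D fun x => hQD x x.2) fun x y hxy => ?_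
    exact Subtype.ext (Subtype.ext (congrArg (fun z : D => (z : X)) hxy))
  have h3 := core hSB h2 ((hT _ h2 fun x hx => hRD hx).frat h2) fun Q hQ hQk => by
    rw [← Cl.map_derivedSeries_eq, (hT Q hQ fun x hx => hD (map_derivedSeries_le (R ⊔ Y).subtype k ⟨x, hQk hx, rfl⟩)).two hQ,
      Subgroup.map_bot]
  refine (dS_mono (le_sup_right : Y ≤ R ⊔ Y) (k + 2)).trans ?_
  rw [← Cl.map_derivedSeries_eq]
  rintro _ ⟨y, hy, rfl⟩
  rw [mem_centralizer_iff]
  intro x hx
  exact congrArg Subtype.val (mem_centralizer_iff.1 (h3 hy) ⟨x, mem_sup_left hx⟩ hx)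

/-- **The general statement.** -/
theorem ps_nine (hSB : Lin.SB 5 6) (big : Big) {G : Type} [Group G] [Finite G] {S H : Subgroup G} (hs : Setup S H)
    (p : ℕ) (hp : ∀ Q : Subgroup G, Q ≤ S → IsPGroup p Q → H ≤ normalizer (Q : Set G) → Q = ⊥)
    (hS : ∀ r : ℕ, r.Prime → r ≠ p → Sm S r 4) (hrk : ∀ r : ℕ, r.Prime → r ≠ p → RankLe S r 15) : PS 9 H := by
  have := hs.normal
  have := hs.simple
  have h3 : derivedSeries H 3 ≤ S.subgroupOf H := fun x hx =>
    derivedSeries_le_of_ds hs.cent (big.sch S hs.noncomm) (map_derivedSeries_le H.subtype 3 ⟨x, hx, rfl⟩)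
  have key : ∀ r : ℕ, r.Prime → ∀ R : Subgroup H, R.Normal → R ≤ S.subgroupOf H → IsPGroup r R →
      ∀ Y : Subgroup H, Group.IsSolvable Y → dS Y 8 ≤ centralizer (R : Set H) := by
    intro r hr R hRn hRS hRp Y hY
    by_cases hrp : r = p
    · subst hrp
      have h1 := hp (R.map H.subtype) (by rintro _ ⟨x, hx, rfl⟩; exact hRS hx) (hRp.map _)
        (le_normalizer_of_conj (by
          rintro g hg _ ⟨x, hx, rfl⟩
          exact ⟨_, hRn.conj_mem x hx ⟨g, hg⟩, rfl⟩))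
      rw [Subgroup.map_eq_bot_iff_of_injective _ H.subtype_injective] at h1
      intro y _
      rw [mem_centralizer_iff]
      intro x hx
      rw [h1] at hx
      rw [mem_bot.1 hx, one_mul, mul_one]
    · refine cent_of_sm hr hSB ((derivedSeries_antitone H (by norm_num)).trans h3) ((hS r hr hrp).of_inj
        ((H.subtype.comp (S.subgroupOf H).subtype).codRestrict S fun x => x.2) fun x y hxy => ?_) hRp hRS hY
      exact Subtype.ext (Subtype.ext (congrArg (fun z : S => (z : G)) hxy))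
  let ι := {R : Subgroup H // R.Normal ∧ R ≤ S.subgroupOf H ∧ ∃ r : ℕ, r.Prime ∧ IsPGroup r R}
  have hn : (⨅ R : ι, centralizer (R.1 : Set H)).Normal := Subgroup.normal_iInf_normal fun R => by
    have := R.2.1
    infer_instance
  refine ps_fit big (S.subgroupOf H ⊓ ⨅ R : ι, centralizer (R.1 : Set H)) (a := 8) (c := 5) le_rfl
    (fun Y hY => le_inf ?_ (le_iInf ?_)) (fun r hr R hRn hRS hRp => ⟨fun x hx y hy => ?_, ?_⟩)
    fun U _ _ _ hU k N hN f hf hker => ?_
  · refine (dS_anti Y (show 3 ≤ 8 by norm_num)).trans ((dS_mono le_top 3).trans ?_)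
    rwa [dS_top]
  · rintro ⟨R, h1, h2, r, hr, h4⟩
    exact key r hr R h1 h2 h4 Y hY
  · exact mem_centralizer_iff.1 (mem_iInf.1 (hRS hy).2 ⟨R, hRn, hRS.trans inf_le_left, r, hr, hRp⟩) x hx
  · exact key r hr R hRn (hRS.trans inf_le_left) hRp
  · obtain ⟨r, hr, hrp, hd⟩ := exists_prime_ne hU p
    let g : N →* S := (H.subtype.comp N.subtype).codRestrict S fun x => (hN x.2).1
    have hg : Function.Injective g := fun x y hxy =>
      Subtype.ext (Subtype.ext (congrArg (fun z : S => (z : G)) hxy))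
    have h1 := le_of_rankLe (ps_zero_of_simple hU) hr hd f hf hker ((hrk r hr hrp).of_inj g hg)
    exact sd_perm_fifteen (by simpa only [_root_.Nat.card_eq_fintype_card, _root_.Fintype.card_fin] using h1)

end Cfsg.Agent.DS.TF
end

-- part: DS/Ex/TFInst
section
/-!
# DS: the row `²F₄(q)`, no non-trivial 2-subgroup normalized (helper2)
-/

set_option autoImplicit false
set_option linter.unusedSectionVars false

namespace Cfsg.Agent.DS.TF

open Cfsg.Agent.H936 Cfsg.Agent.DS.NT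

universe u

section Tor

open CoxeterSystem Cfsg Cfsg.Lie Cfsg.Lie.ChevalleyDatum
open Cfsg.Agent.ChevalleyStructure Cfsg.Agent.ChevalleyStructure.Elts Cfsg.Agent.ChevalleyStructure.CoxeterGeom
  Cfsg.Agent.ChevalleyStructure.CoxeterGeomTypes Cfsg.Agent.ChevalleyStructure.NPerm
  Cfsg.Agent.ChevalleyStructure.RootVec
open Cfsg.Agent.Tits.Roots Cfsg.Agent.Tits.Core Cfsg.Agent.Nodes Cfsg.Agent.Nodes.Reps Cfsg.Agent.Nodes.BNOf
  Cfsg.Agent.Nodes.RGDChev
open Cfsg.Agent.KFacts.RgdField Cfsg.Agent.KFacts.RgdChevCoord Cfsg.Agent.BpExc.TorCent Cfsg.Agent.BpExc.TorChev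
open Cfsg.Agent.GpExc.Field Cfsg.Agent.BpExc.Tow Cfsg.Agent.BpExc.TowChev
  Cfsg.Agent.BpExc.LangFr Cfsg.Agent.BpExc Cfsg.Agent.H129.TorusChar Cfsg.Agent.H129.TorusUntw
open Cfsg.Agent.H493.F4End Cfsg.Agent.H493.F4Tor Cfsg.Agent.H129.WData
open Cfsg.Agent.H630.NH Cfsg.Agent.H630.Exc Cfsg.Agent.H759.TwF

variable {K : Type u} [Field K] [Fintype K] {m : ℕ} (hK : Fintype.card K = 2 ^ (2 * m + 1))

include hK

/-- the torus of order `(q + 1) ^ 2` -/
theorem torus : ∃ T : Subgroup ↥(twistedF4 K (2 ^ m)), (∀ x ∈ T, ∀ y ∈ T, x * y = y * x) ∧ RankLe T 3 4 ∧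
    (2 ^ (2 * m + 1) + 1) ^ 2 ∣ Nat.card T := by
  classical
  have : Fact (Nat.Prime 2) := ⟨Nat.prime_two⟩
  have hc2 : CharP K 2 := F4Fixed.charP_two hK
  obtain ⟨p, e, hpF, hpc, hpk, he, hpe, hk⟩ := _root_.Cfsg.Agent.H129.TorusUntw.exists_closure hK
  have hp2 : p = 2 := CharP.eq K hpc hc2
  subst hp2
  let k := AlgebraicClosure K
  let f : K →+* k := algebraMap K k
  let cs := CoxeterMatrix.F₄.toCoxeterSystem
  have hW : Finite CoxeterMatrix.F₄.Group := H493.PGF4.finW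
  have hN : NSys CoxeterMatrix.F₄ (TT chevF4 k) (nc hp k) := nsys_of_locFin hp cs hk 2
  obtain ⟨n, hn⟩ := exists_rp cs hN (TD.w cs tdB)
  obtain ⟨z, hz⟩ := H493.F4Lang.lang_ste m n
  have hodd := odd_NN (2 ^ m) 1
  obtain ⟨N, hN'⟩ : ∃ N : ℕ, N = 2 ^ (2 * m + 1) + 1 := ⟨_, rfl⟩
  have hNe : pe (2 ^ m) (H759.TwF.NN 1) = (N : ℤ) := by
    rw [hN']
    change (1 : ℤ) + 2 ^ m * (0 + 2 ^ m * (2 + 2 ^ m * 0)) = _
    push_cast
    ring
  have hNk : (N : k) ≠ 0 := odd_cast hNe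
  have ha : H759.TwF.NN 1 = tdB.N := rfl
  have hd := okT_B
  rw [ha] at hNe hodd
  have key : ∀ {c : Fin 4 → P} {U : Fin 4} {v : P} {κ E : ℕ}, OkO tdB c U v κ E →
      IsCoprime (N : ℤ) (Lc (2 ^ m) tdB.Q c (sr U)) := by
    intro c U v κ E hO
    have h1 := pe_of_peq (2 ^ m) hO
    rw [pe_pa, pe_pm, pe_p4, pe_pmo] at h1
    rw [← hNe]
    refine coprime_pow (m := m) hodd (v := pe (2 ^ m) v) (k := κ) (E := E) ?_
    rw [Lc_apply, ← h1]
    simp only [Mh_sr, pe_pm]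
  refine ⟨tX chevF4 k (eF m f) z, fun x hx y hy => tX_comm hp (eF_injective f) z hx hy, fun B _ hB => ?_, ?_⟩
  · have hi : Function.Injective ((eF m f).comp (tX chevF4 k (eF m f) z).subtype) :=
      (eF_injective f).comp (Subgroup.subtype_injective _)
    rw [Nat.card_congr (B.equivMapOfInjective _ hi).toEquiv]
    refine Rank.card_toral_le hp (by norm_num) _ z⁻¹ ?_ ?_
    · rintro _ ⟨x, -, rfl⟩
      rw [inv_inv]
      exact mem_tX.1 x.2
    · rintro _ ⟨x, hx, rfl⟩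
      rw [← map_pow, hB x hx, map_one]
  have h0 : Lc (2 ^ m) tdB.Q ![[1], [], [], []] (sr 1) = 0 := by
    have h1 := pe_of_peq (2 ^ m) okZ_B
    rw [pe_p4, pe] at h1
    rw [Lc_apply, ← h1]
    simp only [Mh_sr, pe_pm]
  rw [← hN']
  exact dvd_card_two hK f hk cs hn hz hNk (L := Lc (2 ^ m) tdB.Q ![[], [1], [], []])
    (L' := Lc (2 ^ m) tdB.Q ![[1], [], [], []]) (U := sr 1)
    (U' := sr 2) (fun x => by rw [← hNe]; exact Lc_adapted cs hd.1 hd.2.1 _ _ x)
    (fun x => by rw [← hNe]; exact Lc_adapted cs hd.1 hd.2.1 _ _ x) (key okO_B) (key okO2_B)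
    (by rw [h0]; exact dvd_zero _)

end Tor

theorem mod_nine (m : ℕ) : 2 ^ (2 * m + 1) % 9 = 2 ∨ 2 ^ (2 * m + 1) % 9 = 8 ∨ 2 ^ (2 * m + 1) % 9 = 5 := by
  induction m with
  | zero => norm_num
  | succ m ih =>
    rw [show 2 * (m + 1) + 1 = 2 * m + 1 + 2 by ring, pow_add]
    omega

theorem arith {q : ℕ} (hq : q % 9 = 2 ∨ q % 9 = 8 ∨ q % 9 = 5) :
    ∃ c : ℕ, ¬ 9 ∣ c ∧ q ^ 12 * (q - 1) * (q ^ 3 + 1) * (q ^ 4 - 1) * (q ^ 6 + 1) = (q + 1) ^ 2 * c := by
  obtain ⟨t, rfl⟩ : ∃ t, q = t + 1 := ⟨q - 1, by omega⟩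
  have e1 : (t + 1) ^ 4 - 1 = (t + 2) * (t * ((t + 1) ^ 2 + 1)) := by
    rw [Nat.sub_eq_iff_eq_add (Nat.one_le_pow 4 (t + 1) (by omega))]
    ring
  refine ⟨(t + 1) ^ 12 * t * (t ^ 2 + t + 1) * (t * ((t + 1) ^ 2 + 1)) * ((t + 1) ^ 6 + 1), fun h => ?_, ?_⟩
  · have h1 : t % 9 = 1 ∨ t % 9 = 7 ∨ t % 9 = 4 := by (clear * - hq; omega)
    rw [Nat.dvd_iff_mod_eq_zero] at h
    rcases h1 with h1 | h1 | h1 <;>
      simp only [Nat.mul_mod, Nat.add_mod, Nat.pow_mod, h1, _root_.Nat.one_mod, _root_.Nat.reduceAdd, _root_.Nat.reduceMod, _root_.Nat.reducePow, _root_.mul_one, _root_.one_pow, _root_.one_mul, _root_.Nat.reduceMul, _root_.OfNat.ofNat_ne_zero, _root_.Nat.mod_succ] at h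
  · rw [e1, Nat.add_sub_cancel]
    ring

open Subgroup in
/-- a subgroup whose index is not divisible by `r ^ 2` -/
theorem sm_of_index {X : Type*} [Group X] [Finite X] {r m : ℕ} (hr : r.Prime) {T : Subgroup X}
    (hc : ∀ x ∈ T, ∀ y ∈ T, x * y = y * x) (hrk : RankLe T r m) (hi : ¬ r ^ 2 ∣ T.index) : Sm X r m := by
  have : Fact r.Prime := ⟨hr⟩
  intro Q _ _ hQ f hf
  let P₀ : Sylow r T := default
  obtain ⟨P, hP⟩ := (P₀.isPGroup'.map T.subtype).exists_le_sylow
  obtain ⟨P', hP'⟩ := (hQ.of_surjective f.rangeRestrict f.rangeRestrict_surjective).exists_le_sylow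
  obtain ⟨g, hg⟩ := MulAction.exists_smul_eq X P' P
  let f' : Q →* X := (MulAut.conj g).toMonoidHom.comp f
  have hf' : Function.Injective f' := (MulAut.conj g).injective.comp hf
  have h1 : f'.range ≤ P := by
    rintro _ ⟨x, rfl⟩
    rw [← hg, Sylow.coe_subgroup_smul]
    exact Subgroup.smul_mem_pointwise_smul _ (MulAut.conj g) _ (hP' ⟨x, rfl⟩)
  have h2 : T.relIndex P ≤ r := by
    obtain ⟨j, hj⟩ := P.isPGroup'.index (T.subgroupOf P)
    have h3 : T.relIndex P = r ^ j := hj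
    have h4 : (P₀ : Subgroup T).map T.subtype ≤ T ⊓ P := le_inf (map_subtype_le _) hP
    have h5 : ¬ r ∣ (T ⊓ P).relIndex T := by
      intro h
      refine P₀.not_dvd_index (h.trans ?_)
      refine index_dvd_of_le fun x hx => h4 ⟨x, hx, rfl⟩
    have h6 := relIndex_mul_index (show T ⊓ (P : Subgroup X) ≤ T from inf_le_left)
    rw [← relIndex_mul_index (show T ⊓ (P : Subgroup X) ≤ P from inf_le_right), inf_relIndex_right, h3] at h6
    have h7 : r ^ j ∣ T.index :=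
      (Nat.Coprime.pow_left j ((Nat.Prime.coprime_iff_not_dvd hr).2 h5)).dvd_of_dvd_mul_left
        (by rw [h6]; exact dvd_mul_right _ _)
    have h8 : j ≤ 1 := by
      by_contra h
      exact hi ((pow_dvd_pow r (by omega)).trans h7)
    rw [h3]
    exact (Nat.pow_le_pow_right hr.pos h8).trans (pow_one r).le
  refine ⟨T.comap f', fun x hx y hy => hf' (by rw [map_mul, map_mul]; exact hc _ hx _ hy), ?_, ?_⟩
  · exact hrk.of_inj (f'.subgroupComap T) fun x y hxy => Subtype.ext (hf' (congrArg Subtype.val hxy))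
  · rw [index_comap]
    exact (relIndex_le_of_le_right h1 index_ne_zero_of_finite).trans h2

section Row

open Cfsg.Lie

variable {K : Type} [Field K] [Fintype K] {m : ℕ} (hK : Fintype.card K = 2 ^ (2 * m + 1))

include hK

theorem sm_twistedF4 {r : ℕ} (hr : r.Prime) (h2 : r ≠ 2) : Sm ↥(twistedF4 K (2 ^ m)) r 4 := by
  have hc2 : CharP K 2 := Cfsg.Agent.ChevalleyStructure.F4Fixed.charP_two hK
  by_cases h3 : r = 3
  · subst h3
    obtain ⟨T, hc, hrk, d, hd⟩ := torus hK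
    obtain ⟨c, h9, hc'⟩ := arith (mod_nine m)
    have h1 := S1068.result hK
    have hfin : Finite ↥(twistedF4 K (2 ^ m)) := inferInstance
    refine sm_of_index hr hc hrk fun h => h9 ?_
    rw [hc', ← T.card_mul_index, hd, mul_assoc] at h1
    have h4 := Nat.eq_of_mul_eq_mul_left (by positivity) h1
    rw [← h4]
    exact Dvd.dvd.mul_left h d
  · have : Fact r.Prime := ⟨hr⟩
    have h5 : 5 ≤ r := hr.five_le_of_ne_two_of_ne_three h2 h3
    intro Q _ _ hQ f hf
    have h1 := Cfsg.Agent.H42.Tw.abelian_twF4 h5 (hQ.of_surjective f.rangeRestrict f.rangeRestrict_surjective)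
    have h4 : RankLe ↥(twistedF4 K (2 ^ m)) r 4 := by
      refine Rank.rank_gen Rank.tF4.inList (Rank.rank_chev Rank.tF4 (e := 0) hr h2 ?_) _
      rw [Rank.wF4, zero_add, pow_one]
      intro h
      rcases (Nat.Prime.dvd_mul hr (m := 2 ^ 7) (n := 3 ^ 2)).1 h with h6 | h6
      · exact h2 ((Nat.prime_dvd_prime_iff_eq hr Nat.prime_two).1 (hr.dvd_of_dvd_pow h6))
      · exact h3 ((Nat.prime_dvd_prime_iff_eq hr Nat.prime_three).1 (hr.dvd_of_dvd_pow h6))
    refine ⟨⊤, fun x _ y _ => hf ?_, h4.of_inj (f.comp (⊤ : Subgroup Q).subtype) (hf.comp (Subgroup.subtype_injective _)),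
      by rw [Subgroup.index_top]; exact hr.one_le⟩
    rw [map_mul, map_mul]
    exact congrArg Subtype.val (h1.is_comm.comm (⟨f x, x, rfl⟩ : f.range) ⟨f y, y, rfl⟩)

end Row

/-- **`²F₄(q)`: `H` normalizes no non-trivial 2-subgroup of `S`.** -/
theorem odd_2F4 (big : Big) {G : Type} [Group G] [Finite G] {S H : Subgroup G} (hs : Setup S H)
    (hS : Lie.Iso2F4 S) (h2 : ∀ Q : Subgroup G, Q ≤ S → IsPGroup 2 Q → H ≤ Subgroup.normalizer (Q : Set G) → Q = ⊥) :
    PS 9 H := by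
  obtain ⟨K, _, _, m, -, hK, ⟨e⟩⟩ := hS
  have hc2 : CharP K 2 := Cfsg.Agent.ChevalleyStructure.F4Fixed.charP_two hK
  refine ps_nine ((Lin.sb (n := 5) (by norm_num)).mono le_rfl (by decide)) big hs 2 h2 (fun r hr hr2 => (sm_twistedF4 hK hr hr2).of_inj e.toMonoidHom e.injective)
    fun r hr hr2 => ?_
  exact (Rank.rankLe_mono hr.pos (Rank.rk_2F4 hr hr2 _) (by norm_num)).of_inj e.toMonoidHom e.injective

end Cfsg.Agent.DS.TF
end

-- part: DS/Ex/ParBox
section
/-!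
# S5881: the exceptional rows from the toral and the non-toral boxes (helper55)

* `box2F4 : Box2F4`;
* `HasExtP` : `HasExt` with the characteristic made explicit (proofs of helper56 and helper12);
* `boxF4_of2`, `boxE6_of2`, `boxE7_of2`, `boxE8_of2`, `box2E6_of2` : from `BoxTor` and `BoxNonTor`.
-/

set_option autoImplicit false
set_option linter.unusedSectionVars false

namespace Cfsg.Agent.DS.Par

open CoxeterSystem Cfsg Cfsg.Lie Cfsg.Lie.ChevalleyDatum
open Cfsg.Agent.ChevalleyStructure Cfsg.Agent.ChevalleyStructure.Elts Cfsg.Agent.ChevalleyStructure.CoxeterGeom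
  Cfsg.Agent.ChevalleyStructure.CoxeterGeomTypes Cfsg.Agent.ChevalleyStructure.NPerm
open Cfsg.Agent.Tits.Roots Cfsg.Agent.Tits.Core Cfsg.Agent.Nodes Cfsg.Agent.Nodes.Reps Cfsg.Agent.Nodes.BNOf
  Cfsg.Agent.Nodes.OppDec
  Cfsg.Agent.Nodes.RGDChev Cfsg.Agent.Nodes.Bruhat Cfsg.Agent.Nodes.NormalForm
open Cfsg.Agent.KFacts.RgdField Cfsg.Agent.KFacts.RgdChevCoord
open Cfsg.Agent.BpExc Cfsg.Agent.BpExc.FamField Cfsg.Agent.BpExc.TorCent Cfsg.Agent.BpExc.TorChev Cfsg.Agent.BpExc.Tow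
  Cfsg.Agent.BpExc.TowChev Cfsg.Agent.BpExc.Fr Cfsg.Agent.BpExc.Pair Cfsg.Agent.BpExc.LangFr Cfsg.Agent.GpExc.Field
  Cfsg.Agent.BpExc.FamExt Cfsg.Agent.BpExc.FamUntw Cfsg.Agent.BpExc.FamInst
open Cfsg.Agent.H469.Exc Cfsg.Agent.H469.Exc.SigFr
open Cfsg.Agent.ChevalleyStructure.SignedSymm Cfsg.Agent.ChevalleyStructure.GraphSymm
open Cfsg.Agent.H316.U6 Cfsg.Agent.H936 Cfsg.Agent.DS.Ex Cfsg.Agent.DS.Ex.Untw

theorem box2F4 : Box2F4 := by
  intro big G _ _ S H E r hL hS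
  by_cases h : ∀ Q : Subgroup G, Q ≤ S → IsPGroup 2 Q → H ≤ Subgroup.normalizer (Q : Set G) → Q = ⊥
  · exact TF.odd_2F4 big hL.toSetup hS h
  · push Not at h
    obtain ⟨Q, h1, h2, h3, h4⟩ := h
    obtain ⟨K, _, _, m, hm, hK, ⟨e⟩⟩ := hS
    exact par_2F4' big hm hK hL.toSetup e h1 h2 h4 h3

/-- a normalised `p`-subgroup gives the local case for `p` -/
theorem loc_of_pgroup {G : Type} [Group G] [Finite G] {S H Q : Subgroup G} (hs : Setup S H) {p : ℕ} [Fact p.Prime]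
    (hQS : Q ≤ S) (hQ : IsPGroup p Q) (hQ1 : Q ≠ ⊥) (hH : H ≤ Subgroup.normalizer (Q : Set G)) :
    ∃ E : Subgroup G, Loc S H E p := by
  have hnt : Nontrivial Q := Q.nontrivial_iff_ne_bot.2 hQ1
  have h1 := hQ.center_nontrivial
  obtain ⟨E, r, hE, hL⟩ := Gen.exists_loc (A := Q ⊓ Subgroup.centralizer (Q : Set G)) hs (inf_le_left.trans hQS)
    (mem_norm_of fun g hg z hz => ⟨conj_mem_of_norm (hH hg) hz.1, by
      have h2 : z ∈ Subgroup.centralizer (Q : Set G) := hz.2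
      show g * z * g⁻¹ ∈ Subgroup.centralizer (Q : Set G)
      rw [Subgroup.mem_centralizer_iff] at h2 ⊢
      intro y hy
      have h3 := h2 _ (conj_mem_of_norm (hH (inv_mem hg)) hy)
      calc y * (g * z * g⁻¹) = g * (g⁻¹ * y * g⁻¹⁻¹ * z) * g⁻¹ := by group
        _ = _ := by rw [h3]; group⟩)
    (by
      obtain ⟨⟨x, hx⟩, hx1⟩ := exists_ne (1 : Subgroup.center Q)
      intro h
      have h2 : (x : G) ∈ Q ⊓ Subgroup.centralizer (Q : Set G) := ⟨x.2, by
        show (x : G) ∈ Subgroup.centralizer (Q : Set G)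
        rw [Subgroup.mem_centralizer_iff]
        intro y hy
        exact congrArg Subtype.val (Subgroup.mem_center_iff.1 hx ⟨y, hy⟩)⟩
      rw [h, Subgroup.mem_bot] at h2
      exact hx1 (Subtype.ext (Subtype.ext h2)))
    (fun x hx y hy => Subgroup.mem_centralizer_iff.1 hy.2 x hx.1)
  obtain ⟨x, hx, hx1⟩ := E.bot_or_exists_ne_one.resolve_left hL.ne_bot
  obtain ⟨k, hk⟩ := hQ ⟨x, (hE hx).1⟩
  have h2 : orderOf x = r := by
    have := Fact.mk hL.prime
    exact orderOf_eq_prime (hL.pow x hx) hx1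
  have h3 : r ∣ p ^ k := h2 ▸ orderOf_dvd_of_pow_eq_one (congrArg Subtype.val hk)
  have h4 : r = p := (Nat.prime_dvd_prime_iff_eq hL.prime Fact.out).1 (hL.prime.dvd_of_dvd_pow h3)
  exact ⟨E, h4 ▸ hL⟩

variable {D : ChevalleyDatum} {l : ℕ} {M : CoxeterMatrix (Fin l)} {r : ℕ} [hr : Fact r.Prime]

/-- `HasExt` in the characteristic `r` -/
def HasExtP (hp : IsType D l M) (r : ℕ) [Fact r.Prime] (K : Type) [Group K] : Prop :=
  ∃ (q : ℕ) (m : MData hp r q K) (A : Subgroup (MulAut (YY D r))), _root_.Cfsg.Agent.DS.Ex.Ext m A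

theorem ps_of_hasExtP (big : Big) (hT : BoxTor) (hN : BoxNonTor) {hp : IsType D l M} (hD : Typ D) {G : Type} [Group G]
    [Finite G] {S H E : Subgroup G} {s : ℕ} (hL : Loc S H E s) {K : Type} [Group K] (f : S ≃* K) (h : HasExtP hp r K)
    (hP : ∀ E', Loc S H E' r → PS 9 H) : PS 9 H := by
  have hs := hL.toSetup
  obtain ⟨q, m, A, hE⟩ := h
  obtain ⟨L, h1, h2, -⟩ := (hE.congr f).exists_lift hs.normal hs.cent
  by_cases hQ : ∀ Q : Subgroup G, Q ≤ S → IsPGroup r Q → H ≤ Subgroup.normalizer (Q : Set G) → Q = ⊥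
  · by_cases hA : ∀ A₀ : Subgroup (YY D r), Toral r A₀ → L.Inv H A₀ → A₀ = ⊥
    · exact hN big D l M hp hD r G S H E s hL q _ A (hE.congr f) L h1 h2 hQ hA
    · push Not at hA
      obtain ⟨A₀, a1, a2, a3⟩ := hA
      exact hT big D l M hp hD r G S H hs L A₀ a3 a1 a2
  · push Not at hQ
    obtain ⟨Q, a1, a2, a3, a4⟩ := hQ
    obtain ⟨E', hE'⟩ := loc_of_pgroup hs a1 a2 a4 a3
    exact hP E' hE'

theorem hasExtP_untw (hp : IsType D l M) (hD : D ∈ [chevF4, chevE6, chevE7, chevE8]) (F : Type) [Field F] [Fintype F]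
    [CharP F r] {d : ℕ} {B : Fin l → Fin l → ℤ} (hB : InvC D l d B) (hB' : H129.TorusChar.InvC D l d B)
    (hd : d = 1 ∨ (D = chevE6 ∧ d = 3) ∨ (D = chevE7 ∧ d = 2)) (γ : MulAut (YY D r))
    (hc : γ * phi D (KK r) r 1 = phi D (KK r) r 1 * γ) (hw : WFr hp r γ) (hw' : WFr hp r γ⁻¹)
    (hs : (D = chevF4 → r ≠ 2) → SFr hp r γ)
    (hg : ∀ (f : F →+* KK r) (g : MulAut ↥(D.group F)), D.IsGraphAut g →
      g = 1 ∨ ∀ a, emb hp.inList f (g a) = γ (emb hp.inList f a)) : HasExtP hp r ↥(D.group F) := by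
  have hd0 : d ≠ 0 := by rcases hd with h | ⟨-, h⟩ | ⟨-, h⟩ <;> omega
  have hd1 : d = 1 ∨ d.Prime := by
    rcases hd with h | ⟨-, h⟩ | ⟨-, h⟩
    · exact Or.inl h
    · exact Or.inr (h ▸ Nat.prime_three)
    · exact Or.inr (h ▸ Nat.prime_two)
  obtain ⟨m, hdd, f, n, hσ, hι⟩ := mdata_untw2 (r := r) hp F hB' hd0 hd1
  let A := Subgroup.closure {phi D (KK r) r 1, γ}
  have hphi : ∀ j, phi D (KK r) r j ∈ A := fun j => by
    have h1 := phi_pow (D := D) (k := KK r) r 1 j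
    rw [one_mul] at h1
    rw [← h1]
    exact pow_mem (Subgroup.subset_closure (by simp)) j
  have hγ : γ ∈ A := Subgroup.subset_closure (by simp)
  refine ⟨_, m, A, ⟨hσ ▸ hphi n, ?_, ?_, ?_, ?_, ?_, ?_⟩⟩
  · have h1 : A ≤ Subgroup.centralizer (A : Set (MulAut (YY D r))) := by
      rw [Subgroup.closure_le, Subgroup.centralizer_closure]
      rintro x (rfl | rfl) y (rfl | rfl)
      · rfl
      · exact hc
      · exact hc.symm
      · rfl
    exact fun β hβ β' hβ' => h1 hβ' β hβ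
  · have h1 : A ≤ WF hp r := by
      rw [Subgroup.closure_le]
      rintro x (rfl | rfl)
      · exact ⟨sfr_wfr (sfr_phi hp 1), sfr_wfr (sfr_inv (sfr_phi hp 1))⟩
      · exact ⟨hw, hw'⟩
    exact fun β hβ => (h1 hβ).1
  · intro h
    have h1 : A ≤ SF hp r := by
      rw [Subgroup.closure_le]
      rintro x (rfl | rfl)
      · exact sfr_phi hp 1
      · exact hs h
    exact fun β hβ => h1 hβ
  · intro α
    obtain ⟨x, δ, g, φ, h1, h2, h3, h4⟩ := H79.Steinberg.exists_fac hp.inList α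
    obtain ⟨τ, rfl⟩ := H296.ESixGF.eq_fld hp h3
    obtain ⟨j, hj⟩ := exists_pow_eq r τ
    obtain ⟨t, -, ht⟩ := H296.Core.diag_ext hp f hB hd0
      (fun c _ => IsAlgClosed.exists_pow_nat_eq (f c) (Nat.pos_of_ne_zero hd0)) h1
    have h5 : ∀ a, emb hp.inList f (CpAut.RgdUntw.fld D τ a) = phi D (KK r) r j (emb hp.inList f a) := fun a =>
      (FamExt.fld_emb hp f (fun a => by rw [frb_apply, hj, map_pow]) a).symm
    rw [hι]
    rcases hg f g h2 with h6 | h6
    · refine ⟨emb hp.inList f x * t, _, hphi j, fun a => ?_⟩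
      rw [h4, map_mul, map_mul, map_inv, ht, h6, MulAut.one_apply, h5]
      group
    · refine ⟨emb hp.inList f x * t, _, mul_mem hγ (hphi j), fun a => ?_⟩
      rw [h4, map_mul, map_mul, map_inv, ht, h6, h5, MulAut.mul_apply]
      group
  · rw [hι]
    exact fun y hy => eq_one_of_comm hp (locFin r) r f (center_YY hD) hy
  · rw [hdd]
    rcases hd with h | ⟨h, h'⟩ | ⟨h, h'⟩
    · exact Or.inl (by rw [h, Nat.gcd_one_left])
    · subst h'
      rcases (Nat.dvd_prime Nat.prime_three).1 (Nat.gcd_dvd_left 3 (Fintype.card F - 1)) with h1 | h1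
      · exact Or.inl h1
      · exact Or.inr (Or.inl ⟨h, h1⟩)
    · subst h'
      rcases (Nat.dvd_prime Nat.prime_two).1 (Nat.gcd_dvd_left 2 (Fintype.card F - 1)) with h1 | h1
      · exact Or.inl h1
      · exact Or.inr (Or.inr ⟨h, h1⟩)

theorem hasExtP_of_nograph (hp : IsType D l M) (hD : D ∈ [chevF4, chevE6, chevE7, chevE8]) (F : Type) [Field F]
    [Fintype F] [CharP F r] {d : ℕ} {B : Fin l → Fin l → ℤ} (hB : InvC D l d B) (hB' : H129.TorusChar.InvC D l d B)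
    (hd : d = 1 ∨ (D = chevE6 ∧ d = 3) ∨ (D = chevE7 ∧ d = 2))
    (hg : ∀ g : MulAut ↥(D.group F), D.IsGraphAut g → g = 1) : HasExtP hp r ↥(D.group F) :=
  hasExtP_untw (r := r) hp hD F hB hB' hd 1 (by rw [one_mul, mul_one]) (sfr_wfr (sfr_one hp))
    (by rw [inv_one]; exact sfr_wfr (sfr_one hp)) (fun _ => sfr_one hp) fun _ g h => Or.inl (hg g h)

open Cfsg.Agent.H296.FFour in
theorem extP_F4 (F : Type) [Field F] [Fintype F] [CharP F r] : HasExtP hpF4 r ↥(chevF4.group F) := by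
  by_cases h2 : r = 2
  · subst h2
    have : ExpChar F 2 := ExpChar.prime Nat.prime_two
    have : PerfectRing F 2 := PerfectRing.ofFiniteOfIsReduced 2 F
    have h1 : ∀ a < chevF4.nroots, ∃ s, Act hpF4.inList (al (KK 2)) a s := fun a ha => ⟨_, act_al ha⟩
    have h3 : ∀ s < chevF4.nroots, ∃ a, Act hpF4.inList (al (KK 2)) a s := fun s hs => ⟨br s, by
      have h4 := act_al (tab s hs).1
      rwa [(tab s hs).2.1] at h4⟩
    refine hasExtP_untw (r := 2) hpF4 (by simp) F FamInst.inv_F4 FamInst.inv_F4 (Or.inl rfl) (al (KK 2)) (al_mul_fld _)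
      (wfr_of_act hpF4 h1 h3) (wfr_of_act hpF4 (fun a ha => (h3 a ha).imp fun _ h => h.inv)
        fun a ha => (h1 a ha).imp fun _ h => h.inv) (fun h => absurd rfl (h rfl)) fun f g hg => ?_
    by_cases hg1 : g = 1
    · exact Or.inl hg1
    · rw [eq_al hg hg1]
      exact Or.inr fun a => ((gam_F4 f).nat a).symm
  · exact hasExtP_of_nograph (r := r) hpF4 (by simp) F FamInst.inv_F4 FamInst.inv_F4 (Or.inl rfl) fun g => graph_F4 h2

theorem extP_E7 (F : Type) [Field F] [Fintype F] [CharP F r] : HasExtP hpE7 r ↥(chevE7.group F) :=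
  hasExtP_of_nograph (r := r) hpE7 (by simp) F inv_E7 inv_E7 (Or.inr (Or.inr ⟨rfl, rfl⟩))
    fun g => eq_one_of_symm hpE7.inList fun _ => H79.DiagSymm.eq_one_E7

theorem extP_E8 (F : Type) [Field F] [Fintype F] [CharP F r] : HasExtP hpE8 r ↥(chevE8.group F) :=
  hasExtP_of_nograph (r := r) hpE8 (by simp) F inv_E8 inv_E8 (Or.inl rfl)
    fun g => eq_one_of_symm hpE8.inList fun _ => H79.DiagSymm.eq_one_E8

open Cfsg.Agent.DS.Ex.Six in
theorem extP_E6 (F : Type) [Field F] [Fintype F] [CharP F r] : HasExtP hpE6 r ↥(chevE6.group F) := by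
  obtain ⟨f⟩ := RowsUntw.exists_emb r F
  obtain ⟨n, hn0, hn⟩ := exists_card (F := F) r
  obtain ⟨m, h1, h2, -, h4⟩ := H28.GenF.mdata_std' (r := r) hpE6 F H129.TorusChar.invC_E6 three_ne_zero
    (Or.inr Nat.prime_three) f hn0 hn
  refine ⟨_, m, AA r, ?_, AA_comm r, fun β hβ => AA_wfr r hβ, fun _ β hβ => AA_sfr r hβ, ?_, ?_, ?_⟩
  · rw [h2]
    exact phi_mem r n
  · rw [h1]
    exact ext_untw r f
  · rw [h1]
    exact fun y hy => FamUntw.eq_one_of_comm hpE6 (locFin r) r f (center_six _) hy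
  · rw [h4]
    rcases gcd_three (Fintype.card F - 1) with h | h
    · exact Or.inl h
    · exact Or.inr (Or.inl ⟨rfl, h⟩)

open Cfsg.Agent.DS.Ex.Six in
theorem extP_2E6 (K : Type) [Field K] [Fintype K] [CharP K r] {q : ℕ} (hq : IsPrimePow q)
    (hK : Fintype.card K = q ^ 2) : HasExtP hpE6 r ↥(twistedE6 K q) := by
  obtain ⟨f⟩ := RowsUntw.exists_emb r K
  obtain ⟨n, hn0, hn⟩ := exists_eq_pow (r := r) hq hK
  obtain ⟨φ, hφ, hqq⟩ := TwE6Basic.exists_frob hq hK
  obtain ⟨m, h1, h2, h4⟩ := mdata_tw r hq hK f hn0 hn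
  refine ⟨_, m, AA r, ?_, AA_comm r, fun β hβ => AA_wfr r hβ, fun _ β hβ => AA_sfr r hβ, ?_, ?_, ?_⟩
  · rw [h2]
    exact mul_mem (gr_mem r) (phi_mem r n)
  · rw [h1]
    intro α
    have hW : Finite CoxeterMatrix.F₄.Group := RGDChev.finite_W hpF4 CoxeterMatrix.F₄.toCoxeterSystem
    have hΦ : ∀ a, frb (KK r) r n (f a) = f (φ a) := by
      intro a
      rw [frb_apply, hφ, map_pow, hn]
    obtain ⟨a, τ, y, -, -, hy⟩ := FamTw.Six.exists_lift hφ hqq CoxeterMatrix.F₄.toCoxeterSystem r f hK hq.one_lt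
      (fun a => IsAlgClosed.exists_pow_nat_eq (f a) (by norm_num)) hΦ α
    obtain ⟨j, hj⟩ := exists_pow_eq r τ
    exact ⟨y, _, phi_mem r j, fun x => by rw [hy, H522.FamTw.Six.em_st f r hj]⟩
  · rw [h1]
    exact fun y hy => H522.FamTw.Six.eq_one_of_comm hφ hqq f y hy
  · rw [h4]
    rcases gcd_three (q + 1) with h | h
    · exact Or.inl h
    · exact Or.inr (Or.inl ⟨rfl, h⟩)

theorem boxF4_of2 (hT : BoxTor) (hN : BoxNonTor) : BoxF4 := by
  rintro big G _ _ S H E s hL ⟨F, _, _, ⟨f⟩⟩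
  obtain ⟨p, _⟩ := CharP.exists F
  have : Fact p.Prime := ⟨CharP.char_is_prime F p⟩
  exact ps_of_hasExtP big hT hN (Or.inl rfl) hL f (extP_F4 (r := p) F) fun E' h => par_F4 h f

theorem boxE6_of2 (hT : BoxTor) (hN : BoxNonTor) : BoxE6 := by
  rintro big G _ _ S H E s hL ⟨F, _, _, ⟨f⟩⟩
  obtain ⟨p, _⟩ := CharP.exists F
  have : Fact p.Prime := ⟨CharP.char_is_prime F p⟩
  exact ps_of_hasExtP big hT hN (Or.inr (Or.inl rfl)) hL f (extP_E6 (r := p) F) fun E' h => par_E6 h f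

theorem boxE7_of2 (hT : BoxTor) (hN : BoxNonTor) : BoxE7 := by
  rintro big G _ _ S H E s hL ⟨F, _, _, ⟨f⟩⟩
  obtain ⟨p, _⟩ := CharP.exists F
  have : Fact p.Prime := ⟨CharP.char_is_prime F p⟩
  exact ps_of_hasExtP big hT hN (Or.inr (Or.inr (Or.inl rfl))) hL f (extP_E7 (r := p) F) fun E' h => par_E7 h f

theorem boxE8_of2 (hT : BoxTor) (hN : BoxNonTor) : BoxE8 := by
  rintro big G _ _ S H E s hL ⟨F, _, _, ⟨f⟩⟩
  obtain ⟨p, _⟩ := CharP.exists F
  have : Fact p.Prime := ⟨CharP.char_is_prime F p⟩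
  exact ps_of_hasExtP big hT hN (Or.inr (Or.inr (Or.inr rfl))) hL f (extP_E8 (r := p) F) fun E' h => par_E8 h f

theorem box2E6_of2 (hT : BoxTor) (hN : BoxNonTor) : Box2E6 := by
  rintro big G _ _ S H E s hL ⟨K, _, _, q, hq, hK, ⟨f⟩⟩
  obtain ⟨p, _⟩ := CharP.exists K
  have : Fact p.Prime := ⟨CharP.char_is_prime K p⟩
  exact ps_of_hasExtP big hT hN (Or.inr (Or.inl rfl)) hL f (extP_2E6 (r := p) K hq hK) fun E' h => par_2E6 hq hK h f

end Cfsg.Agent.DS.Par
end

private theorem dce_459d35915fc9 : _root_.True := by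
  try have : _root_.True := by simp only [_root_.Cfsg.Agent.Nodes.Bruhat.LJ.eq_1]
  try have : _root_.True := by simp only [_root_.Cfsg.Agent.Nodes.LeviDec.PJ.eq_1]
  try have : _root_.True := by simp only [_root_.Cfsg.Agent.Nodes.LeviDec.VJ.congr_simp]
  try have : _root_.True := by simp only [_root_.Cfsg.Agent.DS.Par.MM.eq_1]
  try have : _root_.True := by simp only [_root_.Cfsg.Agent.DS.Par.LL.eq_1]
  try have : _root_.True := by simp only [_root_.Cfsg.Agent.DS.Ord.phi.eq_1]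
  exact _root_.True.intro
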