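import Cfsg.Agent.DS.Cl.Grp
import Cfsg.Agent.DS.Gen.Split
import Cfsg.Agent.H85.RelStr_m3
import Cfsg.Agent.H456.FourA
import Cfsg.Agent.H946.RadCyc
import Cfsg.Agent.Involutions.NormalFour
import Cfsg.Agent.Cam.Ex.Chi_m3
import Cfsg.Agent.H71.Dl.Height
import Cfsg.Agent.DS.Sp.F24ATools_m3
import Cfsg.Agent.S1092
import Cfsg.Agent.S1093
import Cfsg.Agent.FastGrp
import Cfsg.Agent.Prune
set_option linter.all false
prune_inst 0x7ffcfefbafb8bddfffff7ffffef9dffc39d19fffe6fffd4b7fe9e7ff3bdf232d6fe7fbbf8de0d2ff9ff6e2bc10b87853f9ffcabfef6bdd7ffffd5ff45ffbee1fb7efbfac71ffbcb40ffc6ffffbf17fae7f3ffffffffffffffffffffffffffffffffdffffffff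
open scoped Cfsg.Agent.FastGrp

-- part: DS/Ex/BN
section
/-!
# The derived series of a finite group with a split (B, N)-pair (helper60)

`SBN P p U H X` : `B = U H`, `U` a `p`-group, `H` commutative, root groups `X s`.  If `U⁽ᵈ⁾ = 1` and `4 ≤ d`, then
`G⁽ᵈ⁺¹⁾` is perfect (`SBN.ps`).  The nodes `t` outside `G^∞ B` are isolated, and the normal subgroup generated by `X t`
has derived length at most four.
-/

set_option autoImplicit false
set_option linter.unusedSectionVars false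

namespace Cfsg.Agent.DS.Ex.BN

open Subgroup Cfsg Cfsg.Agent.H936 Cfsg.Agent.DS.Cl Cfsg.Agent.BpExc.TitsRed Cfsg.Agent.LieExceptional
open scoped commutatorElement

variable {G : Type*} [Group G]

/-! ### commuting subgroups -/

theorem exists_mul_of_comm {A B : Subgroup G} (h : A ≤ centralizer (B : Set G)) {x : G} (hx : x ∈ A ⊔ B) :
    ∃ a ∈ A, ∃ b ∈ B, x = a * b := by
  have h1 : A ≤ normalizer (B : Set G) := h.trans (centralizer_le_normalizer _)
  have h2 : x ∈ ((A ⊔ B : Subgroup G) : Set G) := hx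
  rw [coe_mul_of_left_le_normalizer_right _ _ h1, Set.mem_mul] at h2
  obtain ⟨a, ha, b, hb, e⟩ := h2
  exact ⟨a, ha, b, hb, e.symm⟩

theorem dS_sup_of_comm {A B : Subgroup G} (h : A ≤ centralizer (B : Set G)) (k : ℕ) :
    dS (A ⊔ B) k ≤ dS A k ⊔ dS B k := by
  induction k with
  | zero => exact le_rfl
  | succ k ih =>
    rw [dS_succ]
    refine (commutator_mono ih ih).trans ?_
    have h1 : dS A k ≤ centralizer (dS B k : Set G) := (dS_le A k).trans (h.trans (centralizer_le (dS_le B k)))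
    rw [commutator_le]
    intro x hx y hy
    obtain ⟨a, ha, b, hb, rfl⟩ := exists_mul_of_comm h1 hx
    obtain ⟨a', ha', b', hb', rfl⟩ := exists_mul_of_comm h1 hy
    have c1 : b * a = a * b := mem_centralizer_iff.1 (h1 ha) b hb
    have c2 : b * a' = a' * b := mem_centralizer_iff.1 (h1 ha') b hb
    have c3 : b' * a = a * b' := mem_centralizer_iff.1 (h1 ha) b' hb'
    have c4 : b' * a' = a' * b' := mem_centralizer_iff.1 (h1 ha') b' hb'
    have c5 : ⁅b, b'⁆ * a' = a' * ⁅b, b'⁆ :=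
      mem_centralizer_iff.1 (h1 ha') _ ((dS_le (dS B k) 1) (commutator_mem_commutator hb hb'))
    have c6 : ⁅b, b'⁆ * a = a * ⁅b, b'⁆ :=
      mem_centralizer_iff.1 (h1 ha) _ ((dS_le (dS B k) 1) (commutator_mem_commutator hb hb'))
    have e : ⁅a * b, a' * b'⁆ = ⁅a, a'⁆ * ⁅b, b'⁆ := by
      have e1 : ⁅a * b, a' * b'⁆ = a * (b * a') * b' * b⁻¹ * (b' * a)⁻¹ * a'⁻¹ := by
        rw [commutatorElement_def]; group
      rw [e1, c2, c3]
      have e2 : a * (a' * b) * b' * b⁻¹ * (a * b')⁻¹ * a'⁻¹ = a * a' * (⁅b, b'⁆ * a⁻¹) * a'⁻¹ := by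
        rw [commutatorElement_def]; group
      have c7 : ⁅b, b'⁆ * a⁻¹ = a⁻¹ * ⁅b, b'⁆ := by
        rw [eq_inv_mul_iff_mul_eq, ← mul_assoc, ← c6, mul_inv_cancel_right]
      have c8 : ⁅b, b'⁆ * a'⁻¹ = a'⁻¹ * ⁅b, b'⁆ := by
        rw [eq_inv_mul_iff_mul_eq, ← mul_assoc, ← c5, mul_inv_cancel_right]
      rw [e2, c7, mul_assoc, mul_assoc a⁻¹, c8, commutatorElement_def a a']
      group
    rw [e]
    exact mul_mem (mem_sup_left (commutator_mem_commutator ha ha')) (mem_sup_right (commutator_mem_commutator hb hb'))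

theorem dS_sup_normal (R A : Subgroup G) [R.Normal] (k : ℕ) : dS (R ⊔ A) k ≤ R ⊔ dS A k := by
  induction k with
  | zero => exact le_rfl
  | succ k ih =>
    rw [dS_succ]
    exact (commutator_mono ih ih).trans (commutator_sup_normal R _)

/-- a `p`-group all of whose commutative subgroups are cyclic is metabelian -/
theorem dS_two_of_cyclic [Finite G] {p : ℕ} [Fact p.Prime] {X : Subgroup G} (hX : IsPGroup p X)
    (h : ∀ A : Subgroup G, A ≤ X → (∀ a ∈ A, ∀ b ∈ A, a * b = b * a) → IsCyclic A) : dS X 2 = ⊥ := by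
  obtain ⟨A, hAn, hAc, hA⟩ := Involutions.NormalFour.exists_self_centralizing_normal hX
  have h1 : IsCyclic (A.map X.subtype) := by
    refine h _ (map_subtype_le _) ?_
    rintro _ ⟨a, ha, rfl⟩ _ ⟨b, hb, rfl⟩
    rw [← map_mul, ← map_mul, hAc a ha b hb]
  have h2 : IsCyclic A := isCyclic_of_surjective (A.equivMapOfInjective _ X.subtype_injective).symm
    (MulEquiv.surjective _)
  have h3 : derivedSeries X 1 ≤ A := by
    rw [derivedSeries_one, _root_.commutator_def, commutator_le]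
    intro x _ y _
    refine hA _ fun a ha => ?_
    have h4 := H946.Rad.mulAut_comm h2 (MulAut.conjNormal (H := A) x) (MulAut.conjNormal (H := A) y)
    have h5 : (MulAut.conjNormal (H := A) ⁅x, y⁆ : MulAut A) = 1 := by
      rw [map_commutatorElement, commutatorElement_eq_one_iff_mul_comm, h4]
    have h6 := congrArg (fun f : MulAut A => ((f ⟨a, ha⟩ : A) : X)) h5
    simp only [MulAut.conjNormal_apply, MulAut.one_apply] at h6
    rw [mul_inv_eq_iff_eq_mul] at h6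
    exact h6
  rw [← Cl.map_derivedSeries_eq, map_eq_bot_iff_of_injective _ X.subtype_injective, eq_bot_iff, derivedSeries_succ,
    commutator_le]
  intro a ha b hb
  rw [mem_bot, commutatorElement_eq_one_iff_mul_comm]
  exact hAc a (h3 ha) b (h3 hb)

/-! ### the data -/

/-- `t` commutes with the other nodes -/
def Iso (P : BNPair G) (t : G) : Prop := ∀ s ∈ P.S, s ≠ t → s * t * s⁻¹ * t⁻¹ ∈ P.B

/-- the rank one group -/
def LL (X : G → Subgroup G) (t : G) : Subgroup G := X t ⊔ (X t).map (MulAut.conj t).toMonoidHom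

/-- **Split (B, N)-pairs with root groups.** -/
structure SBN (P : BNPair G) (p : ℕ) (U H : Subgroup G) (X : G → Subgroup G) : Prop extends Dat P U X where
  pU : IsPGroup p U
  H_le : H ≤ P.B
  B_eq : ∀ b ∈ P.B, ∃ u ∈ U, ∃ h ∈ H, b = u * h
  Hc : ∀ a ∈ H, ∀ b ∈ H, a * b = b * a
  HX : ∀ s ∈ P.S, ∀ h ∈ H, ∀ x ∈ X s, h * x * h⁻¹ ∈ X s
  sH : ∀ s ∈ P.S, ∀ h ∈ H, s⁻¹ * h * s ∈ H
  sq : ∀ s ∈ P.S, s * s ∈ H
  free : ∀ s ∈ P.S, ∀ x ∈ X s, s * x * s⁻¹ ∈ P.B → x = 1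
  dec : ∀ t ∈ P.S, Iso P t → ∀ u ∈ U, ∃ v ∈ U, ∃ x ∈ X t, u = v * x ∧ v ∈ centralizer (LL X t : Set G)
  cen : ∀ t ∈ P.S, Iso P t → ∀ s ∈ P.S, s ≠ t → X s ≤ centralizer (LL X t : Set G)
  nor : ∀ t ∈ P.S, Iso P t → ∀ s ∈ P.S, s ≠ t → ∀ y ∈ LL X t, s * y * s⁻¹ ∈ LL X t

theorem conj_mem_LL {X : G → Subgroup G} {t x : G} (hx : x ∈ X t) : t * x * t⁻¹ ∈ LL X t :=
  mem_sup_right ⟨x, hx, rfl⟩

theorem LL_le {X : G → Subgroup G} {t : G} {K : Subgroup G} (h1 : X t ≤ K) (h2 : ∀ x ∈ X t, t * x * t⁻¹ ∈ K) :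
    LL X t ≤ K := by
  refine sup_le h1 ?_
  rintro _ ⟨x, hx, rfl⟩
  exact h2 x hx

theorem top_le_of {P : BNPair G} {K : Subgroup G} (h1 : P.B ≤ K) (h2 : ∀ s ∈ P.S, s ∈ K) : K = ⊤ := by
  rw [eq_top_iff, ← BNPairCore.parabolic_S_eq_top (P := P)]
  exact sup_le h1 ((closure_le _).2 h2)

/-- the minimal parabolic subgroup -/
theorem mem_min {P : BNPair G} {t : G} (ht : t ∈ P.S) {g : G} (hg : g ∈ P.parabolic {t}) :
    g ∈ P.B ∨ ∃ b ∈ P.B, ∃ b' ∈ P.B, g = b * t * b' := by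
  obtain ⟨n, hn, hC⟩ := (BNPairCore.mem_parabolic_iff (Set.singleton_subset_iff.2 ht) g).1 hg
  rw [← zpowers_eq_closure, mem_zpowers_iff] at hn
  obtain ⟨k, rfl⟩ := hn
  have h2 : ∀ j : ℤ, t ^ (2 * j) ∈ P.B := fun j => by
    rw [zpow_mul, zpow_two]
    exact zpow_mem (P.sq_mem t ht) j
  rcases Int.even_or_odd' k with ⟨j, rfl | rfl⟩
  · exact Or.inl (BNPairCore.mem_B_of_mem_C (h2 j) hC)
  · right
    rw [add_comm, zpow_add, zpow_one, BNPairCore.C_mul_right (h2 j)] at hC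
    exact BNPairCore.mem_C.1 hC

namespace SBN

variable {P : BNPair G} {p : ℕ} {U H : Subgroup G} {X : G → Subgroup G} (D : SBN P p U H X)

include D

theorem X_le_B {t : G} (ht : t ∈ P.S) : X t ≤ P.B := (D.le t ht).trans D.U_le

theorem conj_X {t : G} (ht : t ∈ P.S) (hi : Iso P t) {b : G} (hb : b ∈ P.B) {x : G} (hx : x ∈ X t) :
    b * x * b⁻¹ ∈ X t := by
  obtain ⟨u, hu, h, hh, rfl⟩ := D.B_eq b hb
  obtain ⟨v, -, y, hy, rfl, hv⟩ := D.dec t ht hi u hu
  have h1 : y * (h * x * h⁻¹) * y⁻¹ ∈ X t := mul_mem (mul_mem hy (D.HX t ht h hh x hx)) (inv_mem hy)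
  have h2 := mem_centralizer_iff.1 hv _ (mem_sup_left h1 : _ ∈ LL X t)
  have e : v * y * h * x * (v * y * h)⁻¹ = v * (y * (h * x * h⁻¹) * y⁻¹) * v⁻¹ := by group
  rw [e, ← h2, mul_inv_cancel_right]
  exact h1

theorem normal [Finite G] {t : G} (ht : t ∈ P.S) (hi : Iso P t) : (LL X t).Normal := by
  have key : ∀ g : G, (∀ x ∈ X t, g * x * g⁻¹ ∈ LL X t) → (∀ x ∈ X t, g * (t * x * t⁻¹) * g⁻¹ ∈ LL X t) →
      g ∈ normalizer (LL X t : Set G) := by
    intro g h1 h2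
    refine mem_normalizer_fintype fun y hy => ?_
    have h3 : LL X t ≤ (LL X t).comap (MulAut.conj g).toMonoidHom := LL_le h1 h2
    exact h3 hy
  rw [← normalizer_eq_top_iff]
  refine top_le_of (P := P) (fun b hb => ?_) fun s hs => ?_
  · obtain ⟨u, hu, h, hh, rfl⟩ := D.B_eq b hb
    obtain ⟨v, -, y, hy, rfl, hv⟩ := D.dec t ht hi u hu
    refine mul_mem (mul_mem (centralizer_le_normalizer _ hv) (le_normalizer (mem_sup_left hy : y ∈ LL X t))) ?_
    refine key h (fun x hx => mem_sup_left (D.HX t ht h hh x hx)) fun x hx => ?_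
    have e : h * (t * x * t⁻¹) * h⁻¹ = t * ((t⁻¹ * h * t) * x * (t⁻¹ * h * t)⁻¹) * t⁻¹ := by group
    rw [e]
    exact conj_mem_LL (D.HX t ht _ (D.sH t ht h hh) x hx)
  · by_cases hst : s = t
    · subst hst
      refine key s (fun x hx => conj_mem_LL hx) fun x hx => ?_
      have e : s * (s * x * s⁻¹) * s⁻¹ = (s * s) * x * (s * s)⁻¹ := by group
      rw [e]
      exact mem_sup_left (D.HX s hs _ (D.sq s hs) x hx)
    · exact mem_normalizer_fintype (D.nor t ht hi s hs hst)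

theorem mem_sup [Finite G] {t : G} (ht : t ∈ P.S) (hi : Iso P t) : t ∈ LL X t ⊔ P.B := by
  have := D.normal ht hi
  have h1 : normalClosure (X t : Set G) ≤ LL X t := normalClosure_le_normal (N := LL X t) fun x hx => mem_sup_left hx
  exact sup_le_sup_right h1 P.B (D.gen t ht)

theorem LL_le_min {t : G} (ht : t ∈ P.S) : LL X t ≤ P.parabolic {t} := by
  have h1 : t ∈ P.parabolic {t} := mem_sup_right (_root_.Subgroup.subset_closure rfl)
  have h2 : X t ≤ P.parabolic {t} := (D.X_le_B ht).trans le_sup_left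
  exact LL_le h2 fun x hx => mul_mem (mul_mem h1 (h2 hx)) (inv_mem h1)

omit D in
theorem le_max {t : G} {K : Subgroup G} (ht : t ∉ K ⊔ P.B) : K ≤ P.parabolic (P.S \ {t}) := by
  refine le_trans (le_sup_left : K ≤ K ⊔ P.B) ?_
  rw [BNPairCore.eq_parabolic (P := P) (M := K ⊔ P.B) le_sup_right]
  refine sup_le le_sup_left (le_trans (_root_.Subgroup.closure_mono ?_) le_sup_right)
  rintro s ⟨hs, hsK⟩
  refine ⟨hs, ?_⟩
  rintro rfl
  exact ht hsK

omit D in
/-- the section `V / C` -/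
theorem exists_V {t : G} (ht : t ∈ P.S) {N : ℕ} (hN : t ∉ derivedSeries G N ⊔ P.B) :
    ∃ V C : Subgroup G, V.Normal ∧ C.Normal ∧ C ≤ V ∧ C ≤ P.parabolic (P.S \ {t}) ∧ ⁅V, V⁆ ≤ C ∧ t ∈ V ⊔ P.B ∧
      ¬ V ≤ C ∧ V ⊓ P.parabolic (P.S \ {t}) ≤ C := by
  classical
  set Pt := P.parabolic (P.S \ {t}) with hPt
  set C := Pt.normalCore with hC
  have htP : t ∉ Pt := fun h => ((BNPairCore.mem_parabolic_gen_iff Set.sdiff_subset ht).1 h).2 rfl
  have h1 : ∃ k, derivedSeries G k ≤ C := ⟨N, normal_le_normalCore.2 (le_max hN)⟩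
  have h2 : Nat.find h1 ≠ 0 := by
    intro h0
    have h3 := Nat.find_spec h1
    rw [h0] at h3
    exact htP (normalCore_le Pt (h3 (mem_top t)))
  obtain ⟨k, hk⟩ := Nat.exists_eq_succ_of_ne_zero h2
  have h3 : derivedSeries G (k + 1) ≤ C := by
    have := Nat.find_spec h1
    rwa [hk] at this
  have h4 : ¬ derivedSeries G k ≤ C := Nat.find_min h1 (by omega)
  have hVV : ⁅C ⊔ derivedSeries G k, C ⊔ derivedSeries G k⁆ ≤ C :=
    (commutator_sup_normal C _).trans (sup_le le_rfl h3)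
  have hV : ¬ C ⊔ derivedSeries G k ≤ C := fun h => h4 (le_sup_right.trans h)
  have htV : t ∈ C ⊔ derivedSeries G k ⊔ P.B := by
    by_contra h
    exact hV (normal_le_normalCore.2 (le_max h))
  refine ⟨C ⊔ derivedSeries G k, C, inferInstance, inferInstance, le_sup_left, normalCore_le Pt, hVV, htV, hV, ?_⟩
  set V := C ⊔ derivedSeries G k with hVdef
  have hVn : V.Normal := inferInstance
  have h5 : (V ⊓ Pt).Normal := by
    rw [← normalizer_eq_top_iff]
    have a1 : Pt ≤ normalizer ((V ⊓ Pt : Subgroup G) : Set G) := by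
      intro g hg
      rw [mem_normalizer_iff]
      intro x
      refine ⟨fun hx => ⟨hVn.conj_mem x hx.1 g, Pt.mul_mem (Pt.mul_mem hg hx.2) (Pt.inv_mem hg)⟩, fun hx => ?_⟩
      have e : x = g⁻¹ * (g * x * g⁻¹) * g⁻¹⁻¹ := by group
      rw [e]
      exact ⟨hVn.conj_mem _ hx.1 g⁻¹, Pt.mul_mem (Pt.mul_mem (Pt.inv_mem hg) hx.2) (Pt.inv_mem (Pt.inv_mem hg))⟩
    have a0 : ∀ g ∈ V, ∀ x ∈ V ⊓ Pt, g * x * g⁻¹ ∈ V ⊓ Pt := by
      intro g hg x hx
      refine ⟨hVn.conj_mem x hx.1 g, ?_⟩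
      have e : g * x * g⁻¹ = ⁅g, x⁆ * x := by rw [commutatorElement_def]; group
      rw [e]
      exact mul_mem (normalCore_le Pt (hVV (commutator_mem_commutator hg hx.1))) hx.2
    have a2 : V ≤ normalizer ((V ⊓ Pt : Subgroup G) : Set G) := by
      intro g hg
      rw [mem_normalizer_iff]
      intro x
      refine ⟨a0 g hg x, fun hx => ?_⟩
      have e : x = g⁻¹ * (g * x * g⁻¹) * g⁻¹⁻¹ := by group
      rw [e]
      exact a0 _ (inv_mem hg) _ hx
    refine top_le_of (P := P) (le_trans le_sup_left a1) fun s hs => ?_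
    by_cases hst : s = t
    · subst hst
      exact (sup_le a2 (le_trans le_sup_left a1) : V ⊔ P.B ≤ _) htV
    · exact a1 (mem_sup_right (subset_closure ⟨hs, hst⟩))
  exact normal_le_normalCore.2 inf_le_right

omit D in
/-- the node is isolated -/
theorem iso_of {t : G} (ht : t ∈ P.S) {V C : Subgroup G} [V.Normal] [C.Normal]
    (hC : C ≤ P.parabolic (P.S \ {t})) (htV : t ∈ V ⊔ P.B) (hVC : V ⊓ P.parabolic (P.S \ {t}) ≤ C) : Iso P t := by
  intro s hs hst
  have htP : t ∉ P.parabolic (P.S \ {t}) := fun h =>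
    ((BNPairCore.mem_parabolic_gen_iff Set.sdiff_subset ht).1 h).2 rfl
  by_cases hsV : s ∈ V ⊔ P.B
  · obtain ⟨v, hv, b, hb, e⟩ := mem_sup_of_normal_left.1 hsV
    have h1 : v ∈ C := by
      refine hVC ⟨hv, ?_⟩
      have e2 : v = s * b⁻¹ := by rw [← e]; group
      rw [e2]
      exact Subgroup.mul_mem _ (mem_sup_right (subset_closure ⟨hs, hst⟩)) (Subgroup.inv_mem _ (mem_sup_left hb))
    refine S0319.commute_of_normal P C Set.inter_subset_left (BNPairCore.eq_parabolic le_sup_right) ⟨hs, ?_⟩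
      ⟨ht, fun h => htP ?_⟩
    · rw [← e]
      exact mul_mem (mem_sup_left h1) (mem_sup_right hb)
    · exact (sup_le hC le_sup_left : C ⊔ P.B ≤ _) h.2
  · have h1 := S0319.commute_of_normal P V Set.inter_subset_left (BNPairCore.eq_parabolic le_sup_right)
      (s := t) (s' := s) ⟨ht, htV⟩ ⟨hs, fun h => hsV h.2⟩
    have e : s * t * s⁻¹ * t⁻¹ = (t * s * t⁻¹ * s⁻¹)⁻¹ := by group
    rw [e]
    exact inv_mem h1

/-- `X t` acts freely on `V / C` -/
theorem free_V [Finite G] {t : G} (ht : t ∈ P.S) (hi : Iso P t) {V C : Subgroup G} [C.Normal]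
    (hC : C ≤ P.parabolic (P.S \ {t})) (hVC : V ⊓ P.parabolic (P.S \ {t}) ≤ C) {a v : G} (ha : a ∈ X t) (hv : v ∈ V)
    (hvC : v ∉ C) (h : v⁻¹ * (a * v * a⁻¹) ∈ C) : a = 1 := by
  have hL := D.normal ht hi
  set Pt := P.parabolic (P.S \ {t}) with hPt
  have hBP : P.B ≤ Pt := le_sup_left
  have htop : LL X t ⊔ Pt = ⊤ := by
    refine top_le_of (P := P) (hBP.trans le_sup_right) fun s hs => ?_
    by_cases hst : s = t
    · subst hst
      exact sup_le_sup_left hBP _ (D.mem_sup hs hi)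
    · exact mem_sup_right (mem_sup_right (subset_closure ⟨hs, hst⟩))
  have h1 : v ∈ LL X t ⊔ Pt := by rw [htop]; exact mem_top v
  obtain ⟨l, hl, g, hg, e⟩ := mem_sup_of_normal_left.1 h1
  have hvP : v ∉ Pt := fun h2 => hvC (hVC ⟨hv, h2⟩)
  rcases mem_min ht (D.LL_le_min ht hl) with h2 | ⟨b, hb, b', hb', rfl⟩
  · exact absurd (e ▸ mul_mem (hBP h2) hg) hvP
  obtain ⟨u, hu, k, hk, rfl⟩ := D.B_eq b hb
  obtain ⟨w, hw, x, hx, rfl, hwc⟩ := D.dec t ht hi u hu
  obtain ⟨l', hl', b₀, hb₀, et⟩ := mem_sup_of_normal_left.1 (D.mem_sup ht hi)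
  have h3 : t⁻¹ * w * t ∈ P.B := by
    have c1 := mem_centralizer_iff.1 hwc l' hl'
    have e1 : t⁻¹ * w * t = b₀⁻¹ * (l'⁻¹ * (w * l')) * b₀ := by rw [← et]; group
    rw [e1, ← c1, inv_mul_cancel_left]
    exact mul_mem (mul_mem (inv_mem hb₀) (D.U_le hw)) hb₀
  have c2 : x * w = w * x := mem_centralizer_iff.1 hwc x (mem_sup_left hx : x ∈ LL X t)
  set g' := (t⁻¹ * w * t) * (t⁻¹ * k * t) * b' * g with hg'
  have hg'P : g' ∈ Pt := mul_mem (mul_mem (mul_mem (hBP h3) (hBP (D.H_le (D.sH t ht k hk)))) (hBP hb')) hg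
  have ev : v = x * t * g' := by rw [← e, ← c2, hg']; group
  have h4 : t⁻¹ * (x⁻¹ * a * x) * t ∈ Pt := by
    have e1 : t⁻¹ * (x⁻¹ * a * x) * t = g' * (v⁻¹ * (a * v * a⁻¹)) * a * g'⁻¹ := by rw [ev]; group
    rw [e1]
    exact mul_mem (mul_mem (mul_mem hg'P (hC h)) (hBP (D.X_le_B ht ha))) (inv_mem hg'P)
  have hy : x⁻¹ * a * x ∈ X t := mul_mem (mul_mem (inv_mem hx) ha) hx
  have h5 : t⁻¹ * (x⁻¹ * a * x) * t ∈ P.parabolic {t} := by
    have a1 : t ∈ P.parabolic {t} := mem_sup_right (_root_.Subgroup.subset_closure rfl)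
    exact mul_mem (mul_mem (inv_mem a1) (mem_sup_left (D.X_le_B ht hy))) a1
  have h6 : t⁻¹ * (x⁻¹ * a * x) * t ∈ P.B := by
    rw [← parabolic_inf P (J := {t}) (K := P.S \ {t}) (Set.singleton_subset_iff.2 ht) Set.sdiff_subset
      (Set.inter_sdiff_self _ _)]
    exact ⟨h5, h4⟩
  have h7 := D.free t ht _ (D.HX t ht _ (inv_mem (D.sq t ht)) _ hy) (by
    have e1 : t * ((t * t)⁻¹ * (x⁻¹ * a * x) * (t * t)⁻¹⁻¹) * t⁻¹ = t⁻¹ * (x⁻¹ * a * x) * t := by group
    rw [e1]; exact h6)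
  rw [conj_eq_one_iff] at h7
  have e2 : a = x * (x⁻¹ * a * x) * x⁻¹ := by group
  rw [e2, h7]; group

/-- **The rank one groups outside `G^∞ B`.** -/
theorem rank_one [Finite G] [Fact p.Prime] {t : G} (ht : t ∈ P.S) {N : ℕ} (hN : t ∉ derivedSeries G N ⊔ P.B) :
    Iso P t ∧ dS (LL X t) 4 = ⊥ := by
  obtain ⟨V, C, hVn, hCn, hCV, hC, hVV, htV, hV, hVC⟩ := exists_V ht hN
  have hi := iso_of ht hC htV hVC
  refine ⟨hi, ?_⟩
  have hL := D.normal ht hi
  have h1 : dS (X t) 2 = ⊥ := by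
    refine dS_two_of_cyclic (p := p) (D.pU.to_le (D.le t ht)) fun A hA hAc => ?_
    by_contra hcyc
    obtain ⟨a, ha, ha1, _, ⟨v, hv, rfl⟩, hv1, e⟩ := H456.exists_fixed_of_not_cyclic
      (MulAut.conj.comp (QuotientGroup.mk' C)) (V.map (QuotientGroup.mk' C)) (by
        rintro _ ⟨a, ha, rfl⟩ _ ⟨b, hb, rfl⟩
        rw [← commutatorElement_eq_one_iff_mul_comm, ← map_commutatorElement]
        exact (QuotientGroup.eq_one_iff _).2 (hVV (commutator_mem_commutator ha hb)))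
      (by rwa [Ne, Subgroup.map_eq_bot_iff, QuotientGroup.ker_mk']) A hAc hcyc (by
        rintro a - _ ⟨v, hv, rfl⟩
        exact ⟨a * v * a⁻¹, hVn.conj_mem v hv a, rfl⟩)
    refine ha1 (D.free_V ht hi hC hVC (hA ha) hv (fun h => hv1 ((QuotientGroup.eq_one_iff _).2 h)) ?_)
    rw [← QuotientGroup.eq]
    exact e.symm
  have h2 : LL X t ≤ V ⊔ X t := by
    refine LL_le le_sup_right fun x hx => ?_
    obtain ⟨v, hv, b, hb, e⟩ := mem_sup_of_normal_left.1 htV
    have e1 : t * x * t⁻¹ = v * (b * x * b⁻¹) * v⁻¹ := by rw [← e]; group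
    rw [e1]
    exact mul_mem (mul_mem (mem_sup_left hv) (mem_sup_right (D.conj_X ht hi hb hx))) (inv_mem (mem_sup_left hv))
  have h3 : dS (LL X t) 2 ≤ V := by
    refine (dS_mono h2 2).trans ((dS_sup_normal V (X t) 2).trans ?_)
    rw [h1, sup_bot_eq]
  have h4 : dS (LL X t) 3 ≤ C ⊓ LL X t := le_inf ((commutator_mono h3 h3).trans hVV) (dS_le _ _)
  have h5 : C ⊓ LL X t ≤ P.B := by
    rw [← parabolic_inf P (J := {t}) (K := P.S \ {t}) (Set.singleton_subset_iff.2 ht) Set.sdiff_subset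
      (Set.inter_sdiff_self _ _)]
    exact le_inf (inf_le_right.trans (D.LL_le_min ht)) (inf_le_left.trans hC)
  have h6 : LL X t ≤ normalClosure (U : Set G) :=
    LL_le (fun x hx => subset_normalClosure (D.le t ht hx)) fun x hx =>
      normalClosure_normal.conj_mem _ (subset_normalClosure (D.le t ht hx)) t
  rw [eq_bot_iff, ← D.toDat.commutator_eq_bot (V := C ⊓ LL X t) h5]
  exact commutator_mono h4 ((dS_le _ _).trans h6)

/-- the commutator subgroup lies in every normal subgroup containing `U` -/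
theorem commutator_le (K : Subgroup G) [K.Normal] (hK : U ≤ K) : dS (⊤ : Subgroup G) 1 ≤ K := by
  have hB : P.B ≤ K ⊔ H := fun b hb => by
    obtain ⟨u, hu, h, hh, rfl⟩ := D.B_eq b hb
    exact mul_mem (mem_sup_left (hK hu)) (mem_sup_right hh)
  have h1 : K ⊔ H = ⊤ := top_le_of (P := P) hB fun s hs =>
    (sup_le ((normalClosure_le_normal (fun x hx => hK (D.le s hs hx))).trans le_sup_left) hB :
      normalClosure (X s : Set G) ⊔ P.B ≤ K ⊔ H) (D.gen s hs)
  rw [← h1]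
  refine (dS_sup_normal K H 1).trans ?_
  rw [dS_one_eq_bot D.Hc, sup_bot_eq]

/-- **The derived series of `G`.** -/
theorem ps [Finite G] [Fact p.Prime] {d : ℕ} (hd : 4 ≤ d) (hU : dS U d = ⊥) : PS (d + 1) G := by
  classical
  obtain ⟨N, hN⟩ := Gen.exists_ps G
  set R := derivedSeries G N with hR
  have key : ∀ F : Finset G, (∀ t ∈ F, t ∈ P.S ∧ t ∉ R ⊔ P.B) → (F.sup (LL X)).Normal ∧ dS (F.sup (LL X)) 4 = ⊥ ∧
      ∀ u ∈ U, ∃ v ∈ U, v ∈ centralizer ((F.sup (LL X) : Subgroup G) : Set G) ∧ ∃ n ∈ F.sup (LL X), u = v * n := by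
    intro F
    induction F using Finset.induction_on with
    | empty =>
      intro _
      rw [Finset.sup_empty]
      refine ⟨inferInstance, le_bot_iff.1 (dS_le _ _), fun u hu => ⟨u, hu, ?_, 1, one_mem _, (mul_one u).symm⟩⟩
      rw [mem_centralizer_iff]
      intro x hx
      rw [SetLike.mem_coe, mem_bot] at hx
      rw [hx, one_mul, mul_one]
    | insert t F htF ih =>
      intro hF
      obtain ⟨ih1, ih2, ih3⟩ := ih fun s hs => hF s (Finset.mem_insert_of_mem hs)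
      obtain ⟨ht, htR⟩ := hF t (Finset.mem_insert_self t F)
      obtain ⟨hi, h4⟩ := D.rank_one ht htR
      have hL := D.normal ht hi
      have hX : X t ≤ centralizer ((F.sup (LL X) : Subgroup G) : Set G) := by
        rw [le_centralizer_iff]
        refine Finset.sup_le fun s hs => ?_
        obtain ⟨hs1, hs2⟩ := hF s (Finset.mem_insert_of_mem hs)
        rw [le_centralizer_iff]
        exact D.cen s hs1 (D.rank_one hs1 hs2).1 t ht (fun e => htF (e ▸ hs))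
      have hc : LL X t ≤ centralizer ((F.sup (LL X) : Subgroup G) : Set G) :=
        LL_le hX fun x hx => (inferInstance : (centralizer ((F.sup (LL X) : Subgroup G) : Set G)).Normal).conj_mem
          _ (hX hx) t
      rw [Finset.sup_insert]
      refine ⟨inferInstance, ?_, fun u hu => ?_⟩
      · rw [eq_bot_iff]
        refine (dS_sup_of_comm hc 4).trans ?_
        rw [h4, ih2, sup_bot_eq]
      · obtain ⟨v, hv, hvc, n, hn, rfl⟩ := ih3 u hu
        obtain ⟨w, hw, x, hx, rfl, hwc⟩ := D.dec t ht hi v hv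
        refine ⟨w, hw, ?_, x * n, mul_mem (mem_sup_left (mem_sup_left hx)) (mem_sup_right hn), mul_assoc _ _ _⟩
        have h5 : w ∈ centralizer ((F.sup (LL X) : Subgroup G) : Set G) := by
          have := mul_mem hvc (inv_mem (hX hx))
          rwa [mul_inv_cancel_right] at this
        have h6 : LL X t ⊔ F.sup (LL X) ≤ centralizer ({w} : Set G) := by
          refine sup_le (fun y hy => ?_) fun y hy => ?_
          · exact mem_centralizer_singleton_iff.2 (mem_centralizer_iff.1 hwc y hy)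
          · exact mem_centralizer_singleton_iff.2 (mem_centralizer_iff.1 h5 y hy)
        rw [mem_centralizer_iff]
        exact fun y hy => mem_centralizer_singleton_iff.1 (h6 hy)
  obtain ⟨hn, h4, hdec⟩ := key (Set.toFinite {t | t ∈ P.S ∧ t ∉ R ⊔ P.B}).toFinset
    fun t ht => by simpa only [Set.Finite.mem_toFinset, Set.mem_ofPred_eq] using ht
  set N0 := (Set.toFinite {t | t ∈ P.S ∧ t ∉ R ⊔ P.B}).toFinset.sup (LL X) with hN0
  set Q := centralizer (N0 : Set G) with hQ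
  have hQn : Q.Normal := inferInstance
  have htop : N0 ⊔ (R ⊔ P.B) = ⊤ := by
    refine top_le_of (P := P) (le_sup_right.trans le_sup_right) fun s hs => ?_
    by_cases h : s ∈ R ⊔ P.B
    · exact mem_sup_right h
    · have h1 : LL X s ≤ N0 := Finset.le_sup (f := LL X) ((Set.Finite.mem_toFinset _).2 ⟨hs, h⟩)
      exact sup_le_sup h1 le_sup_right (D.mem_sup hs (D.rank_one hs h).1)
  set K1 := normalClosure ((U ⊓ Q : Subgroup G) : Set G) with hK1
  have hK1Q : K1 ≤ Q := normalClosure_le_normal fun x hx => hx.2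
  have hK1R : K1 ≤ R ⊔ U := by
    rw [hK1]
    unfold normalClosure
    rw [closure_le]
    intro y hy
    rw [Group.mem_conjugatesOfSet_iff] at hy
    obtain ⟨u, hu, huy⟩ := hy
    obtain ⟨g, rfl⟩ := isConj_iff.1 huy
    have hg : g ∈ N0 ⊔ (R ⊔ P.B) := by rw [htop]; exact mem_top g
    obtain ⟨n, hn0, q, hq, rfl⟩ := mem_sup_of_normal_left.1 hg
    obtain ⟨r, hr, b, hb, rfl⟩ := mem_sup_of_normal_left.1 hq
    have c1 := mem_centralizer_iff.1 (hQn.conj_mem u hu.2 (r * b)) n hn0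
    have e : n * (r * b) * u * (n * (r * b))⁻¹ = n * (r * b * u * (r * b)⁻¹) * n⁻¹ := by group
    rw [SetLike.mem_coe, e, c1, mul_inv_cancel_right]
    have e2 : r * b * u * (r * b)⁻¹ = r * (b * u * b⁻¹) * r⁻¹ := by group
    rw [e2]
    exact mul_mem (mul_mem (mem_sup_left hr) (mem_sup_right (D.norm b hb u hu.1))) (inv_mem (mem_sup_left hr))
  have hUK : U ≤ K1 ⊔ N0 := by
    intro u hu
    obtain ⟨v, hv, hvc, n, hn0, rfl⟩ := hdec u hu
    exact mul_mem (mem_sup_left (subset_normalClosure (show v ∈ U ⊓ Q from ⟨hv, hvc⟩))) (mem_sup_right hn0)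
  have h1 := D.commutator_le (K1 ⊔ N0) hUK
  have h2 : dS (K1 ⊔ N0) d ≤ R := by
    refine (dS_sup_of_comm hK1Q d).trans (sup_le ?_ ?_)
    · refine (dS_mono hK1R d).trans ((dS_sup_normal R U d).trans ?_)
      rw [hU, sup_bot_eq]
    · exact (dS_anti _ hd).trans (h4.le.trans bot_le)
  rw [← ps_top]
  refine ps_of_perf (Q := R) ?_ ?_ le_top
  · rw [hR, ← derivedSeries_succ, hN]
  · rw [add_comm, ← dS_add]
    exact (dS_mono h1 d).trans h2

end SBN

end Cfsg.Agent.DS.Ex.BN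
end

-- part: DS/Ex/RelPS
section
/-!
# The derived series of a finite group with relative root data (helper60)

`D : Rel R S G ι`, `T` commutative, an element of the relative Weyl group maps `S⁺` to `S⁻`.

* `sbn` : the data `BN.SBN`;
* `ps` : `PS (d + 1) G` if `⟨X a : a ∈ S⁺⟩` has derived length at most `d`, `4 ≤ d`;
* `commutator_le` : `G' ≤ K` if `K` is normalized by `G` and contains `⟨X a : a ∈ S⁺⟩ ⊓ G`.
-/

set_option autoImplicit false
set_option linter.unusedSectionVars false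

namespace Cfsg.Agent.DS.Ex.RelPS

open CoxeterSystem Cfsg.Agent.ChevalleyStructure.CoxeterGeom Cfsg.Agent.Tits.Roots Cfsg.Agent.Tits.Core
  Cfsg.Agent.Nodes.Reps Cfsg.Agent.Nodes.BNOf Cfsg.Agent.Nodes.Bruhat Cfsg.Agent.Nodes.OppDec
  Cfsg.Agent.Nodes.NormalForm Cfsg.Agent.BpExc.Zc Cfsg.Agent.BpExc.RelBN Cfsg.Agent.BpExc.SubBN
  Cfsg.Agent.BpExc.TitsRed Cfsg.Agent.H85.RelStr Cfsg.Agent.H936 Cfsg.Agent.DS.Cl Cfsg.Agent.DS.Ex.BN
open scoped commutatorElement

variable {I W Y : Type*} [Fintype I] [DecidableEq I] [Group W] [Group Y] {M : CoxeterMatrix I}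
  {cs : CoxeterSystem M W} {A : I → I → ℤ} {h : IsCartan M A} {p : ℕ} {T : Subgroup Y} {n : I → Y}
  {X : (I → ℤ) → Subgroup Y}
  {R : RGD cs h p T n X} {S : Set (I → ℤ)} {G : Subgroup Y} {ι : Type*} (D : _root_.Cfsg.Agent.BpExc.RelBN.Rel R S G ι) [Finite W]

theorem neg_cl {i : ι} {a : I → ℤ} (ha : a ∈ clN S (D.f i)) : -a ∈ cl S (D.f i) :=
  ⟨D.neg a ha.1, neg_nonneg.2 ha.2.1, by rw [map_neg, ha.2.2, neg_zero]⟩

theorem neg_clN {i : ι} {a : I → ℤ} (ha : a ∈ cl S (D.f i)) : -a ∈ clN S (D.f i) :=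
  ⟨D.neg a ha.1, neg_nonpos.2 ha.2.1, by rw [map_neg, ha.2.2, neg_zero]⟩

theorem LL_eq (i : ι) : LL (BpExc.FixGood.Xs D) (D.kk i) =
    (RGD.Sup X (cl S (D.f i))).subgroupOf G ⊔ (RGD.Sup X (clN S (D.f i))).subgroupOf G := by
  unfold LL
  rw [BpExc.FixGood.Xs_kk]
  congr 1
  apply le_antisymm
  · rintro _ ⟨x, hx, rfl⟩
    exact conj_mem_Sup R (D.rp i) (S := cl S (D.f i)) (S' := clN S (D.f i)) (fun a ha => D.root a ha.1)
      (fun a ha => D.w_cl i ha) hx
  · intro y hy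
    refine ⟨(D.kk i)⁻¹ * y * D.kk i, ?_, ?_⟩
    · refine conj_mem_Sup' R (D.rp i) (S := clN S (D.f i)) (S' := cl S (D.f i)) (fun a ha => D.root a ha.1)
        (fun a ha => ?_) hy
      have h1 := neg_cl D (D.w_cl i (neg_cl D ha))
      rwa [map_neg, neg_neg, ← D.w_inv] at h1
    · show D.kk i * ((D.kk i)⁻¹ * y * D.kk i) * (D.kk i)⁻¹ = y
      group

theorem hc_of_iso {i : ι} (hi : Iso D.bn (D.kk i)) :
    ∀ i' ∈ ({i} : Set ι), ∀ j ∉ ({i} : Set ι), D.w i' * D.w j = D.w j * D.w i' := by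
  rintro i' rfl j hj
  have h1 := hi (D.kk j) ⟨j, rfl⟩ (fun e => hj (BpExc.FixGood.kk_injective D e))
  have h2 := R.eq_one_of_mem_B ((((D.rp j).mul (D.rp i')).mul (D.rp j).inv).mul (D.rp i').inv) (D.bn_B_le h1)
  rw [mul_inv_eq_one, mul_inv_eq_iff_eq_mul] at h2
  exact h2.symm

theorem cl_sub_SJ {J : Set ι} {i : ι} (hi : i ∈ J) : cl S (D.f i) ⊆ SJ D J := fun a ha =>
  ⟨ha.1, 1, one_mem _, i, hi, by rw [map_one, Module.End.one_apply]; exact ha⟩

theorem LL_le_SJ (i : ι) {y : ↥G} (hy : y ∈ LL (BpExc.FixGood.Xs D) (D.kk i)) :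
    (y : Y) ∈ RGD.Sup X (SJ D {i}) := by
  rw [LL_eq] at hy
  have h1 : (RGD.Sup X (cl S (D.f i))).subgroupOf G ⊔ (RGD.Sup X (clN S (D.f i))).subgroupOf G ≤
      (RGD.Sup X (SJ D {i})).subgroupOf G := by
    have h2 : cl S (D.f i) ⊆ SJ D {i} := cl_sub_SJ D (J := {i}) (Set.mem_singleton i)
    have h3 : clN S (D.f i) ⊆ SJ D {i} := fun a ha => by
      have h4 := SJ_neg D (h2 (neg_cl D ha))
      rwa [neg_neg] at h4
    exact sup_le (Subgroup.comap_mono (RGD.Sup_mono h2)) (Subgroup.comap_mono (RGD.Sup_mono h3))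
  exact h1 hy

theorem f_eq_zero {i : ι} {a : I → ℤ} (ha : a ∈ SJ D {i}) : D.f i a = 0 := by
  obtain ⟨-, w, hw, i', rfl, h1⟩ := ha
  have h2 : ∀ x, D.f i' (rep cs h w x) = D.f i' x := by
    unfold H85.RelStr.WJ at hw
    clear h1
    induction hw using Subgroup.closure_induction with
    | mem x hx =>
      obtain ⟨j, rfl, rfl⟩ := hx
      exact D.wf _
    | one => intro x; rw [map_one, Module.End.one_apply]
    | mul x y _ _ h1 h2 => intro z; rw [rep_mul_apply, h1, h2]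
    | inv x _ h1 =>
      intro z
      have h2 := h1 (rep cs h x⁻¹ z)
      rw [rep_apply_inv] at h2
      exact h2.symm
  rw [← h2]
  exact h1.2.2

variable [Finite ↥G] [Fact p.Prime] (hZ : CommZ cs h X) (hS : ZClosed cs h S)
  (hT : ∀ a ∈ T, ∀ b ∈ T, a * b = b * a)
  (hopp : ∃ v ∈ WR D, ∃ g ∈ G, Rp cs R.nsys v g ∧ ∀ a ∈ Sp S, rep cs h v a ≤ 0)

include hZ hS hT hopp

/-- **The split (B, N)-pair.** -/
theorem sbn : SBN D.bn p ((RGD.Sup X (Sp S)).subgroupOf G) (T.subgroupOf G) (BpExc.FixGood.Xs D) where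
  toDat := by
    obtain ⟨v, -, g, hg, h1, h2⟩ := hopp
    exact BpExc.FixGood.dat D hZ hS (Group.isSolvable_of_comm fun a b => Subtype.ext (hT a a.2 b b.2))
      ⟨v, g, h1, hg, h2⟩
  pU := (R.isPGroup_of_pos (S := Sp S) fun a ha => ⟨D.root a ha.1, ha.2⟩).comap_subtype
  H_le := le_sup_right
  B_eq := by
    intro b hb
    obtain ⟨u, hu, huG, t, ht, htG, e⟩ := D.mem_bn_B.1 hb
    exact ⟨⟨u, huG⟩, hu, ⟨t, htG⟩, ht, Subtype.ext e⟩
  Hc := fun a ha b hb => Subtype.ext (hT a ha b hb)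
  HX := by
    rintro _ ⟨i, rfl⟩ t ht x hx
    change x ∈ BpExc.FixGood.Xs D (D.kk i) at hx
    change _ ∈ BpExc.FixGood.Xs D (D.kk i)
    rw [BpExc.FixGood.Xs_kk] at hx ⊢
    exact D.T_norm ht (fun a ha => D.root a ha.1) hx
  sH := by
    rintro _ ⟨i, rfl⟩ t ht
    have h1 := (Subgroup.mem_normalizer_iff.1 (inv_mem (D.rp i).mem_normalizer) (t : Y)).1 ht
    rw [inv_inv] at h1
    exact h1
  sq := by
    rintro _ ⟨i, rfl⟩
    exact D.sq i
  free := by
    rintro _ ⟨i, rfl⟩ x hx hB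
    change x ∈ BpExc.FixGood.Xs D (D.kk i) at hx
    rw [BpExc.FixGood.Xs_kk] at hx
    by_contra h1
    exact D.not_le i hx (fun e => h1 (Subtype.ext e)) (D.bn_B_le hB)
  dec := by
    rintro _ ⟨i, rfl⟩ hi u hu
    have hc := hc_of_iso D hi
    obtain ⟨v0, hv0, -, -, -, hneg⟩ := hopp
    obtain ⟨v, hv, x, hx, hxG, e⟩ := D.dec i u hu u.2
    have hvG : v ∈ G := by
      have : v = (u : Y) * x⁻¹ := by rw [e]; group
      rw [this]
      exact G.mul_mem u.2 (G.inv_mem hxG)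
    refine ⟨⟨v, hvG⟩, RGD.Sup_mono (D.cp_sub i) hv, ⟨x, hxG⟩, ?_, Subtype.ext e, ?_⟩
    · change _ ∈ BpExc.FixGood.Xs D (D.kk i)
      rw [BpExc.FixGood.Xs_kk]
      exact hx
    · rw [Subgroup.mem_centralizer_iff]
      intro y hy
      refine Subtype.ext (commute_Sup D hc hZ hS (LL_le_SJ D i hy) ?_)
      refine RGD.Sup_mono (S := cp S (D.f i)) (S' := SJ D {i}ᶜ) (fun a ha => ?_) hv
      rcases cover D hc ⟨v0, hv0, hneg⟩ ha.1 with h1 | h1
      · exact absurd (f_eq_zero D h1) ha.2.2.ne'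
      · exact h1
  cen := by
    rintro _ ⟨i, rfl⟩ hi _ ⟨j, rfl⟩ hij x hx
    have hc := hc_of_iso D hi
    change x ∈ BpExc.FixGood.Xs D (D.kk j) at hx
    rw [BpExc.FixGood.Xs_kk] at hx
    rw [Subgroup.mem_centralizer_iff]
    intro y hy
    refine Subtype.ext (commute_Sup D hc hZ hS (LL_le_SJ D i hy) ?_)
    exact RGD.Sup_mono (cl_sub_SJ D (J := {i}ᶜ) (fun e => hij (by rw [show j = i from e]))) hx
  nor := by
    rintro _ ⟨i, rfl⟩ hi _ ⟨j, rfl⟩ hij y hy
    have hji : j ∉ ({i} : Set ι) := fun e => hij (by rw [show j = i from e])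
    have hc := hc_of_iso D hi i rfl j hji
    have hij' : i ≠ j := fun e => hji e.symm
    change y ∈ LL (BpExc.FixGood.Xs D) (D.kk i) at hy
    change D.kk j * y * (D.kk j)⁻¹ ∈ LL (BpExc.FixGood.Xs D) (D.kk i)
    rw [LL_eq] at hy ⊢
    have h1 : (RGD.Sup X (cl S (D.f i))).subgroupOf G ⊔ (RGD.Sup X (clN S (D.f i))).subgroupOf G ≤
        ((RGD.Sup X (cl S (D.f i))).subgroupOf G ⊔ (RGD.Sup X (clN S (D.f i))).subgroupOf G).comap
          (MulAut.conj (D.kk j)).toMonoidHom := by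
      refine sup_le (fun x hx => Subgroup.mem_sup_left ?_) fun x hx => Subgroup.mem_sup_right ?_
      · exact conj_mem_Sup R (D.rp j) (S := cl S (D.f i)) (S' := cl S (D.f i)) (fun a ha => D.root a ha.1)
          (fun a ha => BpExc.FixGood.map_wall D hij' hc ha) hx
      · refine conj_mem_Sup R (D.rp j) (S := clN S (D.f i)) (S' := clN S (D.f i)) (fun a ha => D.root a ha.1)
          (fun a ha => ?_) hx
        have h2 := neg_clN D (BpExc.FixGood.map_wall D hij' hc (neg_cl D ha))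
        rwa [map_neg, neg_neg] at h2
    exact h1 hy

/-- **The derived series of `G`.** -/
theorem ps {d : ℕ} (hd : 4 ≤ d) (hU : dS (RGD.Sup X (Sp S)) d = ⊥) : PS (d + 1) G := by
  refine (sbn D hZ hS hT hopp).ps hd ?_
  rw [← Subgroup.map_eq_bot_iff_of_injective _ G.subtype_injective, dS_map, eq_bot_iff, ← hU]
  refine dS_mono ?_ d
  rintro _ ⟨x, hx, rfl⟩
  exact hx

/-- **The commutator subgroup of `G`.** -/
theorem commutator_le {K : Subgroup Y} (hK : ∀ g ∈ G, ∀ x ∈ K, g * x * g⁻¹ ∈ K)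
    (hU : ∀ u ∈ RGD.Sup X (Sp S), u ∈ G → u ∈ K) : dS G 1 ≤ K := by
  have hn : (K.subgroupOf G).Normal := ⟨fun x hx g => hK g g.2 x hx⟩
  have h1 := (sbn D hZ hS hT hopp).commutator_le (K.subgroupOf G) (fun u hu => hU u hu u.2)
  have h2 := Subgroup.map_mono (f := G.subtype) h1
  rw [dS_map, ← MonoidHom.range_eq_map, Subgroup.range_subtype] at h2
  refine h2.trans ?_
  rintro _ ⟨x, hx, rfl⟩
  exact hx

end Cfsg.Agent.DS.Ex.RelPS
end

-- part: DS/Ex/TorFix
section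
/-!
# S5881, toral case: the fixed points of `σ` in `M(S) T` (helper60)

`σ` a Frobenius automorphism with `FR σ g`, `Pres S g`.

* `level` : the relative root data of `DD ⊓ C(σ)`;
* `fix_main` : `PS (d + 1) (DD ⊓ C(σ))` if `0 < f < 2 ^ d` on the positive roots of `S`, `4 ≤ d`;
  the commutator subgroup lies in every normalized group containing the `p`-elements;
  there is a non-trivial `p`-element of `M(S)` fixed by `σ`.
-/

set_option autoImplicit false
set_option linter.unusedSectionVars false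

namespace Cfsg.Agent.DS.Ex.Tor

open CoxeterSystem Cfsg Cfsg.Lie Cfsg.Lie.ChevalleyDatum
open Cfsg.Agent.ChevalleyStructure Cfsg.Agent.ChevalleyStructure.Elts Cfsg.Agent.ChevalleyStructure.CoxeterGeom
  Cfsg.Agent.ChevalleyStructure.CoxeterGeomTypes
open Cfsg.Agent.Tits.Roots Cfsg.Agent.Tits.Core Cfsg.Agent.Nodes Cfsg.Agent.Nodes.Reps Cfsg.Agent.Nodes.BNOf
  Cfsg.Agent.Nodes.RGDChev Cfsg.Agent.Nodes.Bruhat Cfsg.Agent.Nodes.NormalForm
open Cfsg.Agent.KFacts.RgdField Cfsg.Agent.KFacts.RgdChevCoord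
open Cfsg.Agent.BpExc Cfsg.Agent.BpExc.TorCent Cfsg.Agent.BpExc.TorChev Cfsg.Agent.BpExc.Tow
  Cfsg.Agent.BpExc.TowChev Cfsg.Agent.BpExc.Fr Cfsg.Agent.BpExc.LangFr Cfsg.Agent.BpExc.Zc Cfsg.Agent.BpExc.RelBN
  Cfsg.Agent.BpExc.SubBN Cfsg.Agent.GpExc.Field
open Cfsg.Agent.H469.Exc Cfsg.Agent.DS.Nt Cfsg.Agent.DS.Cl Cfsg.Agent.H936
open scoped commutatorElement

variable {D : ChevalleyDatum} {l : ℕ} {M : CoxeterMatrix (Fin l)} {hp : IsType D l M} {p : ℕ} [Fact p.Prime]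
  {S : Set (Fin l → ℤ)}

theorem dS_MS (hS : ZClosed M.toCoxeterSystem hp.isCartan S) {d : ℕ} {f : (Fin l → ℤ) →+ ℤ}
    (hf : ∀ a ∈ Sp S, 0 < f a ∧ f a < 2 ^ d) : dS (MS D p (Sp S)) d = ⊥ := by
  have h1 := H71.Dl.derived_le (X := XX D l (KK p)) (fun k => {a | a ∈ Sp S ∧ 2 ^ k ≤ f a})
    (fun k a ha => ⟨ha.1, le_trans (pow_le_pow_right₀ one_le_two (Nat.le_succ k)) ha.2⟩) (by
      intro k x hx y hy a ha b hb
      by_cases hxy : x = y
      · subst hxy
        rw [commutatorElement_eq_one_iff_mul_comm.2 (X_comm (hp := hp) (hS.root x hx.1.1) ha hb)]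
        exact one_mem _
      · have h2 := commZ hp p x y (hS.root x hx.1.1) (hS.root y hy.1.1) hxy (fun e => by
          have h3 := (hf x hx.1).1
          have h4 := (hf y hy.1).1
          rw [e, map_neg] at h3
          omega) a ha b hb
        refine RGD.Sup_mono (S := {z | ZB M.toCoxeterSystem hp.isCartan x y z})
          (S' := {a | a ∈ Sp S ∧ 2 ^ (k + 1) ≤ f a}) (fun z hz => ⟨hS.nn.btw x hx.1 y hy.1 z hz, ?_⟩) h2
        obtain ⟨u, v, hu, hv, e⟩ := ZB.map hz f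
        have h3 := hx.2
        have h4 := hy.2
        have h5 : (0 : ℤ) < 2 ^ k := by positivity
        rw [e, pow_succ]
        nlinarith only [hu, hv, h3, h4, h5])
    (U := MS D p (Sp S)) (RGD.Sup_mono (S := Sp S) (S' := {a | a ∈ Sp S ∧ 2 ^ 0 ≤ f a})
      fun a ha => ⟨ha, by rw [pow_zero]; exact (hf a ha).1⟩) d
  rw [Cl.map_derivedSeries_eq] at h1
  rw [eq_bot_iff]
  refine h1.trans (iSup_le fun a => ?_)
  exact absurd a.2.2 (not_le.2 (hf a a.2.1).2)

variable {e : ℕ} {σ : MulAut (YY D p)} {g : (Fin l → ℤ) ≃+ (Fin l → ℤ)}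

/-- **The frame at a finite level.** -/
theorem level (hS : CS hp S) (he : 0 < e) (hσ : IsFrob p e σ) (F : FR hp p σ g) (P : Pres S g)
    [Finite ↥(fixedSubgroup σ)] : ∃ E : Lev (KK p), FixRel.Fr ((tw hp p).rgd E) S σ g ∧
      (∀ a ∈ S, ∃ y ∈ Xj hp E a, y ≠ 1 ∧ ∀ m, (⇑g)^[m] a = a → (σ ^ m) y = y) ∧
      FixRel.Gf (Tj hp E) (Xj hp E) S σ = DD D p S ⊓ fixedSubgroup σ := by
  have := finW hp
  have hk := locFin p
  have H := tw hp p
  have hTL := TLe hp p
  have hXL := XLe hp p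
  have hfin : Finite ↥(DD D p S ⊓ fixedSubgroup σ) :=
    Finite.of_injective (Subgroup.inclusion (inf_le_right : DD D p S ⊓ fixedSubgroup σ ≤ fixedSubgroup σ))
      (Subgroup.inclusion_injective _)
  obtain ⟨E1, hE1⟩ := HX.fr_level hp M.toCoxeterSystem hk hσ F
  obtain ⟨E2, hE2⟩ := HX.exists_fixed_level hp M.toCoxeterSystem hk he hσ F
  obtain ⟨E3, hE3⟩ := EndInst.exists_level_GS hp M.toCoxeterSystem hk p S (Q := DD D p S ⊓ fixedSubgroup σ) inf_le_left
  obtain ⟨E4, a1, a2⟩ := dir_lev hk E1 E2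
  obtain ⟨E, b1, b2⟩ := dir_lev hk E4 E3
  have FE := hE1 E (a1.trans b1)
  refine ⟨E, ?_, fun a ha => hE2 E (a2.trans b1) a (hS.root a ha), ?_⟩
  · exact
    { tor := fun s hs => (FE.tor s).2 hs
      root := fun a ha => (FE.root a).2 ha
      map := fun a ha u hu => (FE.map a ha u).2 hu
      rp := fun w kk hkk => by
        have hkk' : RP hp p w kk := H.rp_up hkk
        obtain ⟨w', hw'⟩ := rp_of_norm (hp := hp) (d := σ kk) fun s => by
          obtain ⟨s', rfl⟩ := σ.surjective s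
          rw [← map_mul, ← map_inv, ← map_mul, F.tor, F.tor]
          exact hkk'.conj_iff s'
        obtain ⟨k0, h0, h0'⟩ := H.exists_rp w'
        have h1 : k0⁻¹ * σ kk ∈ TT D (KK p) := by
          rw [← hTL]
          exact h0'.unique hw'
        have h2 : k0⁻¹ * σ kk ∈ (emb hp.inList E.1.subtype).range := by
          rw [← GGj_eq hp M.toCoxeterSystem]
          refine mul_mem (inv_mem ?_) (NChev.fr_GG FE ?_)
          · exact (mem_GG (H.rgd E)).2 ⟨w', cell_of_rp (h0 E)⟩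
          · exact (mem_GG (H.rgd E)).2 ⟨w, cell_of_rp hkk⟩
        have h3 : k0⁻¹ * σ kk ∈ Tj hp E := (HX.mem_Tj hp M.toCoxeterSystem hk p).2 ⟨h1, h2⟩
        have e : σ kk = k0 * (k0⁻¹ * σ kk) := by group
        exact ⟨w', by rw [e]; exact (h0 E).mul_mem_right h3⟩
      mem := fun a ha => (P.1 a).2 ha
      pos := P.2 }
  · apply le_antisymm
    · rintro y ⟨hy, hyτ⟩
      exact ⟨EndInst.GS_le hp hk _ E hy, hyτ⟩
    · rintro y hy
      exact ⟨hE3 E b2 hy, hy.2⟩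

theorem Sup_level_le (E : Lev (KK p)) (S' : Set (Fin l → ℤ)) : RGD.Sup (Xj hp E) S' ≤ MS D p S' := by
  rw [MS, ← XLe hp p]
  exact Sup_le_SupL E S'

/-- **The fixed points in `M(S) T`.** -/
theorem fix_main (hS : CS hp S) (he : 0 < e) (hσ : IsFrob p e σ) (F : FR hp p σ g) (P : Pres S g)
    [Finite ↥(fixedSubgroup σ)] :
    (∀ (d : ℕ) (f : (Fin l → ℤ) →+ ℤ), 4 ≤ d → (∀ a ∈ Sp S, 0 < f a ∧ f a < 2 ^ d) →
      PS (d + 1) ↥(DD D p S ⊓ fixedSubgroup σ)) ∧
    (∀ K : Subgroup (YY D p), (∀ y ∈ DD D p S ⊓ fixedSubgroup σ, ∀ x ∈ K, y * x * y⁻¹ ∈ K) →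
      (∀ u ∈ MS D p S, σ u = u → (∃ j : ℕ, u ^ p ^ j = 1) → u ∈ K) → dS (DD D p S ⊓ fixedSubgroup σ) 1 ≤ K) ∧
    (S.Nonempty → ∃ u ∈ MS D p S, u ≠ 1 ∧ σ u = u ∧ ∃ j : ℕ, u ^ p ^ j = 1) := by
  have := finW hp
  obtain ⟨E, h1, h2, h3⟩ := level hS he hσ F P
  have hZ := EndInst.commZ hp M.toCoxeterSystem E
  obtain ⟨lam, hlam, hpos⟩ := h1.exists_lam hS.cl
  have hfix := FixEnd.fx h1 hZ hS.cl hS.neg hlam hpos h2
  have hopp := FixRel.exists_opp h1 hZ hS.cl hS.neg hlam hpos hfix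
  set Dr := FixRel.rel h1 hZ hS.cl hS.neg hlam hpos hfix with hDr
  have hfin : Finite ↥(FixRel.Gf (Tj hp E) (Xj hp E) S σ) :=
    Finite.of_injective (Subgroup.inclusion (inf_le_right : FixRel.Gf (Tj hp E) (Xj hp E) S σ ≤ fixedSubgroup σ))
      (Subgroup.inclusion_injective _)
  have hTE : Tj hp E ≤ TT D (KK p) := by rw [← TLe hp p]; exact le_TL E
  have hT : ∀ a ∈ Tj hp E, ∀ b ∈ Tj hp E, a * b = b * a := fun a ha b hb => TT_comm hp a (hTE ha) b (hTE hb)
  have hU : IsPGroup p ↥(RGD.Sup (Xj hp E) (Sp S)) :=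
    ((tw hp p).rgd E).isPGroup_of_pos fun a ha => ⟨hS.root a ha.1, ha.2⟩
  have hel : ∀ u ∈ RGD.Sup (Xj hp E) (Sp S), u ∈ MS D p S ∧ ∃ j : ℕ, u ^ p ^ j = 1 := by
    intro u hu
    obtain ⟨j, hj⟩ := hU ⟨u, hu⟩
    exact ⟨RGD.Sup_mono (S := Sp S) (S' := S) (fun a ha => ha.1) (Sup_level_le E _ hu), j, congrArg Subtype.val hj⟩
  rw [← h3]
  refine ⟨fun d f hd hf => RelPS.ps Dr hZ hS.cl hT hopp hd ?_, fun K hK hu => RelPS.commutator_le Dr hZ hS.cl hT hopp hK
    fun u h4 h5 => hu u (hel u h4).1 h5.2 (hel u h4).2, ?_⟩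
  · rw [eq_bot_iff, ← dS_MS (hp := hp) (p := p) hS.cl hf]
    exact dS_mono (Sup_level_le E _) d
  · rintro ⟨a, ha⟩
    obtain ⟨b, hb⟩ : (Sp S).Nonempty := by
      rcases (hS.root a ha).pos_or_neg with h4 | h4
      · exact ⟨a, ha, h4⟩
      · exact ⟨-a, hS.neg a ha, neg_nonneg.2 h4⟩
    obtain ⟨f, hfI, hf0, ⟨a1, ha1, hfa1⟩, -, hfpar⟩ := exists_expose (P := Sp S)
      (hS.cl.finite.subset fun a ha => ha.1) hlam (neg_mem hlam) hpos ⟨b, hb, by
        rw [AddMonoidHom.neg_apply]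
        exact neg_neg_of_pos (hpos b hb)⟩
    have hw : FixRel.Wall S g lam (cl S f) := ⟨⟨a1, ha1.1, ha1.2, hfa1⟩, f, hfI, hf0, rfl,
      fun a ha b hb g hg => hfpar a ⟨ha.1, ha.2.1⟩ b ⟨hb.1, hb.2.1⟩ ha.2.2 hb.2.2 g hg⟩
    obtain ⟨x, hx, hxG, hx1⟩ := Dr.ne ⟨_, hw⟩
    have h4 := hel x (RGD.Sup_mono (S := cl S (Dr.f ⟨_, hw⟩)) (S' := Sp S) (fun a ha => ⟨ha.1, ha.2.1⟩) hx)
    exact ⟨x, h4.1, hx1, hxG.2, h4.2⟩

end Cfsg.Agent.DS.Ex.Tor
end

-- part: DS/Ex/TorCF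
section
/-!
# S5881, toral case: the boxes `BoxCF` and `BoxCW` (helper52)

`W(F₄)⁽³⁾ ≤ {1, -1}` by three normal subgroups given by words; orders of the Weyl groups.
-/

set_option autoImplicit false
set_option linter.unusedSectionVars false

namespace Cfsg.Agent.DS.Ex.TorCF

open CoxeterSystem Cfsg Cfsg.Lie Cfsg.Lie.ChevalleyDatum
open Cfsg.Agent.ChevalleyStructure Cfsg.Agent.ChevalleyStructure.CoxeterGeom
  Cfsg.Agent.ChevalleyStructure.CoxeterGeomTypes
open Cfsg.Agent.Tits.Roots Cfsg.Agent.Nodes.RGDChev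
open Cfsg.Agent.BpExc.RelBN Cfsg.Agent.H936 Cfsg.Agent.DS.Cl
open scoped commutatorElement

section Gen

/-- commutators of generators -/
theorem comm_closure_le {G : Type*} [Group G] {T : Set G} {N : Subgroup G} [N.Normal]
    (h : ∀ s ∈ T, ∀ t ∈ T, s * t * s⁻¹ * t⁻¹ ∈ N) : ⁅Subgroup.closure T, Subgroup.closure T⁆ ≤ N := by
  have key : ∀ x y : G, x * y * x⁻¹ * y⁻¹ ∈ N ↔ Commute (QuotientGroup.mk' N x) (QuotientGroup.mk' N y) := by
    intro x y
    rw [← commutatorElement_eq_one_iff_commute, ← map_commutatorElement, commutatorElement_def]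
    exact (QuotientGroup.eq_one_iff _).symm
  rw [Subgroup.commutator_le]
  intro x hx y hy
  rw [commutatorElement_def, key]
  induction hx using Subgroup.closure_induction with
  | mem s hs =>
    induction hy using Subgroup.closure_induction with
    | mem t ht => exact (key s t).1 (h s hs t ht)
    | one => rw [map_one]; exact Commute.one_right _
    | mul a b _ _ ha hb => rw [map_mul]; exact ha.mul_right hb
    | inv a _ ha => rw [map_inv]; exact ha.inv_right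
  | one => rw [map_one]; exact Commute.one_left _
  | mul a b _ _ ha hb => rw [map_mul]; exact ha.mul_left hb
  | inv a _ ha => rw [map_inv]; exact ha.inv_left

variable {I W : Type*} [Fintype I] [DecidableEq I] [Group W] {M : CoxeterMatrix I}
  (cs : CoxeterSystem M W) {A : I → I → ℤ} (h : IsCartan M A)

/-- the Weyl group as a permutation group of the lattice -/
def psi : W →* Equiv.Perm (I → ℤ) :=
  MonoidHom.mk' (fun w => (BpExc.Fr.repAut cs h w).toEquiv) fun v w => Equiv.ext fun x => rep_mul_apply cs h v w x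

theorem psi_apply (w : W) (x : I → ℤ) : psi cs h w x = rep cs h w x := rfl

theorem psi_injective : Function.Injective (psi cs h) := fun _ _ e =>
  rep_injective cs h (LinearMap.ext fun x => Equiv.congr_fun e x)

theorem le_range {V : Subgroup (Equiv.Perm (I → ℤ))} (hV : InW cs h V) : V ≤ (psi cs h).range := by
  intro v hv
  obtain ⟨w, hw⟩ := hV v hv
  exact ⟨w, Equiv.ext fun x => (hw x).symm⟩

theorem card_dvd {V : Subgroup (Equiv.Perm (I → ℤ))} (hV : InW cs h V) : Nat.card V ∣ Nat.card W := by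
  rw [Nat.card_congr (MonoidHom.ofInjective (psi_injective cs h)).toEquiv]
  exact Subgroup.card_dvd_of_le (le_range cs h hV)

/-- `{1, -1}` -/
def PM : Subgroup W where
  carrier := {w | (∀ x, rep cs h w x = x) ∨ ∀ x, rep cs h w x = -x}
  one_mem' := Or.inl fun x => by rw [map_one, Module.End.one_apply]
  mul_mem' := by
    rintro v w (hv | hv) (hw | hw)
    · exact Or.inl fun x => by rw [rep_mul_apply, hw, hv]
    · exact Or.inr fun x => by rw [rep_mul_apply, hv, hw]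
    · exact Or.inr fun x => by rw [rep_mul_apply, hv, hw]
    · exact Or.inl fun x => by rw [rep_mul_apply, hv, hw, neg_neg]
  inv_mem' := by
    rintro w (hw | hw)
    · exact Or.inl fun x => by rw [← hw (rep cs h w⁻¹ x), rep_apply_inv]
    · exact Or.inr fun x => by
        have h1 := hw (rep cs h w⁻¹ x)
        rw [rep_apply_inv] at h1
        exact (neg_eq_iff_eq_neg.2 h1).symm

theorem pm_normal : (PM cs h).Normal := by
  constructor
  rintro w (hw | hw) v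
  · exact Or.inl fun x => by rw [rep_mul_apply, rep_mul_apply, hw, rep_apply_inv]
  · exact Or.inr fun x => by rw [rep_mul_apply, rep_mul_apply, hw, map_neg, rep_apply_inv]

/-- the subgroup generated by a list of words -/
def Cl (T : List (List I)) : Subgroup W := Subgroup.closure {w | ∃ t ∈ T, w = cs.wordProd t}

/-- substitution of words -/
def expand (T : List (List I)) (c : List ℕ) : List I := c.flatMap fun k => T.getD k []

theorem expand_mem (T : List (List I)) (c : List ℕ) : cs.wordProd (expand T c) ∈ Cl cs T := by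
  induction c with
  | nil => exact one_mem _
  | cons k c ih =>
    rw [expand, List.flatMap_cons, wordProd_append]
    refine mul_mem ?_ ih
    by_cases hk : k < T.length
    · rw [List.getD_eq_getElem _ _ hk]
      exact Subgroup.subset_closure ⟨_, List.getElem_mem hk, rfl⟩
    · rw [List.getD_eq_default _ _ (by omega)]
      exact one_mem _

theorem cl_normal {T : List (List I)} (hT : ∀ i, ∀ t ∈ T, cs.wordProd (i :: (t ++ [i])) ∈ Cl cs T) :
    (Cl cs T).Normal := by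
  have h1 : ∀ i, ∀ n ∈ Cl cs T, cs.simple i * n * (cs.simple i)⁻¹ ∈ Cl cs T := by
    intro i n hn
    induction hn using Subgroup.closure_induction with
    | mem x hx =>
      obtain ⟨t, ht, rfl⟩ := hx
      have := hT i t ht
      rw [wordProd_cons, wordProd_append, wordProd_singleton, ← mul_assoc] at this
      rwa [inv_simple]
    | one => simp
    | mul a b _ _ ha hb =>
      have e : cs.simple i * (a * b) * (cs.simple i)⁻¹ =
        cs.simple i * a * (cs.simple i)⁻¹ * (cs.simple i * b * (cs.simple i)⁻¹) := by group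
      rw [e]; exact mul_mem ha hb
    | inv a _ ha =>
      have e : cs.simple i * a⁻¹ * (cs.simple i)⁻¹ = (cs.simple i * a * (cs.simple i)⁻¹)⁻¹ := by group
      rw [e]; exact inv_mem ha
  constructor
  intro n hn g
  induction g using cs.simple_induction generalizing n with
  | simple i => exact h1 i n hn
  | one => simpa using hn
  | mul a b ha hb =>
    have e : a * b * n * (a * b)⁻¹ = a * (b * n * b⁻¹) * a⁻¹ := by group
    rw [e]; exact ha _ (hb _ hn)

theorem cl_comm {T : List (List I)} {N : Subgroup W} (hN : N.Normal)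
    (hT : ∀ s ∈ T, ∀ t ∈ T, cs.wordProd (s ++ t ++ s.reverse ++ t.reverse) ∈ N) : ⁅Cl cs T, Cl cs T⁆ ≤ N := by
  refine comm_closure_le ?_
  rintro _ ⟨s, hs, rfl⟩ _ ⟨t, ht, rfl⟩
  have := hT s hs t ht
  rwa [wordProd_append, wordProd_append, wordProd_append, wordProd_reverse, wordProd_reverse] at this

end Gen

section F4

/-- coordinates -/
abbrev Z4 := ℤ × ℤ × ℤ × ℤ

/-- the simple reflections of `F₄` -/
def st4 (i : Fin 4) : Z4 → Z4
  | (a, b, c, d) => match i with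
    | 0 => (b - a, b, c, d)
    | 1 => (a, a + 2 * c - b, c, d)
    | 2 => (a, b, b + d - c, d)
    | 3 => (a, b, c, c - d)

/-- as a vector -/
def toV (x : Z4) : Fin 4 → ℤ := ![x.1, x.2.1, x.2.2.1, x.2.2.2]

theorem cartan_F4 : cartanOf chevF4 4 = ![![2, -1, 0, 0], ![-1, 2, -2, 0], ![0, -1, 2, -1], ![0, 0, -1, 2]] := by
  decide +kernel

theorem refl_toV (i : Fin 4) (x : Z4) : CoxeterGeom.refl (cartanOf chevF4 4) i (toV x) = toV (st4 i x) := by
  obtain ⟨a, b, c, d⟩ := x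
  rw [cartan_F4]
  funext j
  (revert i j; simp only [CoxeterGeom.refl, pairing, toV, st4, Fin.sum_univ_four, _root_.Fin.forall_fin_succ, _root_.Nat.succ_eq_add_one, Nat.reduceAdd, Int.reduceNeg, _root_.Matrix.cons_val', _root_.Matrix.cons_val_fin_one, Fin.isValue, _root_.Matrix.cons_val_zero, _root_.Matrix.cons_val_one, _root_.Matrix.cons_val, _root_.LinearMap.coe_mk, _root_.AddHom.coe_mk, _root_.Pi.sub_apply, _root_.Matrix.cons_val_succ, _root_.Fin.succ_zero_eq_one, _root_.Fin.succ_one_eq_two, Fin.reduceSucc, _root_.IsEmpty.forall_iff, _root_.and_true, _root_.neg_mul, _root_.one_mul, _root_.MulZeroClass.zero_mul, _root_.add_zero, _root_.Pi.single_eq_same, _root_.ne_eq, _root_.one_ne_zero, _root_.not_false_eq_true, _root_.Pi.single_eq_of_ne, _root_.sub_zero, Fin.reduceEq, _root_.and_self, _root_.Fin.succ_ne_zero, _root_.Pi.single_eq_of_ne', _root_.true_and, _root_.zero_add]) <;> (repeat' with_reducible apply And.intro)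 <;> ring

/-- evaluation of a word -/
def ev (ω : List (Fin 4)) (x : Z4) : Z4 := ω.foldr st4 x

variable {W : Type*} [Group W] (cs : CoxeterSystem CoxeterMatrix.F₄ W) (h : IsCartan CoxeterMatrix.F₄ (cartanOf chevF4 4))

theorem rep_word (ω : List (Fin 4)) (x : Z4) : rep cs h (cs.wordProd ω) (toV x) = toV (ev ω x) := by
  induction ω with
  | nil => rw [wordProd_nil, map_one, Module.End.one_apply]; rfl
  | cons i ω ih => rw [wordProd_cons, rep_mul_apply, ih, rep_simple, refl_toV]; rfl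

/-- the images of the basis -/
def key (ω : List (Fin 4)) : Z4 × Z4 × Z4 × Z4 :=
  (ev ω (1, 0, 0, 0), ev ω (0, 1, 0, 0), ev ω (0, 0, 1, 0), ev ω (0, 0, 0, 1))

theorem decomp (x : Fin 4 → ℤ) :
    x = x 0 • toV (1, 0, 0, 0) + x 1 • toV (0, 1, 0, 0) + x 2 • toV (0, 0, 1, 0) + x 3 • toV (0, 0, 0, 1) := by
  funext j
  (revert j; simp only [toV, _root_.Fin.forall_fin_succ, Fin.isValue, _root_.Matrix.smul_cons, _root_.Int.zsmul_eq_mul, _root_.mul_one, _root_.MulZeroClass.mul_zero, _root_.Matrix.smul_empty, _root_.Matrix.add_cons, _root_.Matrix.head_cons, _root_.add_zero, _root_.Matrix.tail_cons, _root_.zero_add, _root_.Matrix.empty_add_empty, _root_.Pi.add_apply, _root_.Matrix.cons_val_zero, _root_.Matrix.cons_val_succ, _root_.Fin.succ_zero_eq_one, _root_.Fin.succ_one_eq_two, _root_.Matrix.cons_val_fin_one, Fin.reduceSucc, _root_.IsEmpty.forall_iff, _root_.and_self])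

theorem rep_key (ω : List (Fin 4)) (x : Fin 4 → ℤ) : rep cs h (cs.wordProd ω) x =
    x 0 • toV (key ω).1 + x 1 • toV (key ω).2.1 + x 2 • toV (key ω).2.2.1 + x 3 • toV (key ω).2.2.2 := by
  conv_lhs => rw [decomp x]
  simp only [map_add, map_smul, rep_word]
  rfl

include h in
theorem mem_of_key {T : List (List (Fin 4))} {C : List (List ℕ)} {ω : List (Fin 4)}
    (e : ∃ c ∈ C, key ω = key (expand T c)) : cs.wordProd ω ∈ Cl cs T := by
  obtain ⟨c, -, e⟩ := e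
  have h1 : cs.wordProd ω = cs.wordProd (expand T c) :=
    rep_injective cs h (LinearMap.ext fun x => by rw [rep_key, rep_key, e])
  rw [h1]
  exact expand_mem cs T c

theorem mem_pm {ω : List (Fin 4)}
    (e : key ω = ((1, 0, 0, 0), (0, 1, 0, 0), (0, 0, 1, 0), (0, 0, 0, 1)) ∨
      key ω = ((-1, 0, 0, 0), (0, -1, 0, 0), (0, 0, -1, 0), (0, 0, 0, -1))) : cs.wordProd ω ∈ PM cs h := by
  rcases e with e | e
  · exact Or.inl fun x => by rw [rep_key, e]; exact (decomp x).symm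
  · refine Or.inr fun x => ?_
    rw [rep_key, e]
    funext j
    (revert j; simp only [toV, _root_.Fin.forall_fin_succ, Fin.isValue, Int.reduceNeg, _root_.Matrix.smul_cons, _root_.Int.zsmul_eq_mul, _root_.mul_neg, _root_.mul_one, _root_.MulZeroClass.mul_zero, _root_.Matrix.smul_empty, _root_.Matrix.add_cons, _root_.Matrix.head_cons, _root_.add_zero, _root_.Matrix.tail_cons, _root_.zero_add, _root_.Matrix.empty_add_empty, _root_.Pi.add_apply, _root_.Pi.neg_apply, _root_.Matrix.cons_val_zero, _root_.Matrix.cons_val_succ, _root_.Fin.succ_zero_eq_one, _root_.Fin.succ_one_eq_two, _root_.Matrix.cons_val_fin_one, _root_.neg_inj, Fin.reduceSucc, _root_.IsEmpty.forall_iff, _root_.and_self])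

/-- generators of `W` -/
def T0 : List (List (Fin 4)) := [[0], [1], [2], [3]]
/-- generators of `W'` -/
def T1 : List (List (Fin 4)) := [[0, 1], [2, 3]]
/-- generators of `W''` -/
def T2 : List (List (Fin 4)) := [[1, 2, 1, 2], [0, 1, 2, 1, 0, 2], [1, 3, 2, 1, 2, 3], [0, 1, 3, 2, 1, 0, 2, 3]]
/-- words in `T1` -/
def C1 : List (List ℕ) := [[0, 0], [1], [0, 0, 1, 0], [1, 0, 1, 1], [1, 1], [0], [], [0, 0, 1, 0, 1, 1]]
/-- words in `T2` -/
def C2 : List (List ℕ) := [[1], [0], [3], [2], [0, 1], [2, 3], [0, 2], [1, 3], []]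

set_option synthInstance.maxSize 4096 in
/-- `W(F₄)⁽³⁾ ≤ {1, -1}` -/
theorem dS_three : dS (⊤ : Subgroup W) 3 ≤ PM cs h := by
  have h0 : (⊤ : Subgroup W) ≤ Cl cs T0 := by
    rw [← cs.subgroup_closure_range_simple]
    apply Subgroup.closure_mono
    rintro _ ⟨i, rfl⟩
    exact ⟨[i], by fin_cases i <;> decide, (cs.wordProd_singleton i).symm⟩
  have n1 : ∀ i, ∀ t ∈ T1, ∃ c ∈ C1, key (i :: (t ++ [i])) = key (expand T1 c) := by decide +kernel
  have n2 : ∀ i, ∀ t ∈ T2, ∃ c ∈ C2, key (i :: (t ++ [i])) = key (expand T2 c) := by decide +kernel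
  have c1 : ∀ s ∈ T0, ∀ t ∈ T0, ∃ c ∈ C1, key (s ++ t ++ s.reverse ++ t.reverse) = key (expand T1 c) := by
    decide +kernel
  have c2 : ∀ s ∈ T1, ∀ t ∈ T1, ∃ c ∈ C2, key (s ++ t ++ s.reverse ++ t.reverse) = key (expand T2 c) := by
    decide +kernel
  have c3 : ∀ s ∈ T2, ∀ t ∈ T2,
      key (s ++ t ++ s.reverse ++ t.reverse) = ((1, 0, 0, 0), (0, 1, 0, 0), (0, 0, 1, 0), (0, 0, 0, 1)) ∨
      key (s ++ t ++ s.reverse ++ t.reverse) = ((-1, 0, 0, 0), (0, -1, 0, 0), (0, 0, -1, 0), (0, 0, 0, -1)) := by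
    decide +kernel
  have h1 : dS (⊤ : Subgroup W) 1 ≤ Cl cs T1 := (Subgroup.commutator_mono h0 h0).trans
    (cl_comm cs (cl_normal cs fun i t ht => mem_of_key cs h (n1 i t ht)) fun s hs t ht => mem_of_key cs h (c1 s hs t ht))
  have h2 : dS (⊤ : Subgroup W) 2 ≤ Cl cs T2 := (Subgroup.commutator_mono h1 h1).trans
    (cl_comm cs (cl_normal cs fun i t ht => mem_of_key cs h (n2 i t ht)) fun s hs t ht => mem_of_key cs h (c2 s hs t ht))
  exact (Subgroup.commutator_mono h2 h2).trans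
    (cl_comm cs (pm_normal cs h) fun s hs t ht => mem_pm cs h (c3 s hs t ht))

end F4

theorem type_F4 {l : ℕ} {M : CoxeterMatrix (Fin l)} (hp : IsType chevF4 l M) :
    (⟨l, M⟩ : Σ n : ℕ, CoxeterMatrix (Fin n)) = ⟨4, CoxeterMatrix.F₄⟩ := by
  simp only [IsType, typeList, List.mem_cons, List.not_mem_nil, or_false, Prod.mk.injEq] at hp
  rcases hp with ⟨e, -⟩ | ⟨e, -⟩ | ⟨e, -⟩ | ⟨-, e⟩ | ⟨e, -⟩ | ⟨e, -⟩ | ⟨e, -⟩
  · exact absurd (congrArg ChevalleyDatum.nroots e) (by decide +kernel)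
  · exact absurd (congrArg ChevalleyDatum.nroots e) (by decide +kernel)
  · exact absurd (congrArg ChevalleyDatum.nroots e) (by decide +kernel)
  · exact e
  · exact absurd (congrArg ChevalleyDatum.nroots e) (by decide +kernel)
  · exact absurd (congrArg ChevalleyDatum.nroots e) (by decide +kernel)
  · exact absurd (congrArg ChevalleyDatum.nroots e) (by decide +kernel)

/-- **[CF]** -/
theorem boxCF : BoxCF := by
  intro l M hp
  obtain ⟨rfl, e⟩ := Sigma.mk.inj_iff.1 (type_F4 hp)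
  obtain rfl := eq_of_heq e
  refine ⟨fun a ha => ?_, fun S hS hne V hLA hV => ?_⟩
  · obtain ⟨r, hr, rfl⟩ := (isRoot_iff hp _ a).1 ha
    have key : ∀ r < chevF4.nroots, ht (vec chevF4 4 r) < 16 := by decide +kernel
    exact key r hr
  · obtain ⟨a, haS, ha0⟩ := hne
    apply ps_of_bot
    rw [eq_bot_iff]
    intro v hv
    have h1 : dS V 3 ≤ (dS (⊤ : Subgroup CoxeterMatrix.F₄.Group) 3).map
        (psi CoxeterMatrix.F₄.toCoxeterSystem hp.isCartan) := by
      rw [dS_map, ← MonoidHom.range_eq_map]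
      exact dS_mono (le_range _ _ hV) 3
    obtain ⟨w, hw, rfl⟩ := h1 hv
    rcases dS_three _ hp.isCartan hw with h2 | h2
    · exact Subgroup.mem_bot.2 (Equiv.ext h2)
    · exfalso
      obtain ⟨g, hg, -, -, hpos⟩ := hLA _ (dS_le V 3 hv)
      have h3 := hpos a haS ha0
      rw [← hg, psi_apply, h2] at h3
      exact (hS a haS).not_pos_neg ha0 (neg_nonneg.1 h3)

theorem card_W {D : ChevalleyDatum} {l : ℕ} {M : CoxeterMatrix (Fin l)} (hp : IsType D l M) :
    Nat.card M.Group ∣ 696729600 ∧ (l ≠ 8 → Nat.card M.Group ∣ 2903040) := by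
  simp only [IsType, typeList, List.mem_cons, List.not_mem_nil, or_false, Prod.mk.injEq] at hp
  rcases hp with ⟨-, e⟩ | ⟨-, e⟩ | ⟨-, e⟩ | ⟨-, e⟩ | ⟨-, e⟩ | ⟨-, e⟩ | ⟨-, e⟩ <;>
    obtain ⟨rfl, e⟩ := Sigma.mk.inj_iff.1 e <;> obtain rfl := eq_of_heq e
  · rw [S1092.result (⟨2, CoxeterMatrix.G₂⟩, 12) (by simp)]; norm_num
  · rw [S1092.result (⟨2, CoxeterMatrix.B 2⟩, 8) (by simp)]; norm_num
  · rw [S1092.result (⟨4, coxeterD4⟩, 192) (by simp)]; norm_num
  · rw [S1092.result (⟨4, CoxeterMatrix.F₄⟩, 1152) (by simp)]; norm_num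
  · rw [S1093.result (⟨6, CoxeterMatrix.E₆⟩, 51840) (by simp)]; norm_num
  · rw [S1093.result (⟨7, CoxeterMatrix.E₇⟩, 2903040) (by simp)]; norm_num
  · rw [S1093.result (⟨8, CoxeterMatrix.E₈⟩, 696729600) (by simp)]; norm_num

theorem sdOrd_WE7 : SDOrd 2903040 7 := Ord.sdOrd_of (by decide +kernel)

/-- **[CW]** -/
theorem boxCW : BoxCW := by
  intro D l M hp _ V hV
  obtain ⟨h1, h2⟩ := card_W hp
  have h3 := card_dvd _ _ hV
  have _ : Finite V := Nat.finite_of_card_ne_zero fun h0 => by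
    have h4 := h3.trans h1
    rw [h0] at h4
    norm_num at h4
  exact ⟨Ord.ps_of_sdOrd Ord.sdOrd_WE8 V (h3.trans h1), fun hl => Ord.ps_of_sdOrd sdOrd_WE7 V (h3.trans (h2 hl))⟩

end Cfsg.Agent.DS.Ex.TorCF
end

-- part: DS/Ex/TorMain
section
/-!
# S5881, toral case: the main theorem (helper60)

* `exists_fin` : an invariant toral subgroup gives, after conjugation, an invariant finite subgroup `A ≠ 1` of `T`;
* `lang_step` : after conjugation by an element of `M(S)`, `σ` is a frame automorphism preserving the positive roots of `S`;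
* `mem_of_norm_Ps` : the elements of `S` normalizing `M(Ψ)`, `Ψ = Ps A ≠ ∅`, lie in `H`;
* `NF`, `exists_nf` : the normal form;
* `boxTor : BoxTor`.
-/

set_option autoImplicit false
set_option linter.unusedSectionVars false

namespace Cfsg.Agent.DS.Ex.Tor

open CoxeterSystem Cfsg Cfsg.Lie Cfsg.Lie.ChevalleyDatum
open Cfsg.Agent.ChevalleyStructure Cfsg.Agent.ChevalleyStructure.Elts Cfsg.Agent.ChevalleyStructure.CoxeterGeom
  Cfsg.Agent.ChevalleyStructure.CoxeterGeomTypes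
open Cfsg.Agent.Tits.Roots Cfsg.Agent.Tits.Core Cfsg.Agent.Nodes Cfsg.Agent.Nodes.Reps Cfsg.Agent.Nodes.BNOf
  Cfsg.Agent.Nodes.RGDChev Cfsg.Agent.Nodes.Bruhat Cfsg.Agent.Nodes.NormalForm
open Cfsg.Agent.KFacts.RgdField Cfsg.Agent.KFacts.RgdChevCoord
open Cfsg.Agent.BpExc Cfsg.Agent.BpExc.TorCent Cfsg.Agent.BpExc.TorChev Cfsg.Agent.BpExc.Tow
  Cfsg.Agent.BpExc.TowChev Cfsg.Agent.BpExc.Fr Cfsg.Agent.BpExc.LangFr Cfsg.Agent.BpExc.Zc Cfsg.Agent.BpExc.RelBN
  Cfsg.Agent.BpExc.SubBN Cfsg.Agent.GpExc.Field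
open Cfsg.Agent.H469.Exc Cfsg.Agent.H129.TorusChar Cfsg.Agent.DS.Nt Cfsg.Agent.DS.Cl Cfsg.Agent.H936
open scoped commutatorElement

theorem dS_subgroupOf {G : Type*} [Group G] {N P : Subgroup G} (h : N ≤ P) (k : ℕ) :
    (dS N k).subgroupOf P = dS (N.subgroupOf P) k := by
  apply Subgroup.map_injective P.subtype_injective
  rw [dS_map, Subgroup.subgroupOf_map_subtype, Subgroup.subgroupOf_map_subtype, inf_eq_left.2 h,
    inf_eq_left.2 ((dS_le N k).trans h)]

variable {D : ChevalleyDatum} {l : ℕ} {M : CoxeterMatrix (Fin l)} {hp : IsType D l M} {p : ℕ} [Fact p.Prime]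
  {G : Type} [Group G] {S H : Subgroup G}

theorem fin_ord (hp : IsType D l M) (y : YY D p) : IsOfFinOrder y := by
  obtain ⟨E, hE⟩ := TowChev.exists_level hp (locFin p) y
  obtain ⟨y', rfl⟩ := hE E le_rfl
  have : Finite ↥(D.group ↥E.1) := TowChev.finite_group
  exact (emb hp.inList E.1.subtype).isOfFinOrder ((isOfFinOrder_of_finite y' :))

theorem fin_tors (hp : IsType D l M) {n : ℕ} (hn : 0 < n) : {t : YY D p | t ∈ TT D (KK p) ∧ t ^ n = 1}.Finite := by
  classical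
  have h1 : {z : KK p | z ^ n = 1}.Finite := by
    refine (Polynomial.nthRoots n (1 : KK p)).toFinset.finite_toSet.subset fun z hz => ?_
    rw [Finset.mem_coe, Multiset.mem_toFinset, Polynomial.mem_nthRoots hn]
    exact hz
  have h3 : (Set.univ.pi fun _ : Fin l => {z : KK p | z ^ n = 1}).Finite := Set.Finite.pi fun _ => h1
  refine Set.Finite.of_finite_image (f := fun t => fun i => cX hp t (sr i)) (h3.subset ?_) ?_
  · rintro _ ⟨t, ⟨ht, htn⟩, rfl⟩ i -
    show cX hp t (sr i) ^ n = 1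
    rw [← cX_pow hp ht, htn, cX_one]
  · rintro s ⟨hs, -⟩ t ⟨ht, -⟩ e
    exact cX_inj hp hs ht fun i => congrFun e i

/-- **A finite invariant subgroup of the torus.** -/
theorem exists_fin (L : Lift hp p S) {A₀ : Subgroup (YY D p)} (h0 : A₀ ≠ ⊥) (hT : Toral p A₀) (hI : L.Inv H A₀) :
    ∃ (z : YY D p) (A : Subgroup (YY D p)), Finite A ∧ A ≠ ⊥ ∧ A ≤ TT D (KK p) ∧ (L.conj z).Inv H A := by
  obtain ⟨z, hz⟩ := hT
  have h1 := L.inv_conj z hI
  set A₁ := A₀.map (MulAut.conj z).toMonoidHom with hA₁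
  have h2 : A₁ ≤ TT D (KK p) := by
    rintro _ ⟨a, ha, rfl⟩
    exact hz a ha
  obtain ⟨a, ha, ha1⟩ := (Subgroup.bot_or_exists_ne_one A₀).resolve_left h0
  obtain ⟨n, hn, han⟩ := isOfFinOrder_iff_pow_eq_one.1 (fin_ord hp (z * a * z⁻¹))
  let A : Subgroup (YY D p) :=
    { carrier := {t | t ∈ A₁ ∧ t ^ n = 1}
      one_mem' := ⟨one_mem _, one_pow _⟩
      mul_mem' := fun {s t} hs ht => ⟨mul_mem hs.1 ht.1, by
        rw [Commute.mul_pow ((by exact TT_comm hp s (h2 hs.1) t (h2 ht.1))), hs.2, ht.2, one_mul]⟩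
      inv_mem' := fun {s} hs => ⟨inv_mem hs.1, by rw [inv_pow, hs.2, inv_one]⟩ }
  refine ⟨z, A, ((fin_tors hp hn).subset fun t ht => ⟨h2 ht.1, ht.2⟩).to_subtype, fun h3 => ?_, fun t ht => h2 ht.1,
    fun φ hφ t ht => ⟨h1 φ hφ t ht.1, by rw [← map_pow, ht.2, map_one]⟩⟩
  have h4 : z * a * z⁻¹ ∈ A := ⟨⟨a, ha, rfl⟩, han⟩
  rw [h3, Subgroup.mem_bot, mul_inv_eq_one, mul_eq_left] at h4
  exact ha1 h4

variable {R : Set (Fin l → ℤ)}

/-- **Lang's theorem**: `σ` becomes a frame automorphism. -/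
theorem lang_step (L : Lift hp p S) (hR : CS hp R) {g : (Fin l → ℤ) ≃+ (Fin l → ℤ)} (h : Act hp p R L.σ g) :
    ∃ y ∈ MS D p R, FR hp p (L.conj y).σ g ∧ Pres R g := by
  obtain ⟨m, hm, β, e, F, P⟩ := h
  have h1 : β = MulAut.conj m⁻¹ * L.σ := by rw [e, map_inv, inv_mul_cancel_left]
  have h2 : IsFrob p L.e β := by
    rw [h1]
    exact L.frob.conj_mul _
  obtain ⟨y, hy, e'⟩ := lang_fr hp M.toCoxeterSystem L.he h2 F hR.root (fun a ha => (P.1 a).2 ha) hm
  refine ⟨y, hy, ?_, P⟩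
  have h3 : (L.conj y).σ = β := by
    rw [Lift.conj_σ, conj_form, e, conj_mul_apply, ← mul_assoc, ← map_mul]
    have h4 : y * (m * β y * m⁻¹)⁻¹ * m = 1 := by
      calc y * (m * β y * m⁻¹)⁻¹ * m = y * m * (β y)⁻¹ := by group
        _ = y * (y⁻¹ * β y) * (β y)⁻¹ := by rw [← e']
        _ = 1 := by group
    rw [h4, map_one, one_mul]
  rw [h3]
  exact F

/-- **Maximality**: the elements of `S` normalizing `M(Ψ)`. -/
theorem mem_of_norm_Ps [Finite G] (L : Lift hp p S) (hs : Setup S H) {A : Subgroup (YY D p)} [Finite A] (h0 : A ≠ ⊥)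
    (hA : A ≤ TT D (KK p)) (hI : L.Inv H A) (hne : (Ps hp p A).Nonempty) {x : S}
    (hx : ∀ m ∈ MS D p (Ps hp p A), L.ι x * m * (L.ι x)⁻¹ ∈ MS D p (Ps hp p A)) : (x : G) ∈ H := by
  rw [L.inv_iff] at hI
  refine L.mem_of_norm hs (fun φ hφ => ?_) ?_ (fun h => h0 ?_) hx
  · obtain ⟨y, hy⟩ := L.wfr φ (L.GH_le H hφ)
    exact map_MS hA (hI φ hφ) hy
  · obtain ⟨y, g, F⟩ := L.fr
    obtain ⟨g', h1⟩ := exists_act hA (hI _ (L.σ_mem_GH hs.normal hs.cent H)) F (cs_Ps hA) le_rfl fun _ _ h => h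
    obtain ⟨z, hz, F', P⟩ := lang_step L (cs_Ps hA) h1
    have := (L.conj z).fin
    obtain ⟨u, hu, hu1, hσ, j, hj⟩ := (fix_main (cs_Ps hA) (L.conj z).he (L.conj z).frob F' P).2.2 hne
    have h2 : z * L.σ (z⁻¹ * u * z) * z⁻¹ = u := hσ
    refine ⟨z⁻¹ * u * z, mul_mem (mul_mem (inv_mem hz) hu) hz, fun h3 => hu1 ?_, ?_, j, ?_⟩
    · calc u = z * (z⁻¹ * u * z) * z⁻¹ := by group
        _ = 1 := by rw [h3]; group
    · calc L.σ (z⁻¹ * u * z) = z⁻¹ * (z * L.σ (z⁻¹ * u * z) * z⁻¹) * z := by group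
        _ = _ := by rw [h2]
    · rw [show z⁻¹ * u * z = z⁻¹ * u * z⁻¹⁻¹ by rw [inv_inv], conj_pow, hj]
      group
  · rw [eq_bot_iff]
    intro a ha
    exact L.cent a fun x => (Mz_comm (hp := hp) hA (h ⟨x, rfl⟩) ha).symm

/-- **The normal form** of a lift with respect to a closed symmetric set of roots `R`. -/
structure NF (L : Lift hp p S) (H : Subgroup G) (R : Set (Fin l → ℤ)) : Prop where
  cs : CS hp R
  fr : ∃ g, FR hp p L.σ g ∧ Pres R g
  act : ∀ φ ∈ L.GH H, ∀ (y : YY D p) (g : (Fin l → ℤ) ≃+ (Fin l → ℤ)), FR hp p (MulAut.conj y * φ) g →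
    ∃ g', Act hp p R φ g'

theorem exists_nf (L : Lift hp p S) (hS : S.Normal) (hC : Subgroup.centralizer (S : Set G) = ⊥) {A : Subgroup (YY D p)}
    [Finite A] (hA : A ≤ TT D (KK p)) (hI : L.Inv H A) (hR : CS hp R) (h1 : Ps hp p A ⊆ R)
    (h2 : ∀ g : (Fin l → ℤ) ≃+ (Fin l → ℤ), (∀ a, RT hp (g a) ↔ RT hp a) → (∀ a, g a ∈ Ps hp p A ↔ a ∈ Ps hp p A) →
      ∀ a, g a ∈ R ↔ a ∈ R) : ∃ z ∈ MS D p R, NF (L.conj z) H R := by
  rw [L.inv_iff] at hI
  obtain ⟨y, g, F⟩ := L.fr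
  obtain ⟨g', h3⟩ := exists_act hA (hI _ (L.σ_mem_GH hS hC H)) F hR h1 h2
  obtain ⟨z, hz, F', P⟩ := lang_step L hR h3
  refine ⟨z, hz, hR, ⟨g', F', P⟩, fun φ hφ y g F => ?_⟩
  rw [L.mem_GH_conj] at hφ
  rw [Lift.eq_cf z φ, ← mul_assoc, ← map_mul] at F
  obtain ⟨g'', h4⟩ := exists_act hA (hI _ hφ) F hR h1 h2
  have h5 := Act.mul hR (Act.mul hR (Act.of_mem hz) h4) (Act.inv hR (Act.of_mem (hp := hp) hz))
  rw [Lift.cf_apply, show MulAut.conj z * ((MulAut.conj z)⁻¹ * φ * MulAut.conj z) * (MulAut.conj z)⁻¹ = φ by group] at h5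
  exact ⟨_, h5⟩

theorem der_inner (L : Lift hp p S) {φ : MulAut (YY D p)} (hφ : φ ∈ dS (L.GH H) 1) : ∃ y, MulAut.conj y = φ := by
  have h1 : dS (L.GH H) 1 ≤ (MulAut.conj : YY D p →* MulAut (YY D p)).range := by
    rw [dS_one, Subgroup.commutator_le]
    intro φ hφ ψ hψ
    obtain ⟨y, hy⟩ := L.der φ (L.GH_le H hφ) ψ (L.GH_le H hψ)
    exact ⟨y, hy.symm⟩
  exact h1 hφ

namespace NF

variable {L : Lift hp p S} (h : NF L H R)

include h

theorem der_le : dS (L.GH H) 1 ≤ EG p h.cs := by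
  intro φ hφ
  obtain ⟨y, rfl⟩ := der_inner L hφ
  refine h.act _ (dS_le _ 1 hφ) y⁻¹ (AddEquiv.refl _) ?_
  rw [← map_mul, inv_mul_cancel, map_one]
  exact Fr.one

theorem le_EG (hD : D ≠ chevF4) : L.GH H ≤ EG p h.cs := by
  intro φ hφ
  obtain ⟨y, g, F, -⟩ := L.sfr (fun e => absurd e hD) φ (L.GH_le H hφ)
  exact h.act φ hφ y g F

variable {ρ : EG p h.cs →* Equiv.Perm (Fin l → ℤ)}
  (hρ : ∀ (φ : EG p h.cs) (g : (Fin l → ℤ) ≃+ (Fin l → ℤ)), Act hp p R φ g → ρ φ = g.toEquiv)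

include hρ

theorem la (N : Subgroup (MulAut (YY D p))) :
    LA M.toCoxeterSystem hp.isCartan R ((N.subgroupOf (EG p h.cs)).map ρ) := by
  rintro _ ⟨φ, -, rfl⟩
  obtain ⟨g, hg⟩ := φ.2
  rw [hρ φ g hg]
  obtain ⟨m, -, β, -, F, P⟩ := hg
  exact ⟨g, fun _ => rfl, F.root, P⟩

theorem inW : InW M.toCoxeterSystem hp.isCartan (((dS (L.GH H) 1).subgroupOf (EG p h.cs)).map ρ) := by
  rintro _ ⟨φ, hφ, rfl⟩
  obtain ⟨g, hg⟩ := φ.2
  rw [hρ φ g hg]
  obtain ⟨y, e⟩ := der_inner L (Subgroup.mem_subgroupOf.1 hφ)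
  rw [← e] at hg
  obtain ⟨w, rfl, -⟩ := hg.inner
  exact ⟨w, fun _ => rfl⟩

theorem inW8 (hD : D ≠ chevF4) (hl : l = 8) :
    InW M.toCoxeterSystem hp.isCartan (((L.GH H).subgroupOf (EG p h.cs)).map ρ) := by
  rintro _ ⟨φ, hφ, rfl⟩
  obtain ⟨g, hg⟩ := φ.2
  rw [hρ φ g hg]
  obtain ⟨y, g', F', e'⟩ := L.sfr (fun e => absurd e hD) φ (L.GH_le H (Subgroup.mem_subgroupOf.1 hφ))
  obtain rfl := e' hl
  obtain ⟨m, -, β, e, F, -⟩ := hg
  have h1 := Fr.mul F F'.inv
  have h2 : β * (MulAut.conj y * (φ : MulAut (YY D p)))⁻¹ = MulAut.conj (m⁻¹ * y⁻¹) := by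
    rw [e, map_mul, map_inv, map_inv]
    group
  rw [h2] at h1
  obtain ⟨w, -, hw⟩ := Tor.inner (hp := hp) h1
  exact ⟨w, fun a => DFunLike.congr_fun hw a⟩

theorem ker_le : dS (L.GH H) 1 ⊓ ρ.ker.map (EG p h.cs).subtype ≤
    (DD D p R ⊓ fixedSubgroup L.σ).map (MulAut.conj : YY D p →* MulAut (YY D p)) := by
  rintro _ ⟨h1, φ, hφ, rfl⟩
  obtain ⟨g, hg⟩ := φ.2
  have h2 : ρ φ = 1 := hφ
  rw [hρ φ g hg] at h2
  obtain ⟨y, e⟩ := der_inner L h1
  have e' : MulAut.conj y = (φ : MulAut (YY D p)) := e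
  rw [← e'] at hg
  obtain ⟨w, rfl, h3⟩ := hg.inner
  refine ⟨y, ⟨h3 (rep_injective M.toCoxeterSystem hp.isCartan ?_), L.fix_of_conj_mem ?_⟩, e⟩
  · rw [map_one]
    exact LinearMap.ext fun a => Equiv.congr_fun h2 a
  · rw [e]
    exact L.GH_le H (dS_le _ 1 h1)

theorem ps_ker (hS : S.Normal) (hC : Subgroup.centralizer (S : Set G) = ⊥) (hH : ∀ x : S, L.ι x ∈ DD D p R → (x : G) ∈ H)
    {d : ℕ} (hd : 4 ≤ d) {f : (Fin l → ℤ) →+ ℤ} (hf : ∀ a ∈ Sp R, 0 < f a ∧ f a < 2 ^ d) :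
    PS (d + 1) ↥(dS (L.GH H) 1 ⊓ ρ.ker.map (EG p h.cs).subtype) := by
  obtain ⟨g, F, P⟩ := h.fr
  have := L.fin
  obtain ⟨h1, h2, -⟩ := fix_main h.cs L.he L.frob F P
  refine ps_down (ps_map _ (h1 d f hd hf)) ((dS_anti _ (show 1 + 1 ≤ d + 1 by omega)).trans (le_inf ?_ ?_)) (h.ker_le hρ)
  · rw [← dS_add]
    refine dS_mono ?_ 1
    rw [← dS_map]
    rintro _ ⟨u, hu, rfl⟩
    have h3 : u ∈ L.KP (DD D p R) := h2 _ (fun y hy => L.conj_KP hy.2 fun m hm => mul_mem ((mul_mem hy.1 hm :)) (inv_mem hy.1))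
      (fun u hu hσ hj => Subgroup.subset_closure ⟨Subgroup.mem_sup_left hu, hσ, hj⟩) hu
    obtain ⟨x, rfl⟩ := L.KP_le_range _ h3
    exact L.conj_mem_GH hS hC (hH x (L.KP_le _ h3))
  · refine (dS_le _ _).trans ?_
    rintro _ ⟨y, hy, rfl⟩
    have h3 := Act.of_mem_DD h.cs hy.1
    exact ⟨⟨MulAut.conj y, _, h3⟩, hρ ⟨MulAut.conj y, _, h3⟩ _ h3, rfl⟩

omit hρ in
theorem ps_of {a b : ℕ} (h1 : PS a ↥(dS (L.GH H) 1 ⊓ ρ.ker.map (EG p h.cs).subtype))
    (h2 : PS b (((dS (L.GH H) 1).subgroupOf (EG p h.cs)).map ρ)) : PS (1 + (a + b)) H :=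
  L.ps_of_GH (ps_up le_rfl (dS_le _ 1) (ps_ext_le h.der_le ρ h1 h2))

end NF

theorem norm_MS (hR : CS hp R) {d : YY D p} (hd : d ∈ DD D p R) : ∀ m ∈ MS D p R, d * m * d⁻¹ ∈ MS D p R := by
  obtain ⟨m', hm', t, ht, rfl⟩ := (mem_DD hR.root).1 hd
  intro m hm
  rw [show m' * t * m * (m' * t)⁻¹ = m' * (t * m * t⁻¹) * m'⁻¹ by group]
  exact mul_mem (mul_mem hm' (T_conj_MS hR.root ht hm)) (inv_mem hm')

theorem norm_MS_of {R' : Set (Fin l → ℤ)} (hR : CS hp R) (hR' : CS hp R')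
    (h : ∀ a ∈ R, ∀ b ∈ R', b ∉ R → ∀ z, ¬ ZB M.toCoxeterSystem hp.isCartan b a z) {d : YY D p} (hd : d ∈ DD D p R') :
    ∀ m ∈ MS D p R, d * m * d⁻¹ ∈ MS D p R := by
  have h1 : MS D p R' ≤ Subgroup.normalizer (MS D p R : Set (YY D p)) := by
    refine RGD.Sup_le fun b hb => ?_
    by_cases hbR : b ∈ R
    · exact (RGD.le_Sup hbR).trans Subgroup.le_normalizer
    · refine le_trans (fun x hx => ?_) (Subgroup.centralizer_le_normalizer _)
      have h2 : MS D p R ≤ Subgroup.centralizer {x} := by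
        refine RGD.Sup_le fun a ha y hy => ?_
        have h3 := commZ hp p b a (hR'.root b hb) (hR.root a ha) (fun e => hbR (e ▸ ha))
          (fun e => hbR (e ▸ hR.neg a ha)) x hx y hy
        have h4 : RGD.Sup (XX D l (KK p)) {z | ZB M.toCoxeterSystem hp.isCartan b a z} ≤ ⊥ :=
          RGD.Sup_le fun z hz => absurd hz (h a ha b hb hbR z)
        rw [Subgroup.mem_centralizer_singleton_iff]
        exact (commutatorElement_eq_one_iff_mul_comm.1 (Subgroup.mem_bot.1 (h4 h3))).symm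
      rw [Subgroup.mem_centralizer_iff]
      intro m hm
      exact Subgroup.mem_centralizer_singleton_iff.1 (h2 hm)
  obtain ⟨m', hm', t, ht, rfl⟩ := (mem_DD hR'.root).1 hd
  intro m hm
  rw [show m' * t * m * (m' * t)⁻¹ = m' * (t * m * t⁻¹) * m'⁻¹ by group]
  exact (Subgroup.mem_normalizer_iff.1 (h1 hm') _).1 (T_conj_MS hR.root ht hm)

theorem mem_DD_conj {L : Lift hp p S} {z : YY D p} (hz : z ∈ MS D p R) {x : S} (hx : (L.conj z).ι x ∈ DD D p R) :
    L.ι x ∈ DD D p R := by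
  rw [Lift.conj_ι] at hx
  rw [show L.ι x = z⁻¹ * (z * L.ι x * z⁻¹) * z by group]
  exact mul_mem (mul_mem (inv_mem (Subgroup.mem_sup_left hz)) hx) (Subgroup.mem_sup_left hz)

theorem cf_of (hCF : BoxCF) (hp : IsType D l M) (hF : D = chevF4) : (∀ a, RT hp a → ht a < 2 ^ 4) ∧
    ∀ R : Set (Fin l → ℤ), (∀ a ∈ R, RT hp a) → (Sp R).Nonempty → ∀ V : Subgroup (Equiv.Perm (Fin l → ℤ)),
      LA M.toCoxeterSystem hp.isCartan R V → InW M.toCoxeterSystem hp.isCartan V → PS 3 V := by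
  subst hF
  exact hCF l M hp

/-- **The toral case.** -/
theorem boxTor_of (hCE : BoxCE) (hCS : BoxCS) (hCF : BoxCF) (hCW : BoxCW) : BoxTor := by
  intro _ D l M hp hD p _ G _ _ S H hs L₀ A₀ h0 hT hI₀
  obtain ⟨z₀, A, hfin, hA0, hA, hI⟩ := exists_fin L₀ h0 hT hI₀
  set L := L₀.conj z₀ with hL
  have hΨ := cs_Ps (hp := hp) hA
  by_cases hne : (Ps hp p A).Nonempty
  · by_cases hF : D = chevF4
    · obtain ⟨z, hz, h⟩ := exists_nf L hs.normal hs.cent hA hI hΨ le_rfl fun _ _ h => h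
      obtain ⟨ρ, hρ⟩ := exists_rho p h.cs
      obtain ⟨h1, h2⟩ := cf_of hCF hp hF
      have h3 : (Sp (Ps hp p A)).Nonempty := by
        obtain ⟨a, ha⟩ := hne
        rcases (hΨ.root a ha).pos_or_neg with h4 | h4
        · exact ⟨a, ha, h4⟩
        · exact ⟨-a, hΨ.neg a ha, neg_nonneg.2 h4⟩
      have h4 := h.ps_ker hρ hs.normal hs.cent (fun x hx => mem_of_norm_Ps L hs hA0 hA hI hne
        (norm_MS hΨ (mem_DD_conj hz hx))) (d := 4) le_rfl (f := Slope.htHom)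
        fun a ha => ⟨RGD.ht_pos (hΨ.root a ha.1) ha.2, h1 a (hΨ.root a ha.1)⟩
      have h5 := h.ps_of h4 (h2 _ hΨ.root h3 _ (h.la hρ _) (h.inW hρ))
      exact h5
    · have hE : TypE D := hD.resolve_left hF
      obtain ⟨c1, c2, c3, c4, c5⟩ := hCS D l M hp hE _ hΨ.cl hΨ.neg
      have hR : CS hp (Star M.toCoxeterSystem hp.isCartan (Ps hp p A)) := ⟨c1, c2⟩
      obtain ⟨z, hz, h⟩ := exists_nf L hs.normal hs.cent hA hI hR Set.subset_union_left c4
      obtain ⟨ρ, hρ⟩ := exists_rho p h.cs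
      have e : dS ((((L.conj z).GH H).subgroupOf (EG p h.cs)).map ρ) 1 =
          ((dS ((L.conj z).GH H) 1).subgroupOf (EG p h.cs)).map ρ := by
        rw [← dS_map, dS_subgroupOf (h.le_EG hF)]
      obtain ⟨d, hd, hd', ⟨f, hf⟩, h1⟩ := hCE D l M hp hE _ c1 c2 c3 _ (h.la hρ ((L.conj z).GH H))
        (by rw [e]; exact h.inW hρ)
      rw [e] at h1
      have h2 := h.ps_of (h.ps_ker hρ hs.normal hs.cent (fun x hx => mem_of_norm_Ps L hs hA0 hA hI hne
        (norm_MS_of hΨ hR c5 (mem_DD_conj hz hx))) hd hf) h1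
      rwa [show 1 + (d + 1 + (7 - d)) = 9 by omega] at h2
  · obtain ⟨z, hz, h⟩ := exists_nf L hs.normal hs.cent hA hI hΨ le_rfl fun _ _ h => h
    obtain ⟨ρ, hρ⟩ := exists_rho p h.cs
    have h1 : DD D p (Ps hp p A) ≤ TT D (KK p) :=
      sup_le (RGD.Sup_le fun a ha => absurd ⟨a, ha⟩ hne) le_rfl
    refine h.ps_of (ρ := ρ) (a := 1) (b := 7) (ps_of_comm fun φ hφ ψ hψ => ?_) ?_
    · obtain ⟨s, hs, rfl⟩ := h.ker_le hρ hφ
      obtain ⟨t, ht, rfl⟩ := h.ker_le hρ hψ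
      rw [← map_mul, ← map_mul, TT_comm hp s (h1 hs.1) t (h1 ht.1)]
    · by_cases hl : l = 8
      · have hF : D ≠ chevF4 := fun e => by
          have := (typ_l hp).1 e
          omega
        have h2 := (hCW D l M hp hD _ (h.inW8 hρ hF hl)).1
        rw [dS_subgroupOf (h.le_EG hF), dS_map, ps_iff, dS_add, dS_add]
        exact ps_iff.1 h2
      · exact (hCW D l M hp hD _ (h.inW hρ)).2 hl

end Cfsg.Agent.DS.Ex.Tor

namespace Cfsg.Agent.DS.Ex

/-- **[X2] the toral case.** -/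
theorem boxTor : BoxTor := Tor.boxTor_of TorCE.boxCE TorCE.boxCS TorCF.boxCF TorCF.boxCW

end Cfsg.Agent.DS.Ex
end

private theorem dce_6f657ea85e40 : _root_.True := by
  try have : _root_.True := by simp only [_root_.Cfsg.Agent.DS.Ex.TorCF.st4.eq_4]
  try have : _root_.True := by simp only [_root_.Cfsg.Agent.DS.Ex.TorCF.st4.eq_3]
  try have : _root_.True := by simp only [_root_.Cfsg.Agent.DS.Ex.TorCF.expand.eq_1]
  try have : _root_.True := by simp only [_root_.Cfsg.Agent.ChevalleyStructure.CoxeterGeom.refl.eq_1]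
  try have : _root_.True := by simp only [_root_.Cfsg.Agent.DS.Ex.TorCF.toV.eq_1]
  try have : _root_.True := by simp only [_root_.Cfsg.Agent.DS.Ex.TorCF.st4.eq_1]
  try have : _root_.True := by simp only [_root_.Cfsg.Agent.DS.Ex.TorCF.st4.eq_2]
  exact _root_.True.intro
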